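import Cfsg.Agent.SUPres.RankOne
import Cfsg.Agent.PresLib.Bruhat

/-!
# The Bruhat decomposition of the amalgam and injectivity
-/

set_option autoImplicit false
set_option linter.unusedSectionVars false
set_option linter.unusedSimpArgs false
set_option maxHeartbeats 1000000

namespace CfsgLib.SUPres

open Matrix CfsgLib.RepBounds.Unit CfsgLib.SUThreeUnipotent CfsgLib.SUTwoGen CfsgLib.SL2Pres CfsgLib.SLnPres
open CfsgLib.SpnPres (IsMon monOf isMon_monOf)
open CfsgLib.DnPres (eA eA_xU eA_wW_mon' eA_hD_mon)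
open scoped commutatorElement

variable {F : Type*} [Field F] [Fintype F] {C : ConjField F} {ι : Type*} [Fintype ι] [DecidableEq ι] {k : ℕ}

/-- Names of roots. -/
inductive RT (m : ℕ) : Type
  | P (c d : SI m) : RT m
  | Q (c : SI m) : RT m

/-- The height of a signed index. -/
def ht {m : ℕ} : SI m → ℤ := Sum.elim (fun i => 2 * ((m : ℤ) - i.val) - 1) (fun i => -(2 * ((m : ℤ) - i.val) - 1))

theorem ht_swap {m : ℕ} (c : SI m) : ht c.swap = -ht c := by rcases c with i | i <;> simp [ht]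

theorem ht_inj {m : ℕ} {c d : SI m} (h : ht c = ht d) : c = d := by
  rcases c with i | i <;> rcases d with j | j <;> simp only [ht, Sum.elim_inl, Sum.elim_inr] at h
  · exact congrArg _ (Fin.ext (by omega))
  · have := i.isLt; have := j.isLt; omega
  · have := i.isLt; have := j.isLt; omega
  · exact congrArg _ (Fin.ext (by omega))

theorem ht_odd {m : ℕ} (c : SI m) : ∃ x : ℤ, ht c = 2 * x + 1 := by
  rcases c with i | i
  · exact ⟨(m : ℤ) - i.val - 1, by simp only [ht, Sum.elim_inl]; omega⟩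
  · exact ⟨-((m : ℤ) - i.val), by simp only [ht, Sum.elim_inr]; omega⟩

namespace RT

variable {m : ℕ}

/-- The height of a root. -/
def rt : RT m → ℤ
  | P c d => ht c + ht d
  | Q c => 2 * ht c

/-- The root involves the index `i`. -/
def Has : RT m → ℕ → Prop
  | P c d, i => (ix c).val = i ∨ (ix d).val = i
  | Q c, i => (ix c).val = i

/-- All indices of the root are at least `i`. -/
def Lo : RT m → ℕ → Prop
  | P c d, i => i ≤ (ix c).val ∧ i ≤ (ix d).val
  | Q c, i => i ≤ (ix c).val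

/-- The allowed targets of commutators. -/
def Tgt (r s t : RT m) : Prop :=
  4 ≤ t.rt ∧ (∀ i, r.Lo i → s.Lo i → t.Lo i) ∧ (∀ i, (r.Has i ∧ ¬ s.Has i) ∨ (s.Has i ∧ ¬ r.Has i) → t.Has i)

theorem Tgt.symm {r s t : RT m} (h : Tgt r s t) : Tgt s r t :=
  ⟨h.1, fun i h1 h2 => h.2.1 i h2 h1, fun i hi => h.2.2 i hi.symm⟩

end RT

namespace QData

variable {Φ : PFrame C (k + 2) ι} {G : Type*} [Group G] (A : QData Φ G)

/-- The root group of a root. -/
def X : RT (k + 2) → Subgroup G
  | .P c d => A.XP c d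
  | .Q c => A.XQ c

/-- The group of a set of roots. -/
def UU (S : RT (k + 2) → Prop) : Subgroup G := ⨆ r, ⨆ _ : S r, A.X r

theorem le_UU {S : RT (k + 2) → Prop} {r : RT (k + 2)} (h : S r) : A.X r ≤ A.UU S :=
  le_trans (le_iSup (fun _ : S r => A.X r) h) (le_iSup (fun r => ⨆ _ : S r, A.X r) r)

theorem UU_le {S : RT (k + 2) → Prop} {W : Subgroup G} (h : ∀ r, S r → A.X r ≤ W) : A.UU S ≤ W :=
  iSup_le fun r => iSup_le fun hr => h r hr

theorem UU_mono {S T : RT (k + 2) → Prop} (h : ∀ r, S r → T r) : A.UU S ≤ A.UU T :=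
  A.UU_le fun r hr => A.le_UU (h r hr)

theorem XP_comm_self (c d : SI (k + 2)) : ⁅A.XP c d, A.XP c d⁆ = ⊥ := by
  by_cases h : ix c = ix d
  · rw [A.XP_bot h]; simp
  refine le_bot_iff.1 (Subgroup.commutator_le.2 fun x hx y hy => ?_)
  rw [Subgroup.mem_bot, commutatorElement_eq_one_iff_commute]
  obtain ⟨r, hr⟩ := (A.XP_image h).1 x hx
  obtain ⟨s, hs⟩ := (A.XP_image h).1 y hy
  exact A.XP_ext (mul_mem hx hy) (mul_mem hy hx)
    (by rw [map_mul, map_mul, hr, hs, ← pEl_add (ne_of_ix h).2, ← pEl_add (ne_of_ix h).2, add_comm r s])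

theorem comm_P_one {c d d' : SI (k + 2)} (hcd : ix c ≠ ix d) (hcd' : ix c ≠ ix d') (hdd : ix d ≠ ix d')
    (c' : SI (k + 2)) (hc' : c' = c ∨ c' = c.swap) (hr : 0 < ht c + ht d) (hs : 0 < ht c' + ht d')
    {r s : RT (k + 2)} (er : r = .P c d ∨ r = .P d c) (es : s = .P c' d' ∨ s = .P d' c') :
    ⁅A.XP c d, A.XP c' d'⁆ ≤ A.UU (RT.Tgt r s) := by
  rcases hc' with rfl | rfl
  · rw [A.comm_share hcd hcd' hdd]; exact bot_le
  · have h := A.comm_chain (c := d) (d := c) (e := d') hcd.symm hdd hcd'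
    rw [A.XP_symm d c] at h
    refine h.trans (A.le_UU (r := .P d d') ⟨?_, ?_, ?_⟩)
    · show 4 ≤ ht d + ht d'
      rw [ht_swap] at hs
      obtain ⟨x, hx⟩ := ht_odd c; obtain ⟨y, hy⟩ := ht_odd d; obtain ⟨z, hz⟩ := ht_odd d'
      omega
    · intro i
      rcases er with rfl | rfl <;> rcases es with rfl | rfl <;> simp only [RT.Lo, ix_swap] <;> omega
    · intro i
      rcases er with rfl | rfl <;> rcases es with rfl | rfl <;> simp only [RT.Has, ix_swap] <;> omega

theorem comm_P_two {c d : SI (k + 2)} (h : ix c ≠ ix d) (hr : 0 < ht c + ht d) (hs : 0 < ht c + ht d.swap)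
    {r s : RT (k + 2)} (er : r = .P c d ∨ r = .P d c) (es : s = .P c d.swap ∨ s = .P d.swap c) :
    ⁅A.XP c d, A.XP c d.swap⁆ ≤ A.UU (RT.Tgt r s) := by
  refine (A.comm_PP h).trans (A.le_UU (r := .Q c) ⟨?_, ?_, ?_⟩)
  · show 4 ≤ 2 * ht c
    rw [ht_swap] at hs
    obtain ⟨x, hx⟩ := ht_odd c; obtain ⟨y, hy⟩ := ht_odd d
    omega
  · intro i
    rcases er with rfl | rfl <;> rcases es with rfl | rfl <;> simp only [RT.Lo, ix_swap] <;> omega
  · intro i
    rcases er with rfl | rfl <;> rcases es with rfl | rfl <;> simp only [RT.Has, ix_swap] <;> omega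

theorem comm_PPs {c d e f : SI (k + 2)} (hr : 0 < ht c + ht d) (hs : 0 < ht e + ht f) :
    ⁅A.XP c d, A.XP e f⁆ ≤ A.UU (RT.Tgt (.P c d) (.P e f)) := by
  by_cases hcd : ix c = ix d
  · rw [A.XP_bot hcd, Subgroup.commutator_bot_left]; exact bot_le
  by_cases hef : ix e = ix f
  · rw [A.XP_bot hef, Subgroup.commutator_bot_right]; exact bot_le
  have key : ∀ {a b a' b' : SI (k + 2)}, ix a ≠ ix b → ix a' ≠ ix b' → 0 < ht a + ht b → 0 < ht a' + ht b' →
      ix a = ix a' → ∀ {r s : RT (k + 2)}, (r = .P a b ∨ r = .P b a) → (s = .P a' b' ∨ s = .P b' a') →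
      ⁅A.XP a b, A.XP a' b'⁆ ≤ A.UU (RT.Tgt r s) := by
    intro a b a' b' h h' p p' e r s er es
    by_cases hb : ix b = ix b'
    · rcases ix_eq_iff.1 e with ea | ea <;> rcases ix_eq_iff.1 hb with eb | eb <;> subst a' b'
      · rw [A.XP_comm_self]; exact bot_le
      · exact A.comm_P_two h p p' er es
      · rw [A.XP_symm a b, A.XP_symm a.swap b]
        exact A.comm_P_two h.symm (by rwa [add_comm]) (by rwa [add_comm]) er.symm es.symm
      · rw [ht_swap, ht_swap] at p'; omega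
    · refine A.comm_P_one h (by rw [e]; exact h') hb a' ?_ p p' er es
      exact ix_eq_iff.1 e
  by_cases h1 : ix c = ix e
  · exact key hcd hef hr hs h1 (Or.inl rfl) (Or.inl rfl)
  by_cases h2 : ix c = ix f
  · rw [A.XP_symm e f]; exact key hcd (Ne.symm hef) hr (by rwa [add_comm]) h2 (Or.inl rfl) (Or.inr rfl)
  by_cases h3 : ix d = ix e
  · rw [A.XP_symm c d]; exact key (Ne.symm hcd) hef (by rwa [add_comm]) hs h3 (Or.inr rfl) (Or.inl rfl)
  by_cases h4 : ix d = ix f
  · rw [A.XP_symm c d, A.XP_symm e f]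
    exact key (Ne.symm hcd) (Ne.symm hef) (by rwa [add_comm]) (by rwa [add_comm]) h4 (Or.inr rfl) (Or.inr rfl)
  rw [A.comm_disj (c := c) (d := d) (e := e) (f := f) (by
    intro a b hab
    revert hab
    clear key hr hs
    fin_cases a <;> fin_cases b <;> simp [hcd, hef, h1, h2, h3, h4, Ne.symm hcd, Ne.symm hef, Ne.symm h1,
      Ne.symm h2, Ne.symm h3, Ne.symm h4])]
  exact bot_le

theorem comm_PQs {c d e : SI (k + 2)} (hr : 0 < ht c + ht d) (hs : 0 < ht e) :
    ⁅A.XP c d, A.XQ e⁆ ≤ A.UU (RT.Tgt (.P c d) (.Q e)) := by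
  by_cases hcd : ix c = ix d
  · rw [A.XP_bot hcd, Subgroup.commutator_bot_left]; exact bot_le
  have key : ∀ {a b : SI (k + 2)}, ix a ≠ ix b → 0 < ht a + ht b → ix e = ix b →
      ∀ {r : RT (k + 2)}, (r = .P a b ∨ r = .P b a) → ⁅A.XP a b, A.XQ e⁆ ≤ A.UU (RT.Tgt r (.Q e)) := by
    intro a b h p he r er
    rcases ix_eq_iff.1 he.symm with rfl | rfl
    · rw [A.XP_symm, A.comm_PQa h.symm]; exact bot_le
    refine (A.comm_PQc h).trans (sup_le (A.le_UU (r := .Q a) ?_) (A.le_UU (r := .P a b.swap) ?_))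
    all_goals rw [ht_swap] at hs
    all_goals obtain ⟨x, hx⟩ := ht_odd a
    all_goals obtain ⟨y, hy⟩ := ht_odd b
    · refine ⟨show (4 : ℤ) ≤ 2 * ht a by omega, ?_, ?_⟩ <;> intro i <;> rcases er with rfl | rfl <;>
        simp only [RT.Lo, RT.Has, ix_swap] <;> omega
    · refine ⟨show (4 : ℤ) ≤ ht a + ht b.swap by rw [ht_swap]; omega, ?_, ?_⟩ <;> intro i <;>
        rcases er with rfl | rfl <;> simp only [RT.Lo, RT.Has, ix_swap] <;> omega
  by_cases h1 : ix e = ix d
  · exact key hcd hr h1 (Or.inl rfl)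
  by_cases h2 : ix e = ix c
  · rw [A.XP_symm c d]; exact key (Ne.symm hcd) (by rwa [add_comm]) h2 (Or.inr rfl)
  rw [A.comm_PQb hcd (Ne.symm h2) (Ne.symm h1)]
  exact bot_le

theorem comm_pos {r s : RT (k + 2)} (hr : 0 < r.rt) (hs : 0 < s.rt) (hne : ∀ c, r = .Q c → s ≠ .Q c) :
    ⁅A.X r, A.X s⁆ ≤ A.UU (RT.Tgt r s) := by
  rcases r with ⟨c, d⟩ | c <;> rcases s with ⟨e, f⟩ | e <;> simp only [RT.rt] at hr hs
  · exact A.comm_PPs hr hs
  · exact A.comm_PQs hr (by omega)
  · rw [Subgroup.commutator_comm]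
    exact (A.comm_PQs hs (by omega)).trans (A.UU_mono fun t h => h.symm)
  · by_cases h : ix c = ix e
    · rcases ix_eq_iff.1 h with rfl | rfl
      · exact absurd rfl (hne e rfl)
      · rw [ht_swap] at hs; omega
    refine (A.comm_QQ h).trans (A.le_UU (r := .P c e) ?_)
    obtain ⟨x, hx⟩ := ht_odd c
    obtain ⟨y, hy⟩ := ht_odd e
    have hxy : ht c ≠ ht e := fun e' => h (by rw [ht_inj e'])
    refine ⟨show (4 : ℤ) ≤ ht c + ht e by omega, ?_, ?_⟩ <;> intro i <;>
      simp only [RT.Lo, RT.Has] <;> omega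

theorem finite_UU_aux {W : Subgroup G} {S : RT (k + 2) → Prop} {x : G}
    (h : ∀ r, S r → ∀ y ∈ A.X r, x * y * x⁻¹ ∈ W) {y : G} (hy : y ∈ A.UU S) : x * y * x⁻¹ ∈ W := by
  have : A.UU S ≤ W.comap (MulAut.conj x).toMonoidHom := A.UU_le fun r hr y hy => h r hr y hy
  exact this hy

theorem norm_UU {S T : RT (k + 2) → Prop}
    (h : ∀ r s, S r → T s → ⁅A.X r, A.X s⁆ ≤ A.UU T) : A.UU S ≤ Subgroup.normalizer (A.UU T : Set G) := by
  refine A.UU_le fun r hr => ?_
  exact le_normalizer_of_conj fun x hx y hy => A.finite_UU_aux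
    (fun s hs z hz => conj_mem_of_commutator_le (A.le_UU hs) (h r s hr hs) hx hz) hy

/-- The positive roots with indices at least `i`. -/
def Lev (i : ℕ) (r : RT (k + 2)) : Prop := 0 < r.rt ∧ r.Lo i

/-- Those involving the index `i`. -/
def Top (i : ℕ) (r : RT (k + 2)) : Prop := Lev i r ∧ r.Has i

theorem app_X_fix {r : RT (k + 2)} {d : SI (k + 2)} (hd : ¬ r.Has (ix d).val) {x : G} (hx : x ∈ A.X r) :
    app C (A.φ x) (Φ.v d) = Φ.v d := by
  rcases r with ⟨c, e⟩ | c
  · simp only [RT.Has, not_or] at hd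
    by_cases h : ix c = ix e
    · rw [show A.X (.P c e) = A.XP c e from rfl, A.XP_bot h, Subgroup.mem_bot] at hx
      rw [hx, map_one, app_one]
    obtain ⟨s, hs⟩ := (A.XP_image h).1 x hx
    rw [hs, app_pEl (ne_of_ix h).2, herm_v0 Φ (show c ≠ d.swap from fun e' => hd.1 (by rw [e', ix_swap])),
      herm_v0 Φ (show e ≠ d.swap from fun e' => hd.2 (by rw [e', ix_swap]))]
    simp
  · obtain ⟨a, γ, hv, hq⟩ := (A.XQ_image c).1 x hx
    rw [hq]
    exact qEl_fix hv (fun e' => hd (by show (ix c).val = _; rw [e']))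

theorem Top_form {i : ℕ} {r : RT (k + 2)} (h : Top i r) :
    ∃ j : Fin (k + 2), j.val = i ∧ ((∃ d : SI (k + 2), i < (ix d).val ∧ A.X r = A.XP (.inl j) d) ∨
      A.X r = A.XQ (.inl j) ∨ A.X r = ⊥) := by
  obtain ⟨⟨hpos, hlo⟩, hhas⟩ := h
  rcases r with ⟨c, d⟩ | c
  · have key : ∀ {a b : SI (k + 2)}, (ix a).val = i → i ≤ (ix b).val → 0 < ht a + ht b → A.X (.P c d) = A.XP a b →
        ∃ j : Fin (k + 2), j.val = i ∧ ((∃ e : SI (k + 2), i < (ix e).val ∧ A.X (.P c d) = A.XP (.inl j) e) ∨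
          A.X (.P c d) = A.XQ (.inl j) ∨ A.X (.P c d) = ⊥) := by
      intro a b ha hb hp e
      refine ⟨ix a, ha, ?_⟩
      by_cases hab : ix a = ix b
      · exact Or.inr (Or.inr (e.trans (A.XP_bot hab)))
      refine Or.inl ⟨b, lt_of_le_of_ne hb (fun e' => hab (Fin.ext (by omega))), ?_⟩
      rcases a with j | j
      · exact e
      · exfalso
        have hb' := lt_of_le_of_ne hb (fun e' => hab (Fin.ext (by omega)))
        rcases b with l | l <;> simp only [ht, Sum.elim_inl, Sum.elim_inr, ix_inl, ix_inr] at * <;> omega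
    rcases hhas with h' | h'
    · exact key h' hlo.2 hpos rfl
    · exact key h' hlo.1 (by simp only [RT.rt] at hpos; omega) (A.XP_symm c d)
  · refine ⟨ix c, hhas, Or.inr (Or.inl ?_)⟩
    rcases c with j | j
    · rfl
    · exfalso
      simp only [RT.rt, ht, Sum.elim_inr] at hpos
      have := j.isLt; omega

/-- The root groups at `+i` towards a set of indices. -/
def Vs (j : Fin (k + 2)) (S : Finset (SI (k + 2))) : Subgroup G := A.XQ (.inl j) ⊔ ⨆ d ∈ S, A.XP (.inl j) d

theorem Vs_keep {j : Fin (k + 2)} {S : Finset (SI (k + 2))} (hS : ∀ d ∈ S, ix d ≠ j) {e : SI (k + 2)}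
    (he : e = .inl j ∨ (ix e ≠ j ∧ e.swap ∉ S)) {x : G} (hx : x ∈ A.Vs j S) (y : ι → F) :
    herm C (app C (A.φ x) y) (Φ.v e) = herm C y (Φ.v e) := by
  let K : Subgroup G :=
    { carrier := {x | ∀ y, herm C (app C (A.φ x) y) (Φ.v e) = herm C y (Φ.v e)}
      one_mem' := fun y => by rw [map_one, app_one]
      mul_mem' := fun {a b} ha hb y => by rw [map_mul, app_mul, ha, hb]
      inv_mem' := fun {a} ha y => by
        have := ha (app C (A.φ a⁻¹) y)
        rw [map_inv, app_app_inv] at this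
        rw [map_inv]; exact this.symm }
  have hj : herm C (Φ.v (.inl j)) (Φ.v e) = 0 := by
    refine herm_v0 Φ fun e' => ?_
    rcases he with rfl | ⟨h1, -⟩
    · simp at e'
    · exact h1 (by rw [e']; rfl)
  suffices A.Vs j S ≤ K from this hx y
  refine sup_le (fun x hx y => ?_) (iSup₂_le fun d hd x hx y => ?_)
  · obtain ⟨a, γ, hv, hq⟩ := (A.XQ_image _).1 x hx
    rw [hq, app_qEl hv, herm_add_left, herm_add_left, herm_smul_left, herm_smul_left, hj, Φ.xv]; ring
  · have hne : ix (.inl j : SI (k + 2)) ≠ ix d := fun e' => hS d hd e'.symm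
    obtain ⟨r, hr⟩ := (A.XP_image hne).1 x hx
    have hd' : herm C (Φ.v d) (Φ.v e) = 0 := by
      refine herm_v0 Φ fun e' => ?_
      rcases he with rfl | ⟨-, h2⟩
      · exact hS d hd (by rw [show d = (Sum.inl j : SI (k + 2)).swap from by rw [e', Sum.swap_swap], ix_swap, ix_inl])
      · exact h2 (by rwa [e', Sum.swap_swap])
    rw [hr, app_pEl (ne_of_ix hne).2, herm_sub_left, herm_add_left, herm_smul_left, herm_smul_left, hj, hd']; ring

theorem Vs_inj {j : Fin (k + 2)} : ∀ S : Finset (SI (k + 2)), (∀ d ∈ S, ix d ≠ j) → ∀ x ∈ A.Vs j S,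
    Mv Φ (A.φ x) (.inr j) (.inr j) → x = 1 := by
  intro S
  induction S using Finset.induction_on with
  | empty =>
    intro _ x hx hm
    have hx' : x ∈ A.XQ (.inl j) := by simpa [Vs] using hx
    obtain ⟨a, γ, hv, hq⟩ := (A.XQ_image _).1 x hx'
    refine A.XQ_inj _ x hx' (hq.trans (((qEl_eq_iff hv QV.zero).2 ?_).trans (qEl_zero _)))
    obtain ⟨r, -, hr⟩ := hm
    rw [hq, app_qEl hv, Φ.vx] at hr
    simp only [herm_vv, Sum.swap_inr, if_true, one_mul, mul_one] at hr
    have hxy := congrArg (fun y => herm C y Φ.x0) hr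
    have hz := congrArg (fun y => herm C y (Φ.v (.inr j))) hr
    simp only [herm_add_left, herm_smul_left, herm_vv, Φ.vx, Φ.xv, Φ.self, Sum.swap_inl, Sum.swap_inr, if_true,
      reduceCtorEq, if_false, mul_zero, add_zero, zero_add, mul_one, one_mul, sub_zero] at hxy hz
    refine ⟨?_, hz⟩
    rw [zero_smul, ← eps_smul Φ, smul_smul]
    rw [← eps] at hxy
    rw [hxy, zero_smul]
  | insert d S hd ih =>
    intro hS x hx hm
    have hS' : ∀ e ∈ S, ix e ≠ j := fun e he => hS e (Finset.mem_insert_of_mem he)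
    have hne : ix (.inl j : SI (k + 2)) ≠ ix d := fun e' => hS d (Finset.mem_insert_self _ _) e'.symm
    have hn : A.XP (.inl j) d ≤ Subgroup.normalizer (A.Vs j S : Set G) := by
      refine le_normalizer_of_conj fun a ha b hb => ?_
      have hle : A.Vs j S ≤ (A.Vs j S).comap (MulAut.conj a).toMonoidHom := by
        refine sup_le (fun y hy => conj_mem_of_commutator_le (B := A.XQ (.inl j)) le_sup_left
          ((A.comm_PQa hne).le.trans bot_le) ha hy) (iSup₂_le fun e he y hy => ?_)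
        refine conj_mem_of_commutator_le (B := A.XP (.inl j) e)
          (le_sup_of_le_right (le_iSup₂ (f := fun e (_ : e ∈ S) => A.XP (.inl j) e) e he)) ?_ ha hy
        by_cases hde : ix d = ix e
        · rcases ix_eq_iff.1 hde with rfl | rfl
          · rw [A.XP_comm_self]; exact bot_le
          · exact (A.comm_PP hne).trans le_sup_left
        · rw [A.comm_share hne (fun e' => hS' e he e'.symm) hde]; exact bot_le
      exact hle hb
    have hx' : x ∈ A.XP (.inl j) d ⊔ A.Vs j S := by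
      refine (sup_le (le_sup_of_le_right le_sup_left) (iSup₂_le fun e he => ?_) : A.Vs j (insert d S) ≤ _) hx
      rcases Finset.mem_insert.1 he with rfl | he
      · exact le_sup_left
      · exact le_sup_of_le_right (le_sup_of_le_right (le_iSup₂ (f := fun e (_ : e ∈ S) => A.XP (.inl j) e) e he))
    obtain ⟨a, ha, b, hb, rfl⟩ := exists_mul_of_sup hn hx'
    obtain ⟨r, hr⟩ := (A.XP_image hne).1 a ha
    obtain ⟨h1, h2⟩ := ne_of_ix hne
    have k1 := A.Vs_keep hS' (e := d.swap) (Or.inr ⟨by rw [ix_swap]; exact Ne.symm hne, by rwa [Sum.swap_swap]⟩) hb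
      (Φ.v (.inr j))
    have k2 := A.Vs_keep hS' (e := .inl j) (Or.inl rfl) hb (Φ.v (.inr j))
    obtain ⟨l, -, hl⟩ := hm
    rw [map_mul, app_mul, hr] at hl
    have := congrArg (fun y => herm C y (Φ.v d.swap)) hl
    simp only [app_pEl h2, herm_sub_left, herm_add_left, herm_smul_left, k1, k2, herm_v1] at this
    rw [herm_v0 Φ (show d.swap ≠ (Sum.inl j : SI (k + 2)).swap from fun e' => h1 (by simpa using congrArg Sum.swap e')),
      herm_v0 Φ (show d.swap ≠ (Sum.inr j : SI (k + 2)).swap from fun e' => h2 (by simpa using congrArg Sum.swap e')),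
      herm_vv, if_pos (by rfl)] at this
    simp at this
    have ha1 : a = 1 := A.XP_inj ha (by rw [hr, this, pEl_zero h2])
    subst ha1
    rw [one_mul]
    refine ih hS' b hb ⟨l, scalar_ne (Φ := Φ) (g := A.φ b) (c := .inr j) (d := .inr j) ?_, ?_⟩ <;>
    · rw [this, pEl_zero h2, app_one] at hl; exact hl

theorem Top_le (i : ℕ) (j : Fin (k + 2)) (hj : j.val = i) :
    A.UU (Top i) ≤ A.Vs j (Finset.univ.filter fun d => i < (ix d).val) := by
  refine A.UU_le fun r hr => ?_
  obtain ⟨j', hj', h⟩ := A.Top_form hr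
  obtain rfl : j' = j := Fin.ext (by omega)
  rcases h with ⟨d, hd, e⟩ | e | e <;> rw [e]
  · exact le_sup_of_le_right (le_iSup₂ (f := fun d (_ : d ∈ Finset.univ.filter fun d => i < (ix d).val) =>
      A.XP (.inl j') d) d (by simpa using hd))
  · exact le_sup_left
  · exact bot_le

theorem Lev_norm (i : ℕ) :
    A.UU (Lev (i + 1)) ≤ Subgroup.normalizer (A.UU (Top i) : Set G) := by
  refine A.norm_UU fun r s hr hs => ?_
  refine (A.comm_pos hr.1 hs.1.1 ?_).trans (A.UU_mono fun t ht => ?_)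
  · rintro c rfl rfl
    have h1 := hr.2; have h2 := hs.2
    simp only [RT.Lo, RT.Has] at h1 h2
    omega
  · refine ⟨⟨by linarith [ht.1], ht.2.1 i ?_ hs.1.2⟩, ht.2.2 i (Or.inr ⟨hs.2, ?_⟩)⟩
    · have := hr.2
      rcases r with ⟨c, d⟩ | c <;> simp only [RT.Lo] at this ⊢ <;> omega
    · have := hr.2
      rcases r with ⟨c, d⟩ | c <;> simp only [RT.Lo, RT.Has] at this ⊢ <;> omega

theorem Lev_split (i : ℕ) : A.UU (Lev i) ≤ A.UU (Lev (i + 1)) ⊔ A.UU (Top i) := by
  refine A.UU_le fun r hr => ?_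
  by_cases h : r.Has i
  · exact le_sup_of_le_right (A.le_UU ⟨hr, h⟩)
  · refine le_sup_of_le_left (A.le_UU ⟨hr.1, ?_⟩)
    have := hr.2
    rcases r with ⟨c, d⟩ | c <;> simp only [RT.Lo, RT.Has] at this h ⊢ <;> omega

theorem U_inj : ∀ n i : ℕ, k + 2 ≤ i + n → ∀ x ∈ A.UU (Lev i), (∀ d, Mv Φ (A.φ x) d d) → x = 1 := by
  intro n
  induction n with
  | zero =>
    intro i hi x hx _
    have : A.UU (Lev i) ≤ ⊥ := A.UU_le fun r hr => by
      exfalso
      have := hr.2
      rcases r with ⟨c, d⟩ | c <;> simp only [RT.Lo] at this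
      · have := (ix c).isLt; omega
      · have := (ix c).isLt; omega
    simpa using this hx
  | succ n ih =>
    intro i hi x hx hm
    by_cases hik : k + 2 ≤ i
    · exact ih i (by omega) x hx hm
    set j : Fin (k + 2) := ⟨i, by omega⟩ with hj
    obtain ⟨u, hu, v, hv, rfl⟩ := exists_mul_of_sup (A.Lev_norm i) (A.Lev_split i hx)
    have hfix : app C (A.φ u) (Φ.v (.inr j)) = Φ.v (.inr j) := by
      let K : Subgroup G :=
        { carrier := {x | app C (A.φ x) (Φ.v (.inr j)) = Φ.v (.inr j)}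
          one_mem' := by show app C (A.φ 1) _ = _; rw [map_one, app_one]
          mul_mem' := fun {a b} ha hb => by
            show app C (A.φ (a * b)) _ = _
            rw [map_mul, app_mul, hb, ha]
          inv_mem' := fun {a} ha => by
            show app C (A.φ a⁻¹) _ = _
            rw [map_inv]; exact app_inv_eq C ha }
      refine (A.UU_le (W := K) fun r hr y hy => ?_) hu
      refine A.app_X_fix ?_ hy
      have := hr.2
      rcases r with ⟨c, d⟩ | c <;> simp only [RT.Lo, RT.Has, ix_inr, hj] at this ⊢ <;> omega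
    have hvm : Mv Φ (A.φ v) (.inr j) (.inr j) := by
      have h1 := hm (.inr j)
      rw [map_mul] at h1
      have h2 : Mv Φ (A.φ u) (.inr j) (.inr j) := Mv.intro (a := 1) (by rw [one_smul]; exact hfix)
      simpa using h2.inv.mul h1
    have hv1 := A.Vs_inj _ (fun d hd e => by simp [e, hj] at hd) v (A.Top_le i j rfl hv) hvm
    subst hv1
    rw [mul_one] at hm ⊢
    exact ih (i + 1) (by omega) u hu hm

/-! ### The simple roots -/

/-- The successor index. -/
def nxt (i : Fin (k + 1)) : Fin (k + 2) := i.succ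

/-- The simple roots. -/
def sroot : Option (Fin (k + 1)) → RT (k + 2)
  | some i => .P (.inl i.castSucc) (.inr i.succ)
  | none => .Q (.inl (Fin.last (k + 1)))

/-- The roots with the same root group. -/
def Same (s r : RT (k + 2)) : Prop := r = s ∨ ∃ c d, s = .P c d ∧ r = .P d c

/-- The reflections. -/
def nref : Option (Fin (k + 1)) → G
  | some i => A.ρ (eA i.castSucc i.succ wW)
  | none => A.pp (Fin.last (k + 1))

/-- The signed permutations of the reflections. -/
def sperm : Option (Fin (k + 1)) → SI (k + 2) → SI (k + 2)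
  | some i => Sum.map (Equiv.swap i.castSucc i.succ) (Equiv.swap i.castSucc i.succ)
  | none => fun d => if ix d = Fin.last (k + 1) then d.swap else d

theorem nref_mem (o : Option (Fin (k + 1))) : A.nref o ∈ A.N := by
  rcases o with - | i
  · exact A.pp_mem_N _
  · exact A.ρ_mem_N ⟨_, _, eA_wW_mon' _ _ (ne_of_lt i.castSucc_lt_succ)⟩

theorem mv_nref (o : Option (Fin (k + 1))) (d : SI (k + 2)) : Mv Φ (A.φ (A.nref o)) d (sperm o d) := by
  rcases o with - | i
  · exact A.mv_pp _ d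
  · exact A.mv_ρ (eA_wW_mon' _ _ (ne_of_lt i.castSucc_lt_succ)) d

theorem sperm_sperm (o : Option (Fin (k + 1))) (d : SI (k + 2)) : sperm o (sperm o d) = d := by
  rcases o with - | i
  · simp only [sperm]; split_ifs <;> simp_all
  · rcases d with j | j <;> simp [sperm]

/-- The image of a root. -/
def rmap (f : SI (k + 2) → SI (k + 2)) : RT (k + 2) → RT (k + 2)
  | .P c d => .P (f c) (f d)
  | .Q c => .Q (f c)

theorem cnj_X {n : G} (hn : n ∈ A.N) {f : SI (k + 2) → SI (k + 2)} (hf : ∀ d, Mv Φ (A.φ n) d (f d))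
    (r : RT (k + 2)) : cnj n (A.X r) = A.X (rmap f r) := by
  rcases r with ⟨c, d⟩ | c
  · exact A.cnj_XP hn (hf c) (hf d)
  · exact A.cnj_XQ hn (hf c)

theorem rmap_pos (o : Option (Fin (k + 1))) {r : RT (k + 2)} (hr : 0 < r.rt) (hne : ¬ Same (sroot o) r)
    (hd : ∀ c d, r = .P c d → ix c ≠ ix d) :
    0 < (rmap (sperm o) r).rt ∧ ¬ Same (sroot o) (rmap (sperm o) r) := by
  have hinv : rmap (sperm o) (rmap (sperm o) r) = r := by rcases r with ⟨c, d⟩ | c <;> simp [rmap, sperm_sperm]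
  have hs : ∀ t, Same (sroot o) t → (rmap (sperm o) t).rt = -2 := by
    rintro t (rfl | ⟨c, d, h, rfl⟩)
    · rcases o with - | i
      · simp [sroot, rmap, sperm, RT.rt, ht]
      · simp [sroot, rmap, sperm, RT.rt, ht]; omega
    · rcases o with - | i
      · simp [sroot] at h
      · simp only [sroot, RT.P.injEq] at h
        obtain ⟨rfl, rfl⟩ := h
        simp [rmap, sperm, RT.rt, ht]; omega
  refine ⟨?_, fun h => by have := hs _ h; rw [hinv] at this; omega⟩
  rcases o with - | i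
  · rcases r with ⟨c, d⟩ | c
    · have hcd := hd c d rfl
      rw [Ne, Fin.ext_iff] at hcd
      simp only [rmap, sperm, RT.rt] at hr ⊢
      rcases c with a | a <;> rcases d with b | b <;> split_ifs with h1 h2 h2 <;>
        simp only [ht, Sum.elim_inl, Sum.elim_inr, Sum.swap_inl, Sum.swap_inr, ix_inl, ix_inr, Fin.ext_iff,
          Fin.val_last] at * <;> omega
    · have hc : c ≠ .inl (Fin.last (k + 1)) := fun e => hne (Or.inl (by rw [e]; rfl))
      simp only [rmap, sperm, RT.rt] at hr ⊢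
      rcases c with a | a <;> split_ifs with h1 <;>
        simp only [ht, Sum.elim_inl, Sum.elim_inr, Sum.swap_inl, Sum.swap_inr, ix_inl, ix_inr, Fin.ext_iff,
          Fin.val_last, ne_eq, Sum.inl.injEq] at * <;> omega
  · rcases r with ⟨c, d⟩ | c
    · have hcd := hd c d rfl
      rw [Ne, Fin.ext_iff] at hcd
      have hne1 : ¬ (c = .inl i.castSucc ∧ d = .inr i.succ) := fun e => hne (Or.inl (by rw [e.1, e.2]; rfl))
      have hne2 : ¬ (d = .inl i.castSucc ∧ c = .inr i.succ) := fun e =>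
        hne (Or.inr ⟨.inl i.castSucc, .inr i.succ, rfl, by rw [e.1, e.2]⟩)
      simp only [rmap, sperm, RT.rt] at hr ⊢
      rcases c with a | a <;> rcases d with b | b <;>
        simp only [ht, Sum.elim_inl, Sum.elim_inr, Sum.map_inl, Sum.map_inr, ix_inl, ix_inr,
          Equiv.swap_apply_def, Sum.inl.injEq, Sum.inr.injEq, reduceCtorEq, and_false, false_and,
          not_false_eq_true, Fin.ext_iff, Fin.val_castSucc, Fin.val_succ] at * <;>
        split_ifs at * <;> (try simp only [Fin.val_castSucc, Fin.val_succ] at *) <;> omega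
    · simp only [rmap, sperm, RT.rt] at hr ⊢
      rcases c with a | a <;>
        simp only [ht, Sum.elim_inl, Sum.elim_inr, Sum.map_inl, Sum.map_inr, Equiv.swap_apply_def] at * <;>
        split_ifs <;> simp only [Fin.val_castSucc, Fin.val_succ, Fin.ext_iff] at * <;> omega

/-- The positive unipotent group. -/
def U : Subgroup G := A.UU fun r => 0 < r.rt

/-- The positive roots other than the simple root. -/
def U' (o : Option (Fin (k + 1))) : Subgroup G := A.UU fun r => 0 < r.rt ∧ ¬ Same (sroot o) r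

theorem sroot_rt (o : Option (Fin (k + 1))) {r : RT (k + 2)} (h : Same (sroot o) r) : r.rt = 2 := by
  rcases o with - | i
  · rcases h with rfl | ⟨c, d, h, -⟩
    · simp [sroot, RT.rt, ht]
    · simp [sroot] at h
  · rcases h with rfl | ⟨c, d, h, rfl⟩
    · simp [sroot, RT.rt, ht]; omega
    · simp only [sroot, RT.P.injEq] at h
      obtain ⟨rfl, rfl⟩ := h
      simp [RT.rt, ht]; omega

theorem X_same (o : Option (Fin (k + 1))) {r : RT (k + 2)} (h : Same (sroot o) r) : A.X r = A.X (sroot o) := by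
  rcases h with rfl | ⟨c, d, h, rfl⟩
  · rfl
  · rw [h]; exact A.XP_symm d c

theorem sroot_norm (o : Option (Fin (k + 1))) : A.X (sroot o) ≤ Subgroup.normalizer (A.U' o : Set G) := by
  refine le_normalizer_of_conj fun x hx y hy => A.finite_UU_aux (fun s hs z hz => ?_) hy
  refine conj_mem_of_commutator_le (A.le_UU hs) ((A.comm_pos ?_ hs.1 ?_).trans (A.UU_mono fun t ht => ?_)) hx hz
  · rw [sroot_rt o (Or.inl rfl)]; norm_num
  · rintro c hc rfl
    exact hs.2 (Or.inl hc.symm)
  · exact ⟨by linarith [ht.1], fun h => by have := sroot_rt o h; linarith [ht.1]⟩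

theorem U_split (o : Option (Fin (k + 1))) {u : G} (hu : u ∈ A.U) :
    ∃ u' ∈ A.U' o, ∃ x ∈ A.X (sroot o), u = u' * x := by
  have h1 : u⁻¹ ∈ A.X (sroot o) ⊔ A.U' o := by
    refine (A.UU_le fun r hr => ?_) (inv_mem hu)
    by_cases h : Same (sroot o) r
    · rw [A.X_same o h]; exact le_sup_left
    · exact le_sup_of_le_right (A.le_UU ⟨hr, h⟩)
  obtain ⟨x, hx, v, hv, e⟩ := exists_mul_of_sup (A.sroot_norm o) h1
  exact ⟨v⁻¹, inv_mem hv, x⁻¹, inv_mem hx, by rw [← _root_.mul_inv_rev, ← e, inv_inv]⟩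

theorem nref_U' (o : Option (Fin (k + 1))) {u : G} (hu : u ∈ A.U' o) :
    A.nref o * u * (A.nref o)⁻¹ ∈ A.U' o := by
  refine A.finite_UU_aux (fun r hr y hy => ?_) hu
  have hy' : A.nref o * y * (A.nref o)⁻¹ ∈ A.X (rmap (sperm o) r) :=
    (A.cnj_X (A.nref_mem o) (A.mv_nref o) r).le (conj_mem_cnj hy)
  by_cases hbot : ∃ c d, r = .P c d ∧ ix c = ix d
  · obtain ⟨c, d, rfl, hcd⟩ := hbot
    rw [show A.X (.P c d) = A.XP c d from rfl, A.XP_bot hcd, Subgroup.mem_bot] at hy
    rw [hy, mul_one, mul_inv_cancel]; exact one_mem _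
  · exact A.le_UU (rmap_pos o hr.1 hr.2 (fun c d e h => hbot ⟨c, d, e, h⟩)) hy'

/-! ### Triangularity -/

/-- The flag. -/
def Fil (Φ : PFrame C (k + 2) ι) (j : ℤ) (x : ι → F) : Prop :=
  (∀ d : SI (k + 2), ht d < j → herm C x (Φ.v d.swap) = 0) ∧ (0 < j → herm C x Φ.x0 = 0)

/-- The flag is preserved. -/
def Tri (g : suG C ι) : Prop := ∀ j x, Fil Φ j x → Fil Φ j (app C g x)

theorem tri_pEl {c d : SI (k + 2)} (h : ix c ≠ ix d) (hp : 0 < ht c + ht d) (r : F) :
    Tri (Φ := Φ) (pEl Φ c d r) := by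
  intro j x hx
  have h' := (ne_of_ix h).2
  refine ⟨fun e he => ?_, fun hj => ?_⟩
  · rw [app_pEl h', herm_sub_left, herm_add_left, herm_smul_left, herm_smul_left, hx.1 e he, herm_vv, herm_vv]
    have key : ∀ a b : SI (k + 2), 0 < ht a + ht b → e = b → herm C x (Φ.v a) = 0 := fun a b hab he' => by
      subst he'
      have := hx.1 a.swap (by rw [ht_swap]; omega)
      rwa [Sum.swap_swap] at this
    by_cases h1 : e = d
    · rw [key c d hp h1]
      by_cases h2 : e = c
      · exact absurd (h2.symm.trans h1) (ne_of_ix h).1.symm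
      · simp [show e.swap ≠ c.swap from fun q => h2 (by simpa using congrArg Sum.swap q)]
    · by_cases h2 : e = c
      · rw [key d c (by omega) h2]
        simp [show e.swap ≠ d.swap from fun q => h1 (by simpa using congrArg Sum.swap q)]
      · simp [show e.swap ≠ d.swap from fun q => h1 (by simpa using congrArg Sum.swap q),
          show e.swap ≠ c.swap from fun q => h2 (by simpa using congrArg Sum.swap q)]
  · rw [app_pEl h', herm_sub_left, herm_add_left, herm_smul_left, herm_smul_left, hx.2 hj, Φ.vx, Φ.vx]; simp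

theorem tri_qEl {c : SI (k + 2)} (hp : 0 < ht c) {a γ : F} (hv : QV Φ a γ) : Tri (Φ := Φ) (qEl Φ c a γ) := by
  intro j x hx
  have hc : ∀ i, (ht c.swap < i) → Fil Φ i x → herm C x (Φ.v c) = 0 := fun i hi h => by
    have := h.1 c.swap hi
    rwa [Sum.swap_swap] at this
  refine ⟨fun e he => ?_, fun hj => ?_⟩
  · rw [app_qEl hv, herm_add_left, herm_add_left, herm_smul_left, herm_smul_left, hx.1 e he, Φ.xv, herm_vv]
    by_cases h : e = c
    · subst h
      rw [hc j (by rw [ht_swap]; omega) hx, hx.2 (by omega)]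
      simp
    · simp [show e.swap ≠ c.swap from fun q => h (by simpa using congrArg Sum.swap q)]
  · rw [app_qEl hv, herm_add_left, herm_add_left, herm_smul_left, herm_smul_left, hx.2 hj, Φ.vx,
      hc j (by rw [ht_swap]; omega) hx]
    simp

theorem herm_diag {g : suG C ι} {y : ι → F} {μ : F} (hy : app C g y = μ • y) (hμ : μ ≠ 0) (x : ι → F)
    (h0 : herm C x y = 0) : herm C (app C g x) y = 0 := by
  have := herm_app C g x y
  rw [hy, herm_smul_right, h0] at this
  rcases mul_eq_zero.1 this with h | h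
  · exact absurd ((map_eq_zero C.σ).1 h) hμ
  · exact h

theorem tri_diag {g : suG C ι} (hg : IsDiag Φ g) : Tri (Φ := Φ) g := by
  intro j x hx
  obtain ⟨hd, ξ, hξ⟩ := hg
  refine ⟨fun e he => ?_, fun hj => ?_⟩
  · obtain ⟨μ, hμ, hμe⟩ := hd e.swap
    exact herm_diag hμe hμ x (hx.1 e he)
  · by_cases hx0 : Φ.x0 = 0
    · rw [hx0, herm_zero_right]
    refine herm_diag hξ ?_ x (hx.2 hj)
    rintro rfl
    rw [zero_smul] at hξ
    exact hx0 (app_eq_zero hξ)

theorem tri_fix {g : suG C ι} (hg : IsMono Φ g) (ht' : Tri (Φ := Φ) g) (c : SI (k + 2)) : Mv Φ g c c := by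
  have key : ∀ c d, Mv Φ g c d → ht c ≤ ht d := by
    rintro c d ⟨a, ha, e⟩
    by_contra hlt
    push Not at hlt
    have hF : Fil Φ (ht c) (Φ.v c) :=
      ⟨fun e he => herm_v0 Φ fun q => by
        have : e = c := by simpa using congrArg Sum.swap q
        rw [this] at he; omega,
      fun _ => Φ.vx c⟩
    have := (ht' _ _ hF).1 d hlt
    rw [e, herm_smul_left, herm_v1, mul_one] at this
    exact ha this
  obtain ⟨d, hd⟩ := hg.1 c
  have h1 := key c d hd
  have h2 := key _ _ (hg.swap hd)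
  rw [ht_swap, ht_swap] at h2
  obtain rfl : d = c := ht_inj (by omega)
  exact hd

/-! ### Injectivity -/

theorem injective (hgen : A.ρ.range ⊔ Subgroup.zpowers A.p ⊔ A.Y = ⊤) : Function.Injective A.φ := by
  obtain ⟨H, hTP, hdiag, hHinj, hHP, hHQ, hNH, hgood⟩ := A.exists_HD
  have hHX : ∀ h ∈ H, ∀ r, ∀ x ∈ A.X r, h * x * h⁻¹ ∈ A.X r := by
    intro h hh r x hx
    rcases r with ⟨c, d⟩ | c
    · exact hHP h hh c d x hx
    · exact hHQ h hh c x hx
  have hHU : H ≤ Subgroup.normalizer (A.U : Set G) :=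
    le_normalizer_of_conj fun h hh u hu => A.finite_UU_aux (fun r hr y hy => A.le_UU (S := fun r => 0 < r.rt) hr
      (hHX h hh r y hy)) hu
  set B := H ⊔ A.U with hB
  set N' := A.N ⊔ H with hN'
  have hTB : A.TP ≤ B := hTP.trans le_sup_left
  refine CfsgLib.PresLib.injective_of_BNB (B := B) (N := N') (n := A.nref) (X := fun o => A.X (sroot o)) A.φ
    (fun o => Subgroup.mem_sup_left (A.nref_mem o)) ?_ ?_ ?_ ?_ ?_ ?_ ?_
  · intro o
    refine hTB (A.N_diag (mul_mem (A.nref_mem o) (A.nref_mem o)) fun i => ?_)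
    rw [map_mul]
    have := A.mv_nref o (sperm o (.inl i))
    rw [sperm_sperm] at this
    exact this.mul (A.mv_nref o _)
  · intro o b hb
    obtain ⟨h, hh, u, hu, rfl⟩ := exists_mul_of_sup hHU hb
    obtain ⟨u', hu', x, hx, rfl⟩ := A.U_split o hu
    refine ⟨A.nref o * h * (A.nref o)⁻¹ * (A.nref o * u' * (A.nref o)⁻¹), mul_mem ?_ ?_, x, hx, by group⟩
    · exact Subgroup.mem_sup_left ((Subgroup.mem_normalizer_iff.1 (hNH (A.nref_mem o)) h).1 hh)
    · exact Subgroup.mem_sup_right (A.UU_mono (fun r hr => hr.1) (A.nref_U' o hu'))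
  · rintro (- | i) x hx hx1
    · set L := Fin.last (k + 1)
      have hM := isMon_monOf (F := F) (Equiv.swap (0 : Fin (k + 2)) L) 0
      set M := A.ρ (monOf (Equiv.swap (0 : Fin (k + 2)) L) 0) with hMdef
      have hMN : M ∈ A.N := A.ρ_mem_N ⟨_, _, hM⟩
      have hXL : A.XQ (.inl L) = cnj M A.Y := by
        refine A.XQ_eq hMN ?_
        simpa using A.mv_ρ hM (.inl 0)
      rw [show A.X (sroot none) = A.XQ (.inl L) from rfl, hXL] at hx
      obtain ⟨y, hy, rfl⟩ := hx
      have hy1 : y ≠ 1 := fun e => hx1 (by rw [e]; simp)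
      obtain ⟨a, γ, hv, hyi⟩ := A.Y_img y hy
      have h0 : γ ≠ 0 := by
        rintro rfl
        refine hy1 (A.Y_inj y hy (hyi.trans (((qEl_eq_iff hv QV.zero).2 ⟨?_, rfl⟩).trans (qEl_zero _))))
        rw [hv.of_zero, zero_smul]
      have hc0 := A.hc0
      have hσ0 : C.σ γ ≠ 0 := (map_ne_zero C.σ).2 h0
      set γ0 := -1 / (A.c ^ 2 * γ) with hγ0
      set a0 := a * (A.c * C.σ γ0) with ha0
      have hv0 : QV Φ a0 γ0 := by
        unfold QV at hv ⊢
        simp only [ha0, hγ0, map_div₀, map_neg, map_one, map_mul, map_pow, C.invol, A.hc]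
        field_simp
        linear_combination -hv
      have hg0 : γ0 ≠ 0 := div_ne_zero (by norm_num) (mul_ne_zero (pow_ne_zero 2 hc0) h0)
      obtain ⟨y0, hy0, hy0i⟩ := A.Y_surj a0 γ0 hv0
      have hy01 : y0 ≠ 1 := by
        rintro rfl
        rw [map_one, ← qEl_zero (Φ := Φ) (.inl 0)] at hy0i
        exact hg0 ((qEl_eq_iff QV.zero hv0).1 hy0i).2.symm
      obtain ⟨h, hh, y', hy', y'', hy'', e⟩ := hgood y0 hy0 hy01
      have hy''' : y'' = y := by
        refine A.Y_inj.ext hy'' hy ?_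
        rw [(A.good_T hv0 hg0 hy0i (hdiag h hh).1 hy' hy'' e).2, hyi]
        have e1 : rA' C A.c a0 γ0 = a := by
          rw [rA', ha0]; exact mul_div_cancel_right₀ _ (mul_ne_zero hc0 ((map_ne_zero C.σ).2 hg0))
        have e2 : rG A.c γ0 = γ := by rw [rG, hγ0]; field_simp
        rw [e1, e2]
      subst hy'''
      have hh' : A.p * h * A.p⁻¹ ∈ H := (Subgroup.mem_normalizer_iff.1 (hNH A.p_mem_N) h).1 hh
      refine ⟨(M * (A.p * h * A.p⁻¹) * M⁻¹)⁻¹ * (M * y' * M⁻¹)⁻¹, mul_mem ?_ ?_, M * y0 * M⁻¹, ?_, ?_⟩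
      · exact inv_mem (Subgroup.mem_sup_left ((Subgroup.mem_normalizer_iff.1 (hNH hMN) _).1 hh'))
      · refine inv_mem (Subgroup.mem_sup_right (A.le_UU (S := fun r => 0 < r.rt) (r := .Q (.inl L)) ?_ ?_))
        · simp [RT.rt, ht, L]
        · rw [show A.X (.Q (.inl L)) = A.XQ (.inl L) from rfl, hXL]; exact conj_mem_cnj hy'
      · show M * y0 * M⁻¹ ∈ A.XQ (.inl L)
        rw [hXL]; exact conj_mem_cnj hy0
      · show A.pp L * (M * y'' * M⁻¹) = _ * (A.pp L * (M * y0 * M⁻¹) * (A.pp L)⁻¹)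
        have e' : A.p * y'' = (A.p * h * A.p⁻¹)⁻¹ * y'⁻¹ * (A.p * y0 * A.p⁻¹) := by rw [e]; group
        rw [Base.pp, ← hMdef, show M * A.p * M⁻¹ * (M * y'' * M⁻¹) = M * (A.p * y'') * M⁻¹ by group, e']
        group
    · have hij : i.castSucc ≠ i.succ := ne_of_lt i.castSucc_lt_succ
      obtain ⟨t, rfl⟩ := A.XP_levi hij hx
      have ht0 : t ≠ 0 := by rintro rfl; rw [tv_zero, map_one] at hx1; exact hx1 rfl
      refine ⟨A.ρ (eA i.castSucc i.succ (hD (Units.mk0 (-t⁻¹) (neg_ne_zero.2 (inv_ne_zero ht0))))) *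
          A.ρ (tv i.castSucc i.succ (-t)), mul_mem (hTB (A.ρ_mem_TP ⟨_, eA_hD_mon _ _ hij _⟩))
          (Subgroup.mem_sup_right ?_), A.ρ (tv i.castSucc i.succ (-t⁻¹)), A.tv_mem_XP hij _, ?_⟩
      · refine A.le_UU (S := fun r => 0 < r.rt) (r := sroot (some i)) ?_ (A.tv_mem_XP hij _)
        rw [sroot_rt (some i) (Or.inl rfl)]; norm_num
      · show A.ρ (eA i.castSucc i.succ wW) * _ = _ * (A.ρ (eA i.castSucc i.succ wW) * _ * (A.ρ (eA i.castSucc i.succ wW))⁻¹)
        simp only [← eA_xU hij, ← map_inv, ← map_mul]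
        rw [CfsgLib.SpnPres.wW_mul_xU ht0]
  · intro o w hw
    rw [hN'] at hw
    have hw' : w⁻¹ ∈ A.N ⊔ H := inv_mem hw
    obtain ⟨n, hn, h, hh, e⟩ := exists_mul_of_sup hNH hw
    choose f hf using (A.N_mono (inv_mem hn)).1
    have key : ∀ r, 0 < (rmap f r).rt → ∀ x ∈ A.X r, w⁻¹ * x * w ∈ B := by
      intro r hr x hx
      have h1 : n⁻¹ * x * n ∈ A.X (rmap f r) := by
        have := (A.cnj_X (inv_mem hn) hf r).le (conj_mem_cnj hx)
        rwa [inv_inv] at this
      refine Subgroup.mem_sup_right (A.le_UU (S := fun r => 0 < r.rt) hr ?_)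
      have := hHX h⁻¹ (inv_mem hh) _ _ h1
      rw [inv_inv] at this
      rw [e]; rwa [show (n * h)⁻¹ * x * (n * h) = h⁻¹ * (n⁻¹ * x * n) * h by group]
    have hswap : ∀ c, f c.swap = (f c).swap := fun c => (hf c.swap).unique ((A.N_mono (inv_mem hn)).swap (hf c))
    rcases lt_trichotomy 0 (rmap f (sroot o)).rt with h1 | h1 | h1
    · exact Or.inl (key _ h1)
    · exfalso
      rcases o with - | i
      · simp only [sroot, rmap, RT.rt] at h1
        obtain ⟨x, hx⟩ := ht_odd (f (.inl (Fin.last (k + 1))))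
        omega
      · simp only [sroot, rmap, RT.rt] at h1
        have h2 : f (.inl i.castSucc) = f (Sum.inl i.succ : SI (k + 2)) := ht_inj (by
          have h3 := hswap (.inl i.succ)
          rw [Sum.swap_inl] at h3
          rw [h3, ht_swap] at h1; omega)
        exact absurd ((hf (.inl i.castSucc)).unique' (h2 ▸ hf (.inl i.succ)))
          (fun q => (ne_of_lt i.castSucc_lt_succ) (Sum.inl.inj q))
    · refine Or.inr fun x hx => key (rmap (sperm o) (sroot o)) ?_ _
        ((A.cnj_X (A.nref_mem o) (A.mv_nref o) (sroot o)).le (conj_mem_cnj hx))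
      have hneg : rmap f (rmap (sperm o) (sroot o)) = rmap Sum.swap (rmap f (sroot o)) ∨
          ∃ c d, rmap f (rmap (sperm o) (sroot o)) = .P d c ∧ rmap Sum.swap (rmap f (sroot o)) = .P c d := by
        rcases o with - | i
        · left; simp [sroot, rmap, sperm, ← hswap]
        · right
          refine ⟨(f (.inl i.castSucc)).swap, (f (.inr i.succ)).swap, ?_, rfl⟩
          simp [sroot, rmap, sperm, ← hswap]
      have hsw : (rmap Sum.swap (rmap f (sroot o))).rt = -(rmap f (sroot o)).rt := by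
        rcases rmap f (sroot o) with ⟨c, d⟩ | c <;> simp [rmap, RT.rt, ht_swap] <;> ring
      rcases hneg with e' | ⟨c, d, e1, e2⟩
      · rw [e', hsw]; omega
      · rw [e1]; rw [e2] at hsw; simp only [RT.rt] at hsw ⊢; simp only [RT.rt] at h1; omega
  · rw [eq_top_iff]
    set S := Subgroup.closure ((B : Set G) ∪ Set.range A.nref)
    have hBS : B ≤ S := fun b hb => Subgroup.subset_closure (Or.inl hb)
    have hnS : ∀ o, A.nref o ∈ S := fun o => Subgroup.subset_closure (Or.inr ⟨o, rfl⟩)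
    have hUS : ∀ r : RT (k + 2), 0 < r.rt → A.X r ≤ S := fun r hr =>
      (A.le_UU (S := fun r => 0 < r.rt) hr).trans (le_sup_right.trans hBS)
    have hup : ∀ i j : Fin (k + 2), i < j → ∀ t, A.ρ (tv i j t) ∈ S := fun i j hij t =>
      hUS (.P (.inl i) (.inr j)) (by simp [RT.rt, ht]; omega) (A.tv_mem_XP hij.ne t)
    have hbase : ∀ (i j : Fin (k + 2)), j.val = i.val + 1 → ∀ t, A.ρ (tv j i t) ∈ S := by
      intro i j hj t
      obtain ⟨i', rfl⟩ : ∃ i' : Fin (k + 1), i'.castSucc = i :=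
        ⟨⟨i.val, by have := j.isLt; omega⟩, by ext; rfl⟩
      obtain rfl : j = i'.succ := Fin.ext (by simpa using hj)
      have hij : i'.castSucc ≠ i'.succ := ne_of_lt i'.castSucc_lt_succ
      have hm : A.ρ (tv i'.succ i'.castSucc t) ∈ cnj (A.nref (some i')) (A.X (sroot (some i'))) := by
        rw [A.cnj_X (A.nref_mem _) (A.mv_nref _)]
        simp only [sroot, rmap, sperm, Sum.map_inl, Sum.map_inr, Equiv.swap_apply_left, Equiv.swap_apply_right]
        exact A.tv_mem_XP hij.symm t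
      obtain ⟨y, hy, e⟩ := hm
      rw [← e]
      exact mul_mem (mul_mem (hnS _) (hUS _ (by rw [sroot_rt (some i') (Or.inl rfl)]; norm_num) hy))
        (inv_mem (hnS _))
    have hdown : ∀ (n : ℕ) (i j : Fin (k + 2)), j.val = i.val + n + 1 → ∀ t, A.ρ (tv j i t) ∈ S := by
      intro n
      induction n with
      | zero => exact fun i j hj => hbase i j (by omega)
      | succ n ih =>
        intro i j hj t
        set l : Fin (k + 2) := ⟨i.val + 1, by have := j.isLt; omega⟩ with hl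
        have h1 : j ≠ l := fun q => by rw [q] at hj; simp [hl] at hj
        have h2 : l ≠ i := fun q => by have := congrArg Fin.val q; simp [hl] at this
        have h3 : j ≠ i := fun q => by rw [q] at hj; omega
        have e := tv_chain (F := F) h1 h2 h3 t 1
        rw [mul_one] at e
        rw [← e, map_commutatorElement, commutatorElement_def]
        have a1 := ih l j (by simp [hl]; omega) t
        have a2 : A.ρ (tv l i (1 : F)) ∈ S := hbase i l (by simp [hl]) 1
        exact mul_mem (mul_mem (mul_mem a1 a2) (inv_mem a1)) (inv_mem a2)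
    have hρ : ∀ M, A.ρ M ∈ S := fun M => by
      induction M using CfsgLib.Linear.sl_induction with
      | hone => rw [map_one]; exact one_mem S
      | htransvec i j hij t =>
        rcases lt_or_gt_of_ne hij with h | h
        · simpa [tv, dif_neg hij] using hup i j h t
        · simpa [tv, dif_neg hij] using hdown (i.val - j.val - 1) j i (by omega) t
      | hmul a b ha hb => rw [map_mul]; exact mul_mem ha hb
    rw [← hgen]
    refine sup_le (sup_le ?_ (Subgroup.zpowers_le.2 ?_)) ?_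
    · rintro _ ⟨M, rfl⟩; exact hρ M
    · set L := Fin.last (k + 1)
      have hM := isMon_monOf (F := F) (Equiv.swap (0 : Fin (k + 2)) L) 0
      have h2 : A.p = (A.ρ (monOf (Equiv.swap (0 : Fin (k + 2)) L) 0))⁻¹ * A.pp L *
          A.ρ (monOf (Equiv.swap (0 : Fin (k + 2)) L) 0) := by rw [Base.pp]; group
      rw [h2]
      exact mul_mem (mul_mem (inv_mem (hρ _)) (hnS none)) (hρ _)
    · rw [← A.XQ_base]
      exact hUS (.Q (.inl 0)) (by simp [RT.rt, ht]; omega)
  · intro w hw hmem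
    obtain ⟨n, hn, h, hh, rfl⟩ := exists_mul_of_sup hNH hw
    refine mul_mem (hTB (A.N_diag hn fun i => ?_)) (Subgroup.mem_sup_left hh)
    obtain ⟨b, hb, e⟩ := hmem
    have hn' : A.φ n = A.φ (b * h⁻¹) := by rw [map_mul, map_inv, e, map_mul, mul_inv_cancel_right]
    refine tri_fix (A.N_mono hn) ?_ _
    rw [hn']
    have hclosed : ∀ b ∈ B, Tri (Φ := Φ) (A.φ b) ∧ Tri (Φ := Φ) (A.φ b⁻¹) := by
      let K : Subgroup G :=
        { carrier := {b | Tri (Φ := Φ) (A.φ b) ∧ Tri (Φ := Φ) (A.φ b⁻¹)}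
          one_mem' := ⟨fun j x hx => by rw [map_one, app_one]; exact hx,
            fun j x hx => by rw [inv_one, map_one, app_one]; exact hx⟩
          mul_mem' := fun {a b} ha hb => ⟨fun j x hx => by rw [map_mul, app_mul]; exact ha.1 _ _ (hb.1 _ _ hx),
            fun j x hx => by rw [_root_.mul_inv_rev, map_mul, app_mul]; exact hb.2 _ _ (ha.2 _ _ hx)⟩
          inv_mem' := fun {a} ha => ⟨ha.2, by rw [inv_inv]; exact ha.1⟩ }
      suffices B ≤ K from fun b hb => this hb
      refine sup_le (fun x hx => ⟨tri_diag (hdiag x hx), tri_diag (hdiag _ (inv_mem hx))⟩) (A.UU_le fun r hr x hx => ?_)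
      rcases r with ⟨c, d⟩ | c
      · by_cases hcd : ix c = ix d
        · rw [show A.X (.P c d) = A.XP c d from rfl, A.XP_bot hcd, Subgroup.mem_bot] at hx
          subst hx
          exact K.one_mem
        obtain ⟨s, hs⟩ := (A.XP_image hcd).1 x hx
        obtain ⟨s', hs'⟩ := (A.XP_image hcd).1 x⁻¹ (inv_mem hx)
        exact ⟨hs ▸ tri_pEl hcd hr s, hs' ▸ tri_pEl hcd hr s'⟩
      · simp only [RT.rt] at hr
        obtain ⟨a, γ, hv, hq⟩ := (A.XQ_image c).1 x hx
        obtain ⟨a', γ', hv', hq'⟩ := (A.XQ_image c).1 x⁻¹ (inv_mem hx)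
        exact ⟨hq ▸ tri_qEl (by omega) hv, hq' ▸ tri_qEl (by omega) hv'⟩
    exact (hclosed _ (mul_mem hb (inv_mem (Subgroup.mem_sup_left hh)))).1
  · intro b hb h1
    obtain ⟨h, hh, u, hu, rfl⟩ := exists_mul_of_sup hHU hb
    have hu' : u ∈ A.UU (Lev 0) := (A.UU_mono fun r hr => ⟨hr, by
      rcases r with ⟨c, d⟩ | c <;> simp [RT.Lo]⟩) hu
    have hum : ∀ d, Mv Φ (A.φ u) d d := fun d => by
      rw [map_mul] at h1
      rw [eq_inv_of_mul_eq_one_right h1]
      exact ((hdiag h hh).1 d).inv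
    have := A.U_inj (k + 2) 0 (by omega) u hu' hum
    subst this
    rw [mul_one] at h1 ⊢
    exact hHinj h hh h1

end QData

end CfsgLib.SUPres
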