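import Cfsg.Agent.SUPres.Gen3
import Cfsg.Agent.SLGen.TwoGen
import Cfsg.Agent.SpnPres.Presentation

/-!
# Presentations of the special unitary groups from presentations of `SLₘ`, `m ≥ 3`
-/

set_option autoImplicit false
set_option linter.unusedSectionVars false
set_option linter.unusedSimpArgs false
set_option maxRecDepth 4000

namespace CfsgLib.SUPres

open Matrix CfsgLib.RepBounds.Unit CfsgLib.SUThreeUnipotent CfsgLib.SUTwoGen CfsgLib.SL2Pres CfsgLib.SLnPres
open CfsgLib.SpnPres (IsMon tailEmb exists_tail)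
open CfsgLib.DnPres (eA eA_xU)
open scoped commutatorElement

theorem commute_of_pair {A H : Type*} [Group A] [Group H] (f : A →* H) {a b : A}
    (hgen : Subgroup.closure ({a, b} : Set A) = ⊤) {x : H} (ha : Commute (f a) x) (hb : Commute (f b) x) (y : A) :
    Commute (f y) x := by
  have h : Subgroup.closure ({a, b} : Set A) ≤ (Subgroup.centralizer {x}).comap f := by
    rw [Subgroup.closure_le]
    rintro z (rfl | rfl) <;> simp only [SetLike.mem_coe, Subgroup.mem_comap, Subgroup.mem_centralizer_singleton_iff]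
    · exact ha.eq
    · exact hb.eq
  rw [hgen] at h
  exact Subgroup.mem_centralizer_singleton_iff.1 (h (Subgroup.mem_top y))

theorem mem_range_of_pair {A H : Type*} [Group A] [Group H] (f : A →* H) (n : H) {a b : A}
    (hgen : Subgroup.closure ({a, b} : Set A) = ⊤) (ha : ∃ a', n * f a * n⁻¹ = f a')
    (hb : ∃ b', n * f b * n⁻¹ = f b') (y : A) : ∃ y', n * f y * n⁻¹ = f y' := by
  have h : Subgroup.closure ({a, b} : Set A) ≤ (f.range.comap (MulAut.conj n).toMonoidHom).comap f := by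
    rw [Subgroup.closure_le]
    rintro z (rfl | rfl)
    · obtain ⟨a', e⟩ := ha; exact ⟨a', e.symm⟩
    · obtain ⟨b', e⟩ := hb; exact ⟨b', e.symm⟩
  rw [hgen] at h
  obtain ⟨y', e⟩ := h (Subgroup.mem_top y)
  exact ⟨y', e.symm⟩

theorem commute_closure {H : Type*} [Group H] {S : Set H} {x : H} (h : ∀ s ∈ S, Commute x s) {y : H}
    (hy : y ∈ Subgroup.closure S) : Commute x y :=
  (Subgroup.mem_centralizer_singleton_iff.1 ((Subgroup.closure_le (Subgroup.centralizer {x})).2
    (fun s hs => Subgroup.mem_centralizer_singleton_iff.2 (h s hs).eq.symm) hy)).symm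

variable {F : Type*} [Field F] [Fintype F] {C : ConjField F} {ι : Type*} [Fintype ι] [DecidableEq ι] {k : ℕ}

theorem exists_skew_ne (C : ConjField F) : ∃ c : F, C.σ c = -c ∧ c ≠ 0 := by
  obtain ⟨x, hx⟩ : ∃ x, C.σ x ≠ x := by
    by_contra h
    push Not at h
    exact C.ne_id (RingHom.ext h)
  exact ⟨C.σ x - x, by rw [map_sub, C.invol]; ring, sub_ne_zero.2 hx⟩

theorem triv_conj {M : Matrix.SpecialLinearGroup (Fin (k + 2)) F} (h : Triv 0 M) (a : Fˣ) :
    Triv 0 ((h01 k a)⁻¹ * M * h01 k a) := by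
  have hm := h01_mon (F := F) (k := k) a
  intro x y hxy
  have hi := hm.inv
  rw [inv_one] at hi
  have e1 := CfsgLib.DnPres.mul_mon_apply hm ((h01 k a)⁻¹ * M).1 x y
  have e2 := CfsgLib.DnPres.mon_mul_apply hi M.1 x y
  simp only [Equiv.Perm.one_apply, inv_one] at e1 e2
  rw [Matrix.SpecialLinearGroup.coe_mul, e1, Matrix.SpecialLinearGroup.coe_mul, e2]
  rw [h x y hxy]
  by_cases e : x = y
  · subst e
    rw [Matrix.one_apply_eq]
    have := hm.ne x
    rw [mul_one]; exact inv_mul_cancel₀ this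
  · simp [Matrix.one_apply_ne e]

/-- The special unitary group from `SLₘ`: one more generator and thirteen more relations. -/
theorem exists_presentation3 {g R : ℕ} (Φ : PFrame C (k + 1 + 2) ι) (hι : ¬ (Fintype.card ι = 3 ∧ C.q = 2))
    (relsS : Finset (FreeGroup (Fin g))) (hR : relsS.card ≤ R)
    (eS : PresentedGroup (↑relsS : Set (FreeGroup (Fin g))) ≃* Matrix.SpecialLinearGroup (Fin (k + 1 + 2)) F) :
    ∃ rels : Finset (FreeGroup (Fin (g + 1))), rels.card ≤ R + 13 ∧
      Nonempty (PresentedGroup (↑rels : Set (FreeGroup (Fin (g + 1)))) ≃* suG C ι) := by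
  classical
  -- constants
  obtain ⟨c, hc, hc0⟩ := exists_skew_ne C
  obtain ⟨θ, hθ⟩ := C.exists_trace_one
  set γ1 := -(θ * eps Φ) with hγ1
  have hv : QV Φ (eps Φ) γ1 := by
    unfold QV
    rw [hγ1, map_neg, map_mul, σ_eps, eps_sq, eps_sq]
    linear_combination (-eps Φ) * hθ
  obtain ⟨ν, -, hνn, hνgen⟩ := exists_cls_gen C
  obtain ⟨α₀, hα₀⟩ := C.exists_norm_neg_one
  have hα0 : α₀ ≠ 0 := by rintro rfl; simp at hα₀
  set α := Units.mk0 α₀ hα0
  obtain ⟨a₁, a₂, ha⟩ := CfsgLib.SLGen.exists_pair F (k + 1) (by omega)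
  obtain ⟨x₁, x₂, hx⟩ := CfsgLib.SLGen.exists_pair F 1 le_rfl
  obtain ⟨g₁, hg₁⟩ := tau_target (Φ := Φ) hc hc0 x₁
  obtain ⟨g₂, hg₂⟩ := tau_target (Φ := Φ) hc hc0 x₂
  choose tp htp using exists_plus (Φ := Φ) hc hc0
  -- words
  choose wS hwS using fun M => PresentedGroup.mk_surjective (↑relsS : Set (FreeGroup (Fin g))) (eS.symm M)
  let JS : FreeGroup (Fin g) →* FreeGroup (Fin (g + 1)) := FreeGroup.lift fun j => FreeGroup.of (Fin.castAdd 1 j)
  let lw : Matrix.SpecialLinearGroup (Fin (k + 1 + 2)) F → FreeGroup (Fin (g + 1)) := fun M => JS (wS M)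
  let new : FreeGroup (Fin (g + 1)) := FreeGroup.of (Fin.natAdd g 0)
  let vals : Fin (g + 1) → suG C ι := Fin.addCases (fun j => lev Φ (eS (PresentedGroup.of j)))
    (fun _ => flipEl Φ c 0 * qEl Φ (.inl 0) (eps Φ) γ1)
  have hJS : ∀ w, FreeGroup.lift vals (JS w) = lev Φ (eS (PresentedGroup.mk _ w)) := fun w =>
    DFunLike.congr_fun (show (FreeGroup.lift vals).comp JS =
      ((lev Φ).comp eS.toMonoidHom).comp (PresentedGroup.mk _) by ext j; simp [JS, vals, PresentedGroup.of]) w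
  have hlw : ∀ M, FreeGroup.lift vals (lw M) = lev Φ M := fun M => by
    show FreeGroup.lift vals (JS (wS M)) = _
    rw [hJS, hwS, MulEquiv.apply_symm_apply]
  have hnew : FreeGroup.lift vals new = flipEl Φ c 0 * qEl Φ (.inl 0) (eps Φ) γ1 := by simp [new, vals]
  let cj : Fˣ → FreeGroup (Fin (g + 1)) := fun a => lw (h01 (k + 1) a) * new * (lw (h01 (k + 1) a))⁻¹
  obtain ⟨wu, hwu, hwuv, hwu0⟩ : ∃ w ∈ Subgroup.closure (Set.range cj),
      FreeGroup.lift vals w = qEl Φ (.inl 0) (eps Φ) γ1 ∧ (eps Φ = 0 → w = 1) := by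
    rcases eps_cases Φ with he | he
    · exact ⟨1, one_mem _, by rw [map_one, hγ1, he, mul_zero, neg_zero, qEl_zero], fun _ => rfl⟩
    · obtain ⟨w, hw, e⟩ := mem_closure_lift (f := FreeGroup.lift vals) (Set.range cj) (x := qEl Φ (.inl 0) (eps Φ) γ1) (by
        refine Subgroup.closure_mono ?_ (short_mem_closure hc hc0 he hv)
        rintro _ ⟨a, rfl⟩
        exact ⟨cj a, ⟨a, rfl⟩, by simp only [cj, map_mul, map_inv, hlw, hnew]⟩)
      exact ⟨w, hw, e, fun h0 => absurd (h0.symm.trans he) zero_ne_one⟩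
  let Pw := new * wu⁻¹
  let W := lw (w01 (k + 1))
  let Qw := W * Pw * W⁻¹
  let U1w := W * wu * W⁻¹
  let X : F → FreeGroup (Fin (g + 1)) := fun t => lw (tv 0 1 t)
  let Plus : F → FreeGroup (Fin (g + 1)) := fun r => Qw * X (tp r) * Qw⁻¹
  let Zw : FreeGroup (Fin (g + 1)) := ⁅X (-1), Plus (θ / c)⁆
  let H : Fˣ → FreeGroup (Fin (g + 1)) := fun a => lw (h01 (k + 1) a)
  let T : Matrix.SpecialLinearGroup (Fin 2) F → Matrix.SpecialLinearGroup (Fin 2) F → FreeGroup (Fin (g + 1)) :=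
    fun x x' => Pw * Qw * lw (eA 0 1 x) * (Pw * Qw)⁻¹ * (lw (eA 0 1 x'))⁻¹
  let L : List (FreeGroup (Fin (g + 1))) :=
    [Pw * Pw * (H α⁻¹ * (Pw * H α * Pw⁻¹))⁻¹, ⁅lw (tailEmb a₁), new⁆, ⁅lw (tailEmb a₂), new⁆, ⁅Pw, H ν⁆,
      ⁅Pw, Qw⁆, T x₁ g₁, T x₂ g₂, ⁅X (-1), Plus 1⁆, Pw * (Pw * Zw * Pw⁻¹ * Zw * (Pw * Zw * Pw⁻¹))⁻¹,
      ⁅X (-1), U1w⁆⁻¹ * wu * (Plus γ1)⁻¹, ⁅wu, X 1⁆, ⁅wu, Qw⁆, ⁅wu, U1w⁆ * (Plus (-eps Φ))⁻¹]
  set rels : Finset (FreeGroup (Fin (g + 1))) := relsS.image JS ∪ L.toFinset with hrels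
  have hcard : rels.card ≤ R + 13 :=
    (Finset.card_union_le _ _).trans (Nat.add_le_add (Finset.card_image_le.trans hR)
      ((List.toFinset_card_le _).trans (by simp [L])))
  refine ⟨rels, hcard, ?_⟩
  -- values
  have vP : FreeGroup.lift vals Pw = flipEl Φ c 0 := by
    simp only [Pw, map_mul, map_inv, hnew, hwuv, mul_inv_cancel_right]
  have vQ : FreeGroup.lift vals Qw = qT Φ c := by simp only [Qw, W, map_mul, map_inv, hlw, vP, qT]
  have vU1 : FreeGroup.lift vals U1w = uT Φ γ1 := by simp only [U1w, W, map_mul, map_inv, hlw, hwuv, uT]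
  have vPlus : ∀ r, FreeGroup.lift vals (Plus r) = pEl Φ (.inl 0) (.inl 1) r := fun r => by
    simp only [Plus, X, map_mul, map_inv, hlw, vQ, htp]
  have hneg : lev Φ (tv 0 1 (-1)) = pEl Φ (.inl 0) (.inr 1) 1 := by
    rw [lev_tv zero_ne_one', pEl_symm (by simp)]; simp
  have hδ : (1 : F) * C.σ (θ / c) - θ / c * C.σ 1 = -c⁻¹ := by
    rw [map_div₀, hc, map_one]
    field_simp
    linear_combination -hθ
  have vZ : FreeGroup.lift vals Zw = qEl Φ (.inl 0) 0 (-c⁻¹) := by
    simp only [Zw, X, map_commutatorElement, hlw, vPlus]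
    rw [hneg, commutator_pEl zero_ne_one', hδ]
  have hval : ∀ r ∈ (↑rels : Set (FreeGroup (Fin (g + 1)))), FreeGroup.lift vals r = 1 := by
    intro r hr
    simp only [hrels, Finset.coe_union, Set.mem_union, Finset.coe_image, Set.mem_image, Finset.mem_coe,
      List.coe_toFinset, Set.mem_ofPred_eq] at hr
    rcases hr with ⟨r₀, hr₀, rfl⟩ | hr
    · rw [hJS, PresentedGroup.one_of_mem (Finset.mem_coe.2 hr₀), map_one, map_one]
    simp only [L, List.mem_cons, List.not_mem_nil, or_false] at hr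
    rcases hr with rfl | rfl | rfl | rfl | rfl | rfl | rfl | rfl | rfl | rfl | rfl | rfl | rfl
    · simp only [H, map_mul, map_inv, hlw, vP, mul_inv_eq_one]
      simpa only [map_inv] using psq_target (Φ := Φ) hc hc0 (α := α) hα₀
    · rw [map_commutatorElement, hlw, hnew, commutatorElement_eq_one_iff_commute]
      have ht : Triv 0 (tailEmb a₁ : Matrix.SpecialLinearGroup (Fin (k + 1 + 2)) F) := by
        intro a b hab
        rw [CfsgLib.SpnPres.coe_tailEmb]
        induction a using Fin.cases <;> induction b using Fin.cases <;>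
          simp_all [CfsgLib.SpnPres.tailMat, Matrix.one_apply, Fin.succ_ne_zero, (Fin.succ_ne_zero _).symm]
      exact (flip_commute hc (by rw [one_smul]; exact (lev_triv ht).1) (by rw [one_smul]; exact (lev_triv ht).2)
        (lev_x0 _) (by simp) (by simp)).mul_right (qEl_commute (lev_triv ht).1 (lev_x0 _) hv)
    · rw [map_commutatorElement, hlw, hnew, commutatorElement_eq_one_iff_commute]
      have ht : Triv 0 (tailEmb a₂ : Matrix.SpecialLinearGroup (Fin (k + 1 + 2)) F) := by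
        intro a b hab
        rw [CfsgLib.SpnPres.coe_tailEmb]
        induction a using Fin.cases <;> induction b using Fin.cases <;>
          simp_all [CfsgLib.SpnPres.tailMat, Matrix.one_apply, Fin.succ_ne_zero, (Fin.succ_ne_zero _).symm]
      exact (flip_commute hc (by rw [one_smul]; exact (lev_triv ht).1) (by rw [one_smul]; exact (lev_triv ht).2)
        (lev_x0 _) (by simp) (by simp)).mul_right (qEl_commute (lev_triv ht).1 (lev_x0 _) hv)
    · rw [map_commutatorElement, vP, hlw, commutatorElement_eq_one_iff_commute]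
      exact norm1_commute hc hc0 hνn
    · rw [map_commutatorElement, vP, vQ, commutatorElement_eq_one_iff_commute]
      exact (qT_commute hc hc0).symm
    · simp only [T, map_mul, map_inv, hlw, vP, vQ, mul_inv_eq_one]
      exact hg₁
    · simp only [T, map_mul, map_inv, hlw, vP, vQ, mul_inv_eq_one]
      exact hg₂
    · simp only [X, map_commutatorElement, hlw, vPlus]
      rw [hneg, commutator_pEl zero_ne_one', map_one]
      simp [qEl_zero]
    · simp only [map_mul, map_inv, vP, vZ, mul_inv_eq_one]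
      exact flip_eq hc hc0
    · simp only [X, map_mul, map_inv, map_commutatorElement, hlw, vU1, hwuv, vPlus, mul_inv_eq_one]
      exact commutator_x_u hv
    · simp only [X, map_commutatorElement, hlw, hwuv, commutatorElement_eq_one_iff_commute]
      refine (qEl_commute ?_ (lev_x0 _) hv).symm
      rw [lev_tv zero_ne_one', app_pEl (by simp), herm_vv, herm_vv]
      simp
    · rw [map_commutatorElement, hwuv, vQ, commutatorElement_eq_one_iff_commute]
      exact (qEl_commute (qT_fix hc hc0 (d := .inl 0) zero_ne_one') (qT_mono hc hc0).2 hv).symm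
    · simp only [map_mul, map_inv, map_commutatorElement, hwuv, vU1, vPlus, mul_inv_eq_one]
      exact commutator_u_u hv
  -- the presented group
  let G := PresentedGroup (↑rels : Set (FreeGroup (Fin (g + 1))))
  let mk : FreeGroup (Fin (g + 1)) →* G := PresentedGroup.mk _
  let φ : G →* suG C ι := PresentedGroup.toGroup hval
  have hφmk : ∀ w, φ (mk w) = FreeGroup.lift vals w := fun w => rfl
  have hrelS : ∀ r ∈ (↑relsS : Set (FreeGroup (Fin g))),
      FreeGroup.lift (fun j => mk (FreeGroup.of (Fin.castAdd 1 j))) r = 1 := by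
    intro r hr
    rw [show FreeGroup.lift (fun j => mk (FreeGroup.of (Fin.castAdd 1 j))) = mk.comp JS by ext j; simp [JS]]
    exact PresentedGroup.one_of_mem (Finset.mem_coe.2 (Finset.mem_union_left _ (Finset.mem_image_of_mem _ hr)))
  let ρ : Matrix.SpecialLinearGroup (Fin (k + 1 + 2)) F →* G :=
    (PresentedGroup.toGroup hrelS).comp eS.symm.toMonoidHom
  have hρw : ∀ M, mk (lw M) = ρ M := fun M => by
    show mk (JS (wS M)) = PresentedGroup.toGroup hrelS (eS.symm M)
    rw [← hwS M]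
    exact DFunLike.congr_fun (show mk.comp JS = FreeGroup.lift fun j => mk (FreeGroup.of (Fin.castAdd 1 j)) by
      ext j; simp [JS]) (wS M)
  have hφρ : ∀ M, φ (ρ M) = lev Φ M := fun M => by rw [← hρw, hφmk, hlw]
  set p := mk Pw with hp
  set u := mk wu with hu
  have hrel : ∀ r ∈ L, mk r = 1 := fun r hr =>
    PresentedGroup.one_of_mem (Finset.mem_coe.2 (Finset.mem_union_right _ (List.mem_toFinset.2 hr)))
  simp only [L, List.forall_mem_cons, List.not_mem_nil, false_implies, implies_true, and_true] at hrel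
  obtain ⟨hR1, hR2a, hR2b, hR3, hR5, hT1, hT2, hR7, hR8, hR9, hR10, hR12, hR13⟩ := hrel
  simp only [H, T, X, Plus, Qw, U1w, W, Zw, map_mul, map_inv, map_commutatorElement, hρw, ← hp, ← hu,
    commutatorElement_eq_one_iff_commute, mul_inv_eq_one] at hR1 hR2a hR2b hR3 hR5 hT1 hT2 hR7 hR8 hR9 hR10 hR12 hR13
  set n := mk new with hn
  have hpn : p = n * u⁻¹ := by rw [hp, hn, hu, ← map_inv, ← map_mul]
  have hstab : ∀ M, Triv 0 M → Commute (ρ M) p ∧ Commute (ρ M) u := by
    have hN : ∀ M, Triv 0 M → Commute (ρ M) n := fun M hM => by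
      obtain ⟨M', rfl⟩ := exists_tail (k := k) M (by rw [hM 0 0 (Or.inl rfl)]; simp)
        (fun a ha => ⟨by rw [hM a 0 (Or.inr rfl)]; simp [ha], by rw [hM 0 a (Or.inl rfl)]; simp [ha.symm]⟩)
      exact commute_of_pair (ρ.comp tailEmb) ha hR2a hR2b M'
    intro M hM
    have hU : Commute (ρ M) u := by
      have hu' : u ∈ Subgroup.closure (mk '' Set.range cj) := by
        rw [← MonoidHom.map_closure]; exact ⟨wu, hwu, rfl⟩
      refine commute_closure ?_ hu'
      rintro _ ⟨_, ⟨a, rfl⟩, rfl⟩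
      simp only [cj, map_mul, map_inv, hρw, ← hn]
      have := (hN _ (triv_conj hM a)).map (MulAut.conj (ρ (h01 (k + 1) a))).toMonoidHom
      simp only [MulEquiv.coe_toMonoidHom, MulAut.conj_apply, map_mul, map_inv] at this
      convert this using 1
      group
    refine ⟨?_, hU⟩
    rw [hpn]
    exact (hN M hM).mul_right hU.inv_right
  let R0 : Rels Φ G :=
    { ρ := ρ, p := p, u := u, φ := φ, c := c, hc := hc, hc0 := hc0, γ1 := γ1, hv1 := hv
      hφρ := hφρ
      hφp := by rw [hp, hφmk, vP]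
      hφu := by rw [hu, hφmk, hwuv]
      hu0 := fun h => by rw [hu, hwu0 h, map_one]
      stab := hstab
      r5 := hR5
      tau := fun x => mem_range_of_pair (ρ.comp (eA 0 1)) _ hx ⟨_, hT1⟩ ⟨_, hT2⟩ x
      norm1 := fun a ha => by
        obtain ⟨j, -, hj⟩ := hνgen a ha
        have e : a = ν ^ j := Units.ext (by rw [Units.val_pow_eq_pow_val, hj])
        rw [e, map_pow, map_pow]
        exact hR3.pow_right j
      psq := by
        rw [hR1]
        exact mul_mem (Subgroup.mem_sup_left (inv_mem ⟨_, h01_mem α, rfl⟩))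
          (Subgroup.mem_sup_right ⟨_, ⟨_, h01_mem α, rfl⟩, rfl⟩) }
  set A := R0.toBase
  have hq : A.p1 = ρ (w01 (k + 1)) * p * (ρ (w01 (k + 1)))⁻¹ := rfl
  have hplus : ∀ r, R0.q1 * ρ (tv 0 1 (tp r)) * R0.q1⁻¹ ∈ A.XP (.inl 0) (.inl 1) ∧
      φ (R0.q1 * ρ (tv 0 1 (tp r)) * R0.q1⁻¹) = pEl Φ (.inl 0) (.inl 1) r := by
    intro r
    refine ⟨?_, ?_⟩
    · have h1 : Mv Φ (A.φ A.p1) (.inl 0) (.inl 0) := by
        have := A.mv_p1 (.inl 0)
        rwa [ix_inl, if_neg zero_ne_one'] at this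
      have h2 : Mv Φ (A.φ A.p1) (.inr 1) (.inl 1) := by
        have := A.mv_p1 (.inr 1)
        rwa [ix_inr, if_pos rfl, Sum.swap_inr] at this
      exact (A.cnj_XP A.p1_mem_N h1 h2).le (conj_mem_cnj (A.tv_mem_XP zero_ne_one' _))
    · rw [map_mul, map_mul, map_inv, hφρ, show φ R0.q1 = qT Φ c by
        show φ (ρ (w01 (k + 1)) * p * (ρ (w01 (k + 1)))⁻¹) = _
        rw [map_mul, map_mul, map_inv, hφρ, hp, hφmk, vP, qT], htp]
  have hx1 : ρ (tv 0 1 (-1)) ∈ A.XP (.inl 0) (.inr 1) := A.tv_mem_XP zero_ne_one' _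
  let R3' : Rels3 Φ G :=
    { toRels := R0
      r7 := by
        have e1 : ρ (tv 0 1 (-1)) = A.el (.inr 1) 1 := A.el_eq (d := .inr 1) Rels3.one_ne hx1 (by
          show φ _ = _
          rw [hφρ, hneg])
        have e2 := A.el_eq (d := .inl 1) Rels3.one_ne (hplus 1).1 (r := 1) (hplus 1).2
        show ⁅A.el (.inr 1) 1, A.el (.inl 1) 1⁆ = 1
        rw [← e1, ← e2, commutatorElement_eq_one_iff_commute]
        exact hR7
      r8 := ⟨_, Subgroup.commutator_mem_commutator hx1 (hplus (θ / c)).1, hR8⟩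
      r9 := ⟨-1, neg_ne_zero.2 one_ne_zero, by
        show ⁅ρ (tv 0 1 (-1)), R0.u1⁆⁻¹ * u ∈ _
        exact (congrArg (· ∈ A.XP (.inl 0) (.inl 1)) hR9).mpr (hplus γ1).1⟩
      r10 := hR10
      r12 := hR12
      r13 := (congrArg (· ∈ A.XP (.inl 0) (.inl 1)) hR13).mpr (hplus (-eps Φ)).1 }
  have hsurj : Function.Surjective φ := by
    rw [← MonoidHom.range_eq_top]
    refine eq_top_gen hι hc hc0 hv (fun M => ⟨ρ M, hφρ M⟩) ⟨p, by rw [hp, hφmk, vP]⟩ ⟨u, by rw [hu, hφmk, hwuv]⟩
  have hinj : Function.Injective φ := by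
    refine R3'.injective (eq_top_iff.2 ?_)
    rw [← PresentedGroup.closure_range_of, Subgroup.closure_le]
    rintro _ ⟨j, rfl⟩
    refine Fin.addCases (fun i => ?_) (fun i => ?_) j
    · refine Subgroup.mem_sup_left (Subgroup.mem_sup_left ⟨eS (PresentedGroup.of i), ?_⟩)
      show PresentedGroup.toGroup hrelS (eS.symm (eS (PresentedGroup.of i))) = _
      rw [MulEquiv.symm_apply_apply, PresentedGroup.toGroup.of]
      rfl
    · have : (PresentedGroup.of (Fin.natAdd g i) : G) = p * u := by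
        rw [Subsingleton.elim i 0, hpn, inv_mul_cancel_right]
        rfl
      rw [SetLike.mem_coe, this]
      exact mul_mem (Subgroup.mem_sup_left (Subgroup.mem_sup_right (Subgroup.mem_zpowers _)))
        (Subgroup.mem_sup_right (Subgroup.mem_zpowers _))
  exact ⟨MulEquiv.ofBijective φ ⟨hinj, hsurj⟩⟩

end CfsgLib.SUPres
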