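import Cfsg.Agent.SUPres.Core

/-!
# Signed permutations in the amalgam
-/

set_option autoImplicit false
set_option linter.unusedSectionVars false
set_option linter.unusedSimpArgs false

namespace CfsgLib.SUPres

open Matrix CfsgLib.RepBounds.Unit CfsgLib.SUThreeUnipotent CfsgLib.SUTwoGen CfsgLib.SL2Pres CfsgLib.SLnPres
open CfsgLib.SpnPres (IsMon monOf isMon_monOf dOne dOne_apply)
open CfsgLib.DnPres (eA coe_eA eAm)

theorem le_normalizer_of_conj {G : Type*} [Group G] {H K : Subgroup G}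
    (h : ∀ y ∈ H, ∀ x ∈ K, y * x * y⁻¹ ∈ K) : H ≤ Subgroup.normalizer (K : Set G) := fun y hy => by
  rw [Subgroup.mem_normalizer_iff]
  refine fun x => ⟨h y hy x, fun hx => ?_⟩
  have e : x = y⁻¹ * (y * x * y⁻¹) * y⁻¹⁻¹ := by group
  rw [e]; exact h _ (inv_mem hy) _ hx

theorem exists_mul_of_sup {G : Type*} [Group G] {H K : Subgroup G}
    (h : H ≤ Subgroup.normalizer (K : Set G)) {x : G} (hx : x ∈ H ⊔ K) : ∃ a ∈ H, ∃ b ∈ K, x = a * b := by
  have : x ∈ (↑(H ⊔ K) : Set G) := hx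
  rw [Subgroup.coe_mul_of_left_le_normalizer_right H K h] at this
  obtain ⟨a, ha, b, hb, e⟩ := this
  exact ⟨a, ha, b, hb, e.symm⟩

variable {F : Type*} [Field F] [Fintype F] {C : ConjField F} {ι : Type*} [Fintype ι] [DecidableEq ι] {k : ℕ}

local notation "SLm" => Matrix.SpecialLinearGroup (Fin (k + 2)) F

namespace Base

variable {Φ : PFrame C (k + 2) ι} {G : Type*} [Group G] (A : Base Φ G)

instance TP_finite : Finite A.TP := by
  classical
  refine Finite.of_surjective (fun y : SLm × Fˣ =>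
    if h : A.ρ y.1 * A.kk y.2 ∈ A.TP then (⟨_, h⟩ : A.TP) else 1) ?_
  rintro ⟨x, M, hM, a, rfl⟩
  exact ⟨(M, a), dif_pos ⟨M, hM, a, rfl⟩⟩

theorem norm_of_conj {y : G} (h : ∀ x ∈ A.TP, y * x * y⁻¹ ∈ A.TP) : y ∈ Subgroup.normalizer (A.TP : Set G) := by
  rw [Subgroup.mem_normalizer_iff]
  exact fun x => (mem_normalizer_fin h).symm

theorem p_normalizer : A.p ∈ Subgroup.normalizer (A.TP : Set G) := A.norm_of_conj fun _ hx => A.p_norm_TP hx

theorem conj_kk_w01 (a : Fˣ) : A.ρ (w01 k) * A.kk a * (A.ρ (w01 k))⁻¹ ∈ A.TP := by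
  obtain ⟨g', hg⟩ := A.tau (hD a⁻¹)
  have hw : (w01 k : SLm) * h01 k a * (w01 k)⁻¹ = h01 k a⁻¹ := by
    show eA 0 1 wW * eA 0 1 (hD a) * (eA 0 1 wW)⁻¹ = eA 0 1 (hD a⁻¹)
    rw [← map_inv, ← map_mul, ← map_mul]
    congr 1
    rw [← CfsgLib.DnPres.tS_apply, CfsgLib.DnPres.tS_hD]
  have e1 : A.ρ (w01 k) * A.kk a * (A.ρ (w01 k))⁻¹ = A.p1 * A.ρ (eA 0 1 (hD a⁻¹)) * A.p1⁻¹ := by
    rw [kk_apply, p1, show (eA 0 1 (hD a⁻¹) : SLm) = h01 k a⁻¹ from rfl, ← hw, map_mul, map_mul, map_inv]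
    group
  change A.p * A.p1 * _ * (A.p * A.p1)⁻¹ = _ at hg
  have hd : eA 0 1 g' ∈ Dg (Fin (k + 2)) F := by
    have hdiag : ∀ d, Mv Φ (A.φ (A.ρ (eA 0 1 g'))) d d := by
      intro d
      rw [← hg]
      have hx : IsMono Φ (A.φ (A.ρ (eA 0 1 (hD a⁻¹)))) ∧ ∀ d, Mv Φ (A.φ (A.ρ (eA 0 1 (hD a⁻¹)))) d d :=
        A.TP_diag (A.ρ_mem_TP (h01_mem (k := k) a⁻¹))
      obtain ⟨d', hd'⟩ := (A.isMono_p.mul (show IsMono Φ (A.φ A.p1) from by
        rw [p1, map_mul, map_mul, map_inv]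
        exact ((A.isMono_ρ w01_mem).mul A.isMono_p).mul (A.isMono_ρ w01_mem).inv)).inv.1 d
      rw [map_mul, map_mul, map_inv, map_mul]
      have e := (hd'.inv.mul ((hx.2 d').mul hd'))
      simp only [inv_inv, _root_.mul_inv_rev] at e ⊢
      simpa [mul_assoc] using e
    refine mem_Dg_of_lines (Φ := Φ) fun j => ?_
    rw [← A.hφρ]; exact hdiag _
  rw [e1, show A.p1 * A.ρ (eA 0 1 (hD a⁻¹)) * A.p1⁻¹ = A.p⁻¹ * A.ρ (eA 0 1 g') * A.p by rw [← hg]; group]
  exact (Subgroup.mem_normalizer_iff''.1 A.p_normalizer _).1 (A.ρ_mem_TP hd)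

theorem ρ_normalizer {M : SLm} (hM : M ∈ Mn (Fin (k + 2)) F) :
    A.ρ M ∈ Subgroup.normalizer (A.TP : Set G) := by
  have key : ∀ M ∈ Mn (Fin (k + 2)) F, (∀ a, A.ρ M * A.kk a * (A.ρ M)⁻¹ ∈ A.TP) →
      A.ρ M ∈ Subgroup.normalizer (A.TP : Set G) := by
    intro M hM h
    refine A.norm_of_conj ?_
    rintro _ ⟨D, hD, a, rfl⟩
    rw [show A.ρ M * (A.ρ D * A.kk a) * (A.ρ M)⁻¹ =
      A.ρ M * A.ρ D * (A.ρ M)⁻¹ * (A.ρ M * A.kk a * (A.ρ M)⁻¹) by group, ← map_inv, ← map_mul, ← map_mul,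
      map_inv]
    exact mul_mem (A.ρ_mem_TP (mn_normalizes_Dg hM hD)) (h a)
  refine mn_le (P := (Subgroup.normalizer (A.TP : Set G)).comap A.ρ) ?_ ?_ ?_ hM
  · intro D hD
    refine key D (Dg_le_Mn hD) fun a => ?_
    rw [(A.kk_comm hD a).eq, mul_inv_cancel_right]
    exact A.kk_mem_TP a
  · intro S hS hT
    refine key S hS fun a => ?_
    have hc := A.stab_p S hT
    rw [kk_apply, show A.ρ S * (A.p * A.ρ (h01 k a) * A.p⁻¹) * (A.ρ S)⁻¹ =
      A.p * (A.ρ S * A.ρ (h01 k a) * (A.ρ S)⁻¹) * A.p⁻¹ by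
        rw [← mul_assoc, ← mul_assoc, hc.eq, mul_assoc _ A.p⁻¹ (A.ρ S)⁻¹, (hc.inv_inv).eq.symm]; group,
      ← map_inv, ← map_mul, ← map_mul]
    exact A.conj_p_ρ (mn_normalizes_Dg hS (h01_mem a))
  · exact key _ w01_mem A.conj_kk_w01

/-- Two elements agree modulo the torus. -/
def Cong (x y : G) : Prop := x * y⁻¹ ∈ A.TP

theorem cong_conj {x y n : G} (hn : n ∈ Subgroup.normalizer (A.TP : Set G)) (h : A.Cong x y) :
    A.Cong (n * x * n⁻¹) (n * y * n⁻¹) := by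
  unfold Cong at *
  rw [show n * x * n⁻¹ * (n * y * n⁻¹)⁻¹ = n * (x * y⁻¹) * n⁻¹ by group]
  exact (Subgroup.mem_normalizer_iff.1 hn _).1 h

theorem cong_symm {x y : G} (h : A.Cong x y) : A.Cong y x := by
  unfold Cong at *
  simpa using inv_mem h

theorem cong_trans {x y z : G} (h : A.Cong x y) (h' : A.Cong y z) : A.Cong x z := by
  unfold Cong at *
  simpa [mul_assoc] using mul_mem h h'

/-- The exchange at `i`. -/
def pp (i : Fin (k + 2)) : G :=
  A.ρ (monOf (Equiv.swap 0 i) 0) * A.p * (A.ρ (monOf (Equiv.swap 0 i) 0))⁻¹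

theorem conj_p {M : SLm} {π : Equiv.Perm (Fin (k + 2))} {c : Fin (k + 2) → F} (h : IsMon M π c) (h0 : π 0 = 0) :
    A.Cong (A.ρ M * A.p * (A.ρ M)⁻¹) A.p := by
  obtain ⟨M', -, hT, e⟩ := dg_split ⟨π, c, h⟩ h h0
  unfold Cong
  refine (congrArg (fun X => A.ρ X * A.p * (A.ρ X)⁻¹ * A.p⁻¹ ∈ A.TP) e).mpr ?_
  set a := Units.mk0 (c 0) (h.ne 0)
  rw [map_mul, _root_.mul_inv_rev, mul_assoc (A.ρ (h01 k a)) (A.ρ M') A.p, (A.stab_p _ hT).eq,
    show A.ρ (h01 k a) * (A.p * A.ρ M') * ((A.ρ M')⁻¹ * (A.ρ (h01 k a))⁻¹) * A.p⁻¹ =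
      A.ρ (h01 k a) * (A.p * (A.ρ (h01 k a))⁻¹ * A.p⁻¹) by group, ← map_inv, ← map_inv]
  exact mul_mem (A.ρ_mem_TP (h01_mem a)) (A.conj_p_ρ (h01_mem a⁻¹))

theorem conj_pp {M : SLm} {π : Equiv.Perm (Fin (k + 2))} {c : Fin (k + 2) → F} (h : IsMon M π c) (i : Fin (k + 2)) :
    A.Cong (A.ρ M * A.pp i * (A.ρ M)⁻¹) (A.pp (π i)) := by
  set Mi : SLm := monOf (Equiv.swap 0 i) 0
  set Mj : SLm := monOf (Equiv.swap 0 (π i)) 0
  have hi := isMon_monOf (F := F) (Equiv.swap (0 : Fin (k + 2)) i) 0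
  have hj := isMon_monOf (F := F) (Equiv.swap (0 : Fin (k + 2)) (π i)) 0
  have h' := (hj.inv.mul h).mul hi
  have hc := A.cong_conj (A.ρ_normalizer ⟨_, _, hj⟩) (A.conj_p h' (by simp))
  refine (Iff.of_eq ?_).mp hc
  simp only [pp, map_mul, map_inv]
  congr 1
  group

theorem p1_cong : A.Cong A.p1 (A.pp 1) := by
  have h1 := isMon_monOf (F := F) (Equiv.swap (0 : Fin (k + 2)) 1) 0
  have h := h1.inv.mul (w01_mon (k := k))
  have hc := A.cong_conj (A.ρ_normalizer ⟨_, _, h1⟩) (A.conj_p h (by simp))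
  refine (Iff.of_eq ?_).mp hc
  simp only [pp, p1, map_mul, map_inv]
  congr 1
  group

theorem p_cong : A.Cong A.p (A.pp 0) := by
  have h1 := isMon_monOf (F := F) (Equiv.swap (0 : Fin (k + 2)) 0) 0
  have hc := A.conj_p h1 (by simp)
  exact A.cong_symm hc

theorem pp_normalizer (i : Fin (k + 2)) : A.pp i ∈ Subgroup.normalizer (A.TP : Set G) :=
  mul_mem (mul_mem (A.ρ_normalizer ⟨_, _, isMon_monOf _ _⟩) A.p_normalizer)
    (inv_mem (A.ρ_normalizer ⟨_, _, isMon_monOf _ _⟩))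

theorem pp_sq (i : Fin (k + 2)) : A.pp i * A.pp i ∈ A.TP := by
  rw [pp, show ∀ a b : G, a * b * a⁻¹ * (a * b * a⁻¹) = a * (b * b) * a⁻¹ from fun a b => by group]
  exact (Subgroup.mem_normalizer_iff.1 (A.ρ_normalizer ⟨_, _, isMon_monOf _ _⟩) _).1 A.psq_mem

theorem pp_comm (i j : Fin (k + 2)) : A.Cong (A.pp i * A.pp j * (A.pp i)⁻¹) (A.pp j) := by
  by_cases hij : i = j
  · subst hij; simp [Cong, A.TP.one_mem]
  have h1 := isMon_monOf (F := F) (Equiv.swap (Equiv.swap 0 i 1) j * Equiv.swap (0 : Fin (k + 2)) i) 0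
  set π := Equiv.swap (Equiv.swap 0 i 1) j * Equiv.swap (0 : Fin (k + 2)) i with hπ
  have hne : i ≠ Equiv.swap 0 i 1 := fun e =>
    zero_ne_one' ((Equiv.swap (0 : Fin (k + 2)) i).injective ((Equiv.swap_apply_left _ _).trans e))
  have e0 : π 0 = i := by
    rw [hπ, Equiv.Perm.mul_apply, Equiv.swap_apply_left, Equiv.swap_apply_of_ne_of_ne hne hij]
  have e1 : π 1 = j := by rw [hπ, Equiv.Perm.mul_apply, Equiv.swap_apply_left]
  set n := A.ρ (monOf π 0) with hn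
  have hn' := A.ρ_normalizer (M := monOf π 0) ⟨_, _, h1⟩
  have a0 : A.Cong (n * A.p * n⁻¹) (A.pp i) :=
    A.cong_trans (A.cong_conj hn' A.p_cong) (e0 ▸ A.conj_pp h1 0)
  have a1 : A.Cong (n * A.p1 * n⁻¹) (A.pp j) :=
    A.cong_trans (A.cong_conj hn' A.p1_cong) (e1 ▸ A.conj_pp h1 1)
  set x := n * A.p * n⁻¹ with hx
  set y := n * A.p1 * n⁻¹ with hy
  have hxy : x * y * x⁻¹ = y := by
    rw [hx, hy, show n * A.p * n⁻¹ * (n * A.p1 * n⁻¹) * (n * A.p * n⁻¹)⁻¹ = n * (A.p * A.p1 * A.p⁻¹) * n⁻¹ by group,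
      show A.p * A.p1 = A.p1 * A.p from A.comm_p1.eq, mul_inv_cancel_right]
  have hxn : x ∈ Subgroup.normalizer (A.TP : Set G) := mul_mem (mul_mem hn' A.p_normalizer) (inv_mem hn')
  have hyn : y ∈ Subgroup.normalizer (A.TP : Set G) := mul_mem (mul_mem hn' (mul_mem (mul_mem
    (A.ρ_normalizer w01_mem) A.p_normalizer) (inv_mem (A.ρ_normalizer w01_mem)))) (inv_mem hn')
  have ht := A.cong_symm a0
  unfold Cong at ht
  set t := A.pp i * x⁻¹ with ht'
  have step : A.Cong (A.pp i * A.pp j * (A.pp i)⁻¹) (A.pp i * y * (A.pp i)⁻¹) :=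
    A.cong_conj (A.pp_normalizer i) (A.cong_symm a1)
  refine A.cong_trans step (A.cong_trans (y := y) ?_ a1)
  unfold Cong
  rw [show A.pp i * y * (A.pp i)⁻¹ * y⁻¹ = t * (x * y * x⁻¹) * t⁻¹ * y⁻¹ by rw [ht']; group, hxy,
    show t * y * t⁻¹ * y⁻¹ = t * (y * t⁻¹ * y⁻¹) by group]
  exact mul_mem ht ((Subgroup.mem_normalizer_iff.1 hyn _).1 (inv_mem ht))

theorem isMono_pp (i : Fin (k + 2)) : IsMono Φ (A.φ (A.pp i)) := by
  rw [pp, map_mul, map_mul, map_inv]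
  exact ((A.isMono_ρ ⟨_, _, isMon_monOf _ _⟩).mul A.isMono_p).mul (A.isMono_ρ ⟨_, _, isMon_monOf _ _⟩).inv

theorem mv_pp (i : Fin (k + 2)) (d : SI (k + 2)) :
    Mv Φ (A.φ (A.pp i)) d (if ix d = i then d.swap else d) := by
  set π := Equiv.swap (0 : Fin (k + 2)) i with hπ
  have hM := isMon_monOf (F := F) π 0
  obtain ⟨b, rfl⟩ : ∃ b, Sum.map π π b = d := by
    rcases d with j | j
    · exact ⟨.inl (π.symm j), by simp⟩
    · exact ⟨.inr (π.symm j), by simp⟩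
  have hb := A.mv_ρ hM b
  have hix : ix (Sum.map π π b) = π (ix b) := by cases b <;> rfl
  have hiff : π (ix b) = i ↔ ix b = 0 := by
    conv_lhs => rw [show i = π 0 by simp [hπ]]
    exact π.injective.eq_iff
  rw [pp, map_mul, map_mul, map_inv]
  by_cases h : ix b = 0
  · rw [if_pos (by rw [hix, hiff]; exact h)]
    refine Mv.mul (Mv.mul ?_ (A.mv_p0 b h)) hb.inv
    have := A.mv_ρ hM b.swap
    cases b <;> exact this
  · rw [if_neg (by rw [hix, hiff]; exact h)]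
    exact (hb.mul (A.mv_p b h)).mul hb.inv

/-- The flips at a set of indices. -/
def PS (S : Finset (Fin (k + 2))) : Subgroup G := A.TP ⊔ Subgroup.closure (A.pp '' (S : Set (Fin (k + 2))))

theorem PS_mono {S T : Finset (Fin (k + 2))} (h : S ⊆ T) : A.PS S ≤ A.PS T :=
  sup_le_sup_left (Subgroup.closure_mono (Set.image_mono (Finset.coe_subset.2 h))) _

theorem pp_mem_PS {S : Finset (Fin (k + 2))} {i : Fin (k + 2)} (h : i ∈ S) : A.pp i ∈ A.PS S :=
  Subgroup.mem_sup_right (Subgroup.subset_closure ⟨i, h, rfl⟩)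

theorem conj_PS {S T : Finset (Fin (k + 2))} {y : G} (hy : y ∈ Subgroup.normalizer (A.TP : Set G))
    (h : ∀ i ∈ S, ∃ j ∈ T, A.Cong (y * A.pp i * y⁻¹) (A.pp j)) {x : G} (hx : x ∈ A.PS S) :
    y * x * y⁻¹ ∈ A.PS T := by
  have : (A.PS S) ≤ (A.PS T).comap (MulAut.conj y).toMonoidHom := by
    refine sup_le (fun t ht => Subgroup.mem_sup_left ((Subgroup.mem_normalizer_iff.1 hy t).1 ht))
      ((Subgroup.closure_le _).2 ?_)
    rintro _ ⟨i, hi, rfl⟩
    obtain ⟨j, hj, hc⟩ := h i hi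
    show y * A.pp i * y⁻¹ ∈ A.PS T
    rw [show y * A.pp i * y⁻¹ = y * A.pp i * y⁻¹ * (A.pp j)⁻¹ * A.pp j by group]
    exact mul_mem (Subgroup.mem_sup_left hc) (A.pp_mem_PS hj)
  exact this hx

theorem PS_insert {S : Finset (Fin (k + 2))} {i : Fin (k + 2)} {x : G} (hx : x ∈ A.PS (insert i S)) :
    x ∈ A.PS S ∨ (A.pp i)⁻¹ * x ∈ A.PS S := by
  refine sup_zpowers_two (fun h hh => A.conj_PS (A.pp_normalizer i) (fun j hj => ⟨j, hj, A.pp_comm i j⟩) hh)
    (Subgroup.mem_sup_left (A.pp_sq i)) ((?_ : A.PS (insert i S) ≤ A.PS S ⊔ Subgroup.zpowers (A.pp i)) hx)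
  refine sup_le (le_sup_left.trans le_sup_left) ((Subgroup.closure_le _).2 ?_)
  rintro _ ⟨j, hj, rfl⟩
  rcases Finset.mem_insert.1 hj with rfl | hj
  · exact Subgroup.mem_sup_right (Subgroup.mem_zpowers _)
  · exact Subgroup.mem_sup_left (A.pp_mem_PS hj)

theorem PS_empty : A.PS ∅ = A.TP := by simp [PS]

theorem PS_spec : ∀ (S : Finset (Fin (k + 2))) {x : G}, x ∈ A.PS S →
    IsMono Φ (A.φ x) ∧ ∀ d, (Mv Φ (A.φ x) d d ∨ Mv Φ (A.φ x) d d.swap) ∧ (ix d ∉ S → Mv Φ (A.φ x) d d) := by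
  intro S
  induction S using Finset.induction_on with
  | empty =>
    intro x hx
    rw [A.PS_empty] at hx
    exact ⟨(A.TP_diag hx).1, fun d => ⟨Or.inl ((A.TP_diag hx).2 d), fun _ => (A.TP_diag hx).2 d⟩⟩
  | insert i S hi ih =>
    intro x hx
    rcases A.PS_insert hx with h | h
    · obtain ⟨h1, h2⟩ := ih h
      exact ⟨h1, fun d => ⟨(h2 d).1, fun hd => (h2 d).2 fun h' => hd (Finset.mem_insert_of_mem h')⟩⟩
    · obtain ⟨h1, h2⟩ := ih h
      have e : A.φ x = A.φ (A.pp i) * A.φ ((A.pp i)⁻¹ * x) := by rw [← map_mul, mul_inv_cancel_left]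
      refine ⟨by rw [e]; exact (A.isMono_pp i).mul h1, fun d => ⟨?_, fun hd => ?_⟩⟩
      · rw [e]
        have hp := fun d' => A.mv_pp i d'
        rcases (h2 d).1 with h' | h'
        · have := (hp d).mul h'
          split_ifs at this
          · exact Or.inr this
          · exact Or.inl this
        · have := (hp d.swap).mul h'
          rw [ix_swap, Sum.swap_swap] at this
          split_ifs at this
          · exact Or.inl this
          · exact Or.inr this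
      · rw [Finset.mem_insert, not_or] at hd
        rw [e]
        have := A.mv_pp i d
        rw [if_neg hd.1] at this
        exact this.mul ((h2 d).2 hd.2)

theorem PS_fix : ∀ (S : Finset (Fin (k + 2))) {x : G}, x ∈ A.PS S → ∀ T : Finset (Fin (k + 2)),
    (∀ i ∈ T, Mv Φ (A.φ x) (.inl i) (.inl i)) → x ∈ A.PS (S \ T) := by
  intro S
  induction S using Finset.induction_on with
  | empty => intro x hx T _; simpa using hx
  | insert i S hi ih =>
    intro x hx T hT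
    rcases A.PS_insert hx with h | h
    · exact A.PS_mono (Finset.sdiff_subset_sdiff (Finset.subset_insert i S) le_rfl) (ih h T hT)
    · have e : A.φ x = A.φ (A.pp i) * A.φ ((A.pp i)⁻¹ * x) := by rw [← map_mul, mul_inv_cancel_left]
      by_cases hiT : i ∈ T
      · exfalso
        have h1 := (((A.PS_spec S h).2 (.inl i)).2 hi)
        have h2 := A.mv_pp i (.inl i)
        rw [ix_inl, if_pos rfl] at h2
        have := hT i hiT
        rw [e] at this
        exact absurd (this.unique (h2.mul h1)) (by simp)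
      · have hrec : (A.pp i)⁻¹ * x ∈ A.PS (S \ T) := ih h T fun j hj => by
          have h2 := A.mv_pp i (.inl j)
          rw [ix_inl, if_neg (fun (e' : j = i) => hiT (e' ▸ hj))] at h2
          rw [map_mul, map_inv]
          exact h2.inv.mul (hT j hj)
        rw [show x = A.pp i * ((A.pp i)⁻¹ * x) by group]
        exact mul_mem (A.pp_mem_PS (Finset.mem_sdiff.2 ⟨Finset.mem_insert_self _ _, hiT⟩))
          (A.PS_mono (Finset.sdiff_subset_sdiff (Finset.subset_insert i S) le_rfl) hrec)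

/-- The group of monomial elements. -/
def N : Subgroup G := (Mn (Fin (k + 2)) F).map A.ρ ⊔ A.PS Finset.univ

theorem ρ_mem_N {M : SLm} (hM : M ∈ Mn (Fin (k + 2)) F) : A.ρ M ∈ A.N := Subgroup.mem_sup_left ⟨M, hM, rfl⟩

theorem PS_le_N (S : Finset (Fin (k + 2))) : A.PS S ≤ A.N :=
  (A.PS_mono (Finset.subset_univ S)).trans le_sup_right

theorem TP_le_N : A.TP ≤ A.N := le_trans le_sup_left le_sup_right

theorem p_mem_N : A.p ∈ A.N := by
  refine A.PS_le_N {0} ?_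
  rw [show A.p = A.p * (A.pp 0)⁻¹ * A.pp 0 by group]
  exact mul_mem (Subgroup.mem_sup_left A.p_cong) (A.pp_mem_PS (Finset.mem_singleton_self _))

theorem p1_mem_N : A.p1 ∈ A.N :=
  mul_mem (mul_mem (A.ρ_mem_N w01_mem) A.p_mem_N) (inv_mem (A.ρ_mem_N w01_mem))

theorem pp_mem_N (i : Fin (k + 2)) : A.pp i ∈ A.N := A.PS_le_N {i} (A.pp_mem_PS (Finset.mem_singleton_self _))

theorem N_decomp {n : G} (hn : n ∈ A.N) :
    ∃ M ∈ Mn (Fin (k + 2)) F, ∃ x ∈ A.PS Finset.univ, n = A.ρ M * x := by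
  have hnorm : (Mn (Fin (k + 2)) F).map A.ρ ≤ Subgroup.normalizer (A.PS Finset.univ : Set G) := by
    refine le_normalizer_of_conj ?_
    rintro _ ⟨M, hM, rfl⟩ x hx
    obtain ⟨π, c, h⟩ := hM
    exact A.conj_PS (A.ρ_normalizer ⟨π, c, h⟩) (fun i _ => ⟨π i, Finset.mem_univ _, A.conj_pp h i⟩) hx
  obtain ⟨_, ⟨M, hM, rfl⟩, b, hb, e⟩ := exists_mul_of_sup hnorm hn
  exact ⟨M, hM, b, hb, e⟩

theorem N_mono {n : G} (hn : n ∈ A.N) : IsMono Φ (A.φ n) := by
  obtain ⟨M, hM, x, hx, rfl⟩ := A.N_decomp hn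
  rw [map_mul]; exact (A.isMono_ρ hM).mul (A.PS_spec _ hx).1

/-- Elements fixing the lines of the positive indices in `T`. -/
theorem N_fix {n : G} (hn : n ∈ A.N) {T : Finset (Fin (k + 2))} (hT : ∀ i ∈ T, Mv Φ (A.φ n) (.inl i) (.inl i)) :
    ∃ M π c, IsMon M π c ∧ (∀ i ∈ T, π i = i) ∧ ∃ x ∈ A.PS (Finset.univ \ T), n = A.ρ M * x := by
  obtain ⟨M, ⟨π, c, h⟩, x, hx, rfl⟩ := A.N_decomp hn
  have key : ∀ i ∈ T, π i = i ∧ Mv Φ (A.φ x) (.inl i) (.inl i) := fun i hi => by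
    rcases ((A.PS_spec _ hx).2 (.inl i)).1 with hx' | hx'
    · have h1 := hT i hi
      rw [map_mul] at h1
      have := h1.unique ((A.mv_ρ h _).mul hx')
      exact ⟨by simpa [eq_comm] using this, hx'⟩
    · have h1 := hT i hi
      rw [map_mul] at h1
      have := h1.unique ((A.mv_ρ h _).mul hx')
      simp at this
  exact ⟨M, π, c, h, fun i hi => (key i hi).1, x, A.PS_fix _ hx T fun i hi => (key i hi).2, rfl⟩

theorem N_diag {n : G} (hn : n ∈ A.N) (h : ∀ i, Mv Φ (A.φ n) (.inl i) (.inl i)) : n ∈ A.TP := by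
  obtain ⟨M, π, c, hM, hπ, x, hx, rfl⟩ := A.N_fix hn (T := Finset.univ) fun i _ => h i
  rw [Finset.sdiff_self, A.PS_empty] at hx
  obtain rfl : π = 1 := Equiv.ext fun i => hπ i (Finset.mem_univ i)
  exact mul_mem (A.ρ_mem_TP ⟨c, hM⟩) hx

theorem N_inj {n : G} (hn : n ∈ A.N) (h : A.φ n = 1) : n = 1 :=
  A.TP_inj (A.N_diag hn fun i => by rw [h]; exact Mv.refl _) h

theorem exists_move : ∀ {l : ℕ} (hl : l ≤ k + 2) (s : Fin l → SI (k + 2)), Function.Injective (ix ∘ s) →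
    ∃ n ∈ A.N, ∀ a, Mv Φ (A.φ n) (.inl (Fin.castLE hl a)) (s a) := by
  intro l
  induction l with
  | zero => intro hl s _; exact ⟨1, one_mem _, fun a => a.elim0⟩
  | succ l ih =>
    intro hl s hs
    obtain ⟨n, hn, hna⟩ := ih (by omega) (fun a => s a.castSucc)
      (fun a b e => Fin.castSucc_injective _ (hs e))
    obtain ⟨d, hd⟩ := (A.N_mono hn).1 (.inl (Fin.castLE hl (Fin.last l)))
    set t := s (Fin.last l)
    have hne : ∀ a : Fin l, ix (s a.castSucc) ≠ ix d := fun a =>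
      ix_ne_of_mv (A.N_mono hn) (hna a) hd (by
        simp only [ix_inl, ne_eq, Fin.ext_iff, Fin.val_castLE, Fin.val_last]; omega)
    have hne' : ∀ a : Fin l, ix (s a.castSucc) ≠ ix t := fun a e =>
      (Fin.castSucc_lt_last a).ne (hs e)
    set π := Equiv.swap (ix d) (ix t) with hπ
    have hM := isMon_monOf (F := F) π (ix t)
    have fixs : ∀ a : Fin l, Sum.map π π (s a.castSucc) = s a.castSucc := fun a => by
      have := hne a; have := hne' a
      rcases hsa : s a.castSucc with j | j <;> simp_all [Equiv.swap_apply_of_ne_of_ne]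
    have hd' : ix (Sum.map π π d) = ix t := by cases d <;> simp [hπ]
    have h1 : ∀ a : Fin l, Mv Φ (A.φ (A.ρ (monOf π (ix t)) * n)) (.inl (Fin.castLE (by omega) a)) (s a.castSucc) :=
      fun a => by
        have := (A.mv_ρ hM (s a.castSucc)).mul (hna a)
        rwa [fixs, ← map_mul] at this
    have h2 : Mv Φ (A.φ (A.ρ (monOf π (ix t)) * n)) (.inl (Fin.castLE hl (Fin.last l))) (Sum.map π π d) := by
      rw [map_mul]; exact (A.mv_ρ hM d).mul hd
    set n' := A.ρ (monOf π (ix t)) * n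
    have hn' : n' ∈ A.N := mul_mem (A.ρ_mem_N ⟨_, _, hM⟩) hn
    rcases ix_eq_iff.1 hd' with e | e
    · refine ⟨n', hn', fun a => ?_⟩
      induction a using Fin.lastCases with
      | last => rw [← e] at h2; exact h2
      | cast a => exact h1 a
    · refine ⟨A.pp (ix t) * n', mul_mem (A.pp_mem_N _) hn', fun a => ?_⟩
      rw [map_mul]
      induction a using Fin.lastCases with
      | last =>
        have := (A.mv_pp (ix t) (Sum.map π π d)).mul h2
        rw [if_pos hd', ← e] at this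
        exact this
      | cast a =>
        have := (A.mv_pp (ix t) (s a.castSucc)).mul (h1 a)
        rw [if_neg (hne' a)] at this
        exact this

end Base

end CfsgLib.SUPres
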