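import Cfsg.Agent.SUPres.PresentTwo
import Cfsg.Agent.SLnPres.Final
import Cfsg.Agent.SL2Pres.Odd
import Cfsg.Agent.SL2Pres.Even
import Cfsg.Agent.SUTwoGen.Main
import Cfsg.Agent.Forms4.UnitaryCenter

/-!
# Short presentations of the special unitary groups and their central quotients
-/

set_option autoImplicit false
set_option linter.unusedSectionVars false

namespace CfsgLib.SUPres

open CfsgLib.RepBounds.Unit CfsgLib.SUThreeUnipotent CfsgLib.SUTwoGen CfsgLib.BoundedAlt

variable {F : Type*} [Field F] [Fintype F]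

/-- Six generators from any number at least four, when the group has two generators. -/
theorem retarget_six {j r : ℕ} {T : Type*} [Group T] (rels : Finset (FreeGroup (Fin (j + 4)))) (hr : rels.card ≤ r)
    (e : PresentedGroup (↑rels : Set (FreeGroup (Fin (j + 4)))) ≃* T) (a b : T)
    (hab : Subgroup.closure ({a, b} : Set T) = ⊤) :
    ∃ rels' : Finset (FreeGroup (Fin 6)), rels'.card ≤ r + 2 ∧
      Nonempty (PresentedGroup (↑rels' : Set (FreeGroup (Fin 6))) ≃* T) := by
  classical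
  have hj : ∀ i : Fin 4, (i : ℕ) < j + 4 := fun i => by omega
  let old : Fin 4 → Fin (j + 4) := fun i => ⟨i, hj i⟩
  let f : Fin (4 + 2) → T := Fin.addCases (fun i => e (PresentedGroup.of (old i))) ![a, b]
  have hs : Function.Surjective (FreeGroup.lift f) := by
    rw [← MonoidHom.range_eq_top, FreeGroup.range_lift_eq_closure, eq_top_iff, ← hab, Subgroup.closure_le]
    rintro x (rfl | rfl) <;> refine Subgroup.subset_closure ?_
    · exact ⟨Fin.natAdd 4 0, by simp only [f, Fin.addCases_right]; rfl⟩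
    · exact ⟨Fin.natAdd 4 1, by simp only [f, Fin.addCases_right]; rfl⟩
  choose w0 hw0 using fun s => hs (e (PresentedGroup.of s))
  let w : Fin (j + 4) → FreeGroup (Fin (4 + 2)) := fun s =>
    if h : (s : ℕ) < 4 then FreeGroup.of (Fin.castAdd 2 ⟨s, h⟩) else w0 s
  have hw : ∀ s, FreeGroup.lift f (w s) = e (PresentedGroup.of s) := fun s => by
    by_cases h : (s : ℕ) < 4
    · simp only [w, dif_pos h, FreeGroup.lift_apply_of, f, Fin.addCases_left]
      rfl
    · simp only [w, dif_neg h]; exact hw0 s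
  choose va hva using fun i => PresentedGroup.mk_surjective _ (e.symm (![a, b] i))
  let v : Fin (4 + 2) → FreeGroup (Fin (j + 4)) := Fin.addCases (fun i => FreeGroup.of (old i)) va
  obtain ⟨rels', hc, e', -⟩ := retarget rels e f w v hw (fun i => by
    refine Fin.addCases (fun i => ?_) (fun i => ?_) i
    · simp only [f, v, Fin.addCases_left]; rfl
    · simp only [f, v, Fin.addCases_right]; rw [hva, MulEquiv.apply_symm_apply])
  refine ⟨rels', hc.trans (Nat.add_le_add hr ?_), ⟨e'⟩⟩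
  refine (Finset.card_le_card (t := Finset.univ.image (Fin.natAdd 4)) fun i hi => ?_).trans
    (Finset.card_image_le.trans (by simp))
  induction i using Fin.addCases with
  | left i =>
    exfalso
    simp only [Finset.mem_filter, Finset.mem_univ, true_and, v, Fin.addCases_left, FreeGroup.lift_apply_of] at hi
    exact hi (by simp only [w, old, dif_pos i.isLt])
  | right i => exact Finset.mem_image_of_mem _ (Finset.mem_univ i)

/-- `SL₂` on three generators with at most nine relations. -/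
theorem exists_SL_two (F : Type*) [Field F] [Fintype F] :
    ∃ rels : Finset (FreeGroup (Fin 3)), rels.card ≤ 9 ∧
      Nonempty (PresentedGroup (↑rels : Set (FreeGroup (Fin 3))) ≃* Matrix.SpecialLinearGroup (Fin 2) F) := by
  obtain ⟨p, hp⟩ := CharP.exists F
  have hp' : Fact p.Prime := ⟨CharP.char_is_prime F p⟩
  rcases Nat.even_or_odd (Fintype.card F) with h | h
  · have h2 : ringChar F = 2 := FiniteField.even_card_iff_char_two.2 (Nat.even_iff.1 h)
    have : CharP F 2 := ringChar.of_eq h2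
    obtain ⟨rels, hc, e⟩ := CfsgLib.SL2Pres.presentation_even_SL (F := F)
    exact ⟨rels, hc.trans (by norm_num), e⟩
  · exact (CfsgLib.SL2Pres.presentations_odd p h).1

/-- `SU_N` on at least four generators. -/
theorem exists_su_parts (C : ConjField F) {N : ℕ} (hN : 4 ≤ N) :
    ∃ (j R : ℕ) (rels : Finset (FreeGroup (Fin (j + 4)))), rels.card ≤ R ∧ R ≤ 37 ∧ (N ≤ 5 → R ≤ 29) ∧
      Nonempty (PresentedGroup (↑rels : Set (FreeGroup (Fin (j + 4)))) ≃* suG C (Fin N)) := by
  obtain ⟨k, hk, hk'⟩ : ∃ k, 2 * (k + 2) ≤ N ∧ N ≤ 2 * (k + 2) + 1 := ⟨N / 2 - 2, by omega, by omega⟩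
  obtain ⟨Φ, -, -⟩ := exists_pframe C (k + 2) N hk hk'
  have hι : ¬ (Fintype.card (Fin N) = 3 ∧ C.q = 2) := by rw [Fintype.card_fin]; omega
  obtain ⟨p, hp⟩ := CharP.exists F
  have hp' : Fact p.Prime := ⟨CharP.char_is_prime F p⟩
  let _ : Algebra (ZMod p) F := ZMod.algebra F p
  rcases k with _ | _ | r
  · obtain ⟨relsS, hc, ⟨eS⟩⟩ := exists_SL_two F
    obtain ⟨rels, hr, he⟩ := exists_presentation2 Φ hι relsS hc eS
    exact ⟨0, 29, rels, hr.trans (by norm_num), by norm_num, fun _ => le_rfl, he⟩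
  · obtain ⟨relsS, hc, ⟨eS⟩⟩ := CfsgLib.SL3Pres.exists_presentation (F := F) p
    obtain ⟨rels, hr, he⟩ := exists_presentation3 (k := 0) Φ hι relsS hc eS
    exact ⟨1, 27, rels, hr.trans (by norm_num), by norm_num, fun h => by omega, he⟩
  · obtain ⟨m, M, relsS, hcase, hc, he⟩ := CfsgLib.SLnPres.exists_SL_parts (F := F) p (r := r + 1) (by omega)
    rw [show 3 + (r + 1) = r + 1 + 1 + 2 by omega] at he
    obtain ⟨eS⟩ := he
    obtain ⟨rels, hr, hi⟩ := exists_presentation3 (k := r + 1) Φ hι relsS hc eS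
    rcases hcase with ⟨-, rfl, hM⟩ | ⟨-, rfl, rfl⟩
    · exact ⟨2, 37, rels, hr.trans (by omega), le_rfl, fun h => by omega, hi⟩
    · exact ⟨3, 37, rels, hr.trans (by norm_num), le_rfl, fun h => by omega, hi⟩

theorem center_cyclic_SU {q n : ℕ} (hF : Fintype.card F = q ^ 2) (hn : 2 ≤ n) :
    IsCyclic (Subgroup.center (Cfsg.SU n F q)) := by
  let i0 : Fin n := ⟨0, by omega⟩
  have key : ∀ (A : Subgroup.center (Cfsg.SU n F q)), A.1.1.1 = A.1.1.1 i0 i0 • (1 : Matrix (Fin n) (Fin n) F) := by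
    intro A
    obtain ⟨r, hr⟩ := CfsgLib.Forms4.exists_scalar_of_mem_center hF hn A.2
    rw [hr]; simp
  let χ : Subgroup.center (Cfsg.SU n F q) →* F :=
    { toFun := fun A => A.1.1.1 i0 i0
      map_one' := by simp
      map_mul' := fun A B => by
        show (A.1.1.1 * B.1.1.1) i0 i0 = _
        rw [key A]
        simp }
  exact isCyclic_of_injective_ringHom χ fun A B (e : A.1.1.1 i0 i0 = B.1.1.1 i0 i0) =>
    Subtype.ext (Subtype.ext (Subtype.ext (by rw [key A, key B, e])))

theorem psu_of_su {q n g N : ℕ} (hF : Fintype.card F = q ^ 2) (hn : 2 ≤ n) (rels : Finset (FreeGroup (Fin g)))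
    (hc : rels.card ≤ N) (e : PresentedGroup (↑rels : Set (FreeGroup (Fin g))) ≃* Cfsg.SU n F q) :
    ∃ rels' : Finset (FreeGroup (Fin g)), rels'.card ≤ N + 1 ∧
      Nonempty (PresentedGroup (↑rels' : Set (FreeGroup (Fin g))) ≃* Cfsg.PSU n F q) := by
  have := center_cyclic_SU hF hn
  obtain ⟨z, hz⟩ := IsCyclic.exists_generator (α := Subgroup.center (Cfsg.SU n F q))
  have hN : Subgroup.normalClosure {(z : Cfsg.SU n F q)} = Subgroup.center (Cfsg.SU n F q) := by
    refine le_antisymm (Subgroup.normalClosure_le_normal (Set.singleton_subset_iff.2 z.2)) fun y hy => ?_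
    obtain ⟨i, hi⟩ := hz ⟨y, hy⟩
    rw [show y = ((z ^ i : Subgroup.center (Cfsg.SU n F q)) : Cfsg.SU n F q) from (congrArg Subtype.val hi).symm,
      Subgroup.coe_zpow]
    exact zpow_mem (Subgroup.subset_normalClosure (Set.mem_singleton _)) i
  obtain ⟨w, hw⟩ := PresentedGroup.mk_surjective _ (e.symm z)
  exact CfsgLib.PresLib.presentation_quotient rels N hc e _ w (by rw [hw, MulEquiv.apply_symm_apply, hN])

/-- `SU_n` and `PSU_n`, `n ≥ 4`, on six and on two generators. -/
theorem presentations {q : ℕ} (hF : Fintype.card F = q ^ 2) {n : ℕ} (hn : 4 ≤ n) :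
    ∃ N, N ≤ 39 ∧ (n ≤ 5 → N ≤ 31) ∧
      (∃ rels : Finset (FreeGroup (Fin 6)), rels.card ≤ N ∧
        Nonempty (PresentedGroup (↑rels : Set (FreeGroup (Fin 6))) ≃* Cfsg.SU n F q)) ∧
      (∃ rels : Finset (FreeGroup (Fin 6)), rels.card ≤ N + 1 ∧
        Nonempty (PresentedGroup (↑rels : Set (FreeGroup (Fin 6))) ≃* Cfsg.PSU n F q)) ∧
      ∃ rels : Finset (FreeGroup (Fin 2)), rels.card ≤ N + 1 ∧
        Nonempty (PresentedGroup (↑rels : Set (FreeGroup (Fin 2))) ≃* Cfsg.PSU n F q) := by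
  obtain ⟨C, rfl⟩ := exists_conjField q hF
  obtain ⟨j, R, rels, hc, hR, hR', ⟨e⟩⟩ := exists_su_parts C hn
  obtain ⟨a, b, hab⟩ := generate_two C hn
  obtain ⟨R6, h6, ⟨e6⟩⟩ := retarget_six rels hc e a b hab
  obtain ⟨R2, h2, e2, -⟩ := retarget_pair rels hc e a b hab
  have heq : suG C (Fin n) = Cfsg.SU n F C.q := suG_fin_eq C n
  refine ⟨R + 2, by omega, fun h => by have := hR' h; omega,
    ⟨R6, h6, ⟨e6.trans (MulEquiv.subgroupCongr heq)⟩⟩,
    psu_of_su hF (by omega) R6 h6 (e6.trans (MulEquiv.subgroupCongr heq)),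
    psu_of_su hF (by omega) R2 h2 (e2.trans (MulEquiv.subgroupCongr heq))⟩

end CfsgLib.SUPres
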