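import Cfsg.Agent.SUPres.Mono
import Cfsg.Agent.DnPres.Sl

/-!
# The monomial part of the amalgam of `SL_m` and the exchange at one index
-/

set_option autoImplicit false
set_option linter.unusedSectionVars false
set_option linter.unusedSimpArgs false

namespace CfsgLib.SUPres

open Matrix CfsgLib.RepBounds.Unit CfsgLib.SUThreeUnipotent CfsgLib.SUTwoGen CfsgLib.SL2Pres CfsgLib.SLnPres
open CfsgLib.SpnPres (IsMon monOf isMon_monOf dOne dOne_apply)
open CfsgLib.DnPres (eA coe_eA eAm eA_hD_mon eA_wW_mon')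

section Matrices

variable {F : Type*} [Field F] {κ : Type*} [Fintype κ] [DecidableEq κ]

/-- Monomial matrices. -/
def Mn (κ F : Type*) [Fintype κ] [DecidableEq κ] [Field F] : Subgroup (Matrix.SpecialLinearGroup κ F) where
  carrier := {M | ∃ π c, IsMon M π c}
  one_mem' := ⟨1, 1, IsMon.one⟩
  mul_mem' := fun ⟨_, _, h⟩ ⟨_, _, h'⟩ => ⟨_, _, h.mul h'⟩
  inv_mem' := fun ⟨_, _, h⟩ => ⟨_, _, h.inv⟩

/-- Diagonal matrices. -/
def Dg (κ F : Type*) [Fintype κ] [DecidableEq κ] [Field F] : Subgroup (Matrix.SpecialLinearGroup κ F) where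
  carrier := {M | ∃ c, IsMon M 1 c}
  one_mem' := ⟨1, IsMon.one⟩
  mul_mem' := by
    rintro A B ⟨a, ha⟩ ⟨b, hb⟩
    exact ⟨_, by simpa using ha.mul hb⟩
  inv_mem' := by
    rintro A ⟨a, ha⟩
    exact ⟨_, by simpa using ha.inv⟩

theorem mem_Mn {M : Matrix.SpecialLinearGroup κ F} : M ∈ Mn κ F ↔ ∃ π c, IsMon M π c := Iff.rfl

theorem mem_Dg {M : Matrix.SpecialLinearGroup κ F} : M ∈ Dg κ F ↔ ∃ c, IsMon M 1 c := Iff.rfl

theorem Dg_le_Mn : Dg κ F ≤ Mn κ F := fun _ ⟨c, h⟩ => ⟨1, c, h⟩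

theorem Dg_comm {A B : Matrix.SpecialLinearGroup κ F} (hA : A ∈ Dg κ F) (hB : B ∈ Dg κ F) : Commute A B := by
  obtain ⟨a, ha⟩ := hA
  obtain ⟨b, hb⟩ := hB
  apply Subtype.ext
  ext x y
  rw [(ha.mul hb).eq, (hb.mul ha).eq]
  simp [mul_comm]

theorem mn_normalizes_Dg {M D : Matrix.SpecialLinearGroup κ F} (hM : M ∈ Mn κ F) (hD : D ∈ Dg κ F) :
    M * D * M⁻¹ ∈ Dg κ F := by
  obtain ⟨π, c, h⟩ := hM
  obtain ⟨d, hd⟩ := hD
  exact ⟨_, by simpa using (h.mul hd).mul h.inv⟩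

/-- The row and the column of `i` are trivial. -/
def Triv (i : κ) (M : Matrix.SpecialLinearGroup κ F) : Prop :=
  ∀ a b, a = i ∨ b = i → M.1 a b = (1 : Matrix κ κ F) a b

theorem triv_mon {M : Matrix.SpecialLinearGroup κ F} {π : Equiv.Perm κ} {c : κ → F} (h : IsMon M π c) {i : κ}
    (hi : π i = i) (hc : c i = 1) : Triv i M := by
  intro a b hab
  rw [h.eq, Matrix.one_apply]
  by_cases hb : b = i
  · subst hb; rw [hi, hc]; simp [eq_comm]
  · rcases hab with rfl | h'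
    · rw [if_neg (fun e => hb (π.injective (e.trans hi.symm))), if_neg (Ne.symm hb)]
    · exact absurd h' hb

end Matrices

section Group

variable {G : Type*} [Group G]

/-- Adjoining an element whose square lies in a normalised subgroup. -/
theorem sup_zpowers_two {H : Subgroup G} {y x : G} (hn : ∀ h ∈ H, y * h * y⁻¹ ∈ H) (h2 : y * y ∈ H)
    (hx : x ∈ H ⊔ Subgroup.zpowers y) : x ∈ H ∨ y⁻¹ * x ∈ H := by
  have hn' : ∀ h ∈ H, y⁻¹ * h * y ∈ H := fun h hh => by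
    rw [show y⁻¹ * h * y = (y * y)⁻¹ * (y * h * y⁻¹) * (y * y) by group]
    exact mul_mem (mul_mem (inv_mem h2) (hn h hh)) h2
  let S : Subgroup G :=
    { carrier := {x | x ∈ H ∨ y⁻¹ * x ∈ H}
      one_mem' := Or.inl H.one_mem
      mul_mem' := by
        rintro a b (ha | ha) (hb | hb)
        · exact Or.inl (mul_mem ha hb)
        · refine Or.inr ?_
          rw [show y⁻¹ * (a * b) = y⁻¹ * a * y * (y⁻¹ * b) by group]
          exact mul_mem (hn' a ha) hb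
        · exact Or.inr (by rw [← mul_assoc]; exact mul_mem ha hb)
        · refine Or.inl ?_
          rw [show a * b = y * (y⁻¹ * a) * y⁻¹ * (y * y) * (y⁻¹ * b) by group]
          exact mul_mem (mul_mem (hn _ ha) h2) hb
      inv_mem' := by
        rintro a (ha | ha)
        · exact Or.inl (inv_mem ha)
        · refine Or.inr ?_
          rw [show y⁻¹ * a⁻¹ = y⁻¹ * (y⁻¹ * a)⁻¹ * y * (y * y)⁻¹ by group]
          exact mul_mem (hn' _ (inv_mem ha)) (inv_mem h2) }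
  have : H ⊔ Subgroup.zpowers y ≤ S :=
    sup_le (fun _ h => Or.inl h) (Subgroup.zpowers_le.2 (Or.inr (by rw [inv_mul_cancel]; exact H.one_mem)))
  exact this hx

theorem mem_normalizer_fin {H : Subgroup G} [Finite H] {y : G} (hn : ∀ h ∈ H, y * h * y⁻¹ ∈ H) {h : G} :
    y * h * y⁻¹ ∈ H ↔ h ∈ H :=
  ⟨fun hh => by
    have hf : H.map (MulAut.conj y).toMonoidHom = H := by
      refine Subgroup.eq_of_le_of_card_ge (Subgroup.map_le_iff_le_comap.2 fun a ha => hn a ha) ?_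
      rw [Subgroup.card_map_of_injective (MulAut.conj y).injective]
    rw [← hf] at hh
    obtain ⟨a, ha, e⟩ := hh
    rwa [← (MulAut.conj y).injective e], hn h⟩

end Group

variable {F : Type*} [Field F] [Fintype F] {C : ConjField F} {ι : Type*} [Fintype ι] [DecidableEq ι]

theorem lev_inl {m : ℕ} {Φ : PFrame C m ι} (M : Matrix.SpecialLinearGroup (Fin m) F) (i j : Fin m) :
    herm C (app C (lev Φ M) (Φ.v (.inl j))) (Φ.v (.inr i)) = M.1 i j := by
  rw [app_lev, levMap_herm_inr, Matrix.mulVec, dotProduct, Finset.sum_eq_single j]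
  · simp [herm_vv]
  · intro x _ hx; rw [herm_v0 Φ (by simp [hx]), mul_zero]
  · simp

theorem mem_Dg_of_lines {m : ℕ} {Φ : PFrame C m ι} {M : Matrix.SpecialLinearGroup (Fin m) F}
    (h : ∀ j, Mv Φ (lev Φ M) (.inl j) (.inl j)) : M ∈ Dg (Fin m) F := by
  have off : ∀ i j : Fin m, i ≠ j → M.1 i j = 0 := fun i j hij => by
    obtain ⟨c, -, e⟩ := h j
    have h' := lev_inl (Φ := Φ) M i j
    rw [e, herm_smul_left, herm_v0 Φ (by simp [hij]), mul_zero] at h'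
    exact h'.symm
  refine ⟨fun b => M.1 b b, fun b hb => ?_, fun x y => ?_⟩
  · have h := M.2
    rw [show M.1 = Matrix.diagonal fun b => M.1 b b from by
      ext x y; by_cases hxy : x = y
      · subst hxy; rw [Matrix.diagonal_apply_eq]
      · rw [Matrix.diagonal_apply_ne _ hxy, off x y hxy], Matrix.det_diagonal] at h
    exact zero_ne_one ((Finset.prod_eq_zero (f := fun b => M.1 b b) (Finset.mem_univ b) hb).symm.trans h)
  · by_cases hxy : x = y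
    · subst hxy; simp
    · rw [off x y hxy, if_neg]; simpa [eq_comm] using hxy

variable {k : ℕ}

theorem zero_ne_one' : (0 : Fin (k + 2)) ≠ 1 := by simp [Fin.ext_iff]

local notation "SLm" => Matrix.SpecialLinearGroup (Fin (k + 2)) F

/-- The torus element at `(0, 1)`. -/
def h01 (k : ℕ) : Fˣ →* Matrix.SpecialLinearGroup (Fin (k + 2)) F where
  toFun a := eA 0 1 (hD a)
  map_one' := by rw [hD_one, map_one]
  map_mul' a b := by rw [← map_mul, hD_mul]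

theorem h01_mon (a : Fˣ) :
    IsMon (h01 k a : SLm) 1
      (fun b => if b = 0 then (a : F) else if b = 1 then ((a⁻¹ : Fˣ) : F) else 1) :=
  eA_hD_mon 0 1 zero_ne_one' a

theorem h01_mem (a : Fˣ) : (h01 k a : SLm) ∈ Dg (Fin (k + 2)) F := ⟨_, h01_mon a⟩

/-- The monomial matrix exchanging `0` and `1`. -/
def w01 (k : ℕ) : Matrix.SpecialLinearGroup (Fin (k + 2)) F := eA 0 1 wW

theorem w01_mon : IsMon (w01 k : SLm) (Equiv.swap 0 1) (fun b => if b = 0 then -1 else 1) :=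
  eA_wW_mon' 0 1 zero_ne_one'

theorem w01_mem : (w01 k : SLm) ∈ Mn (Fin (k + 2)) F := ⟨_, _, w01_mon⟩

/-- A diagonal matrix is a torus element at `(0, 1)` times one which is trivial at `0`. -/
theorem dg_split {M : SLm} (hM : M ∈ Mn (Fin (k + 2)) F) {π : Equiv.Perm (Fin (k + 2))} {c : Fin (k + 2) → F}
    (h : IsMon M π c) (h0 : π 0 = 0) :
    ∃ M' ∈ Mn (Fin (k + 2)) F, Triv 0 M' ∧ M = h01 k (Units.mk0 (c 0) (h.ne 0)) * M' := by
  set a := Units.mk0 (c 0) (h.ne 0) with ha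
  have e := ((h01_mon (k := k) a).inv).mul h
  refine ⟨(h01 k a)⁻¹ * M, mul_mem (inv_mem (Dg_le_Mn (h01_mem a))) hM, triv_mon e ?_ ?_,
    by rw [mul_inv_cancel_left]⟩
  · simp [h0]
  · simp [h0, ha]
    field_simp [h.ne 0]

/-- Generation of the monomial matrices. -/
theorem mn_le {P : Subgroup SLm} (hD : Dg (Fin (k + 2)) F ≤ P)
    (hS : ∀ M ∈ Mn (Fin (k + 2)) F, Triv 0 M → M ∈ P) (hw : (w01 k : SLm) ∈ P) : Mn (Fin (k + 2)) F ≤ P := by
  have fix0 : ∀ M ∈ Mn (Fin (k + 2)) F, ∀ π c, IsMon M π c → π 0 = 0 → M ∈ P := by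
    intro M hM π c h h0
    obtain ⟨M', hM', hT, e⟩ := dg_split hM h h0
    exact (congrArg (· ∈ P) e).mpr (mul_mem (hD (h01_mem _)) (hS _ hM' hT))
  rintro M ⟨π, c, h⟩
  by_cases h0 : π 0 = 0
  · exact fix0 M ⟨π, c, h⟩ π c h h0
  set S : SLm := monOf (Equiv.swap 1 (π 0)) 1 with hSdef
  have eS := isMon_monOf (F := F) (Equiv.swap (1 : Fin (k + 2)) (π 0)) 1
  have s0 : Equiv.swap (1 : Fin (k + 2)) (π 0) 0 = 0 :=
    Equiv.swap_apply_of_ne_of_ne zero_ne_one' (Ne.symm h0)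
  have hSm : S ∈ P := fix0 S ⟨_, _, eS⟩ _ _ eS s0
  have hSw := (eS.mul (w01_mon (k := k))).inv.mul h
  have := fix0 _ ⟨_, _, hSw⟩ _ _ hSw (by
    rw [Equiv.Perm.mul_apply, Equiv.Perm.inv_eq_iff_eq, Equiv.Perm.mul_apply, Equiv.swap_apply_left,
      Equiv.swap_apply_left])
  have e : M = S * w01 k * ((S * w01 k)⁻¹ * M) := by rw [mul_inv_cancel_left]
  rw [e]
  exact mul_mem (mul_mem hSm hw) this

/-- The monomial amalgam data. -/
structure Base (Φ : PFrame C (k + 2) ι) (G : Type*) [Group G] where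
  ρ : Matrix.SpecialLinearGroup (Fin (k + 2)) F →* G
  p : G
  φ : G →* suG C ι
  c : F
  hc : C.σ c = -c
  hc0 : c ≠ 0
  hφρ : ∀ M, φ (ρ M) = lev Φ M
  hφp : φ p = flipEl Φ c 0
  stab_p : ∀ M, Triv 0 M → Commute (ρ M) p
  comm_p1 : Commute p (ρ (w01 k) * p * (ρ (w01 k))⁻¹)
  tau : ∀ g, ∃ g', p * (ρ (w01 k) * p * (ρ (w01 k))⁻¹) * ρ (eA 0 1 g) *
    (p * (ρ (w01 k) * p * (ρ (w01 k))⁻¹))⁻¹ = ρ (eA 0 1 g')
  norm1 : ∀ a : Fˣ, (a : F) * C.σ a = 1 → Commute p (ρ (h01 k a))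
  psq : p * p ∈ (Dg (Fin (k + 2)) F).map ρ ⊔
    ((Dg (Fin (k + 2)) F).map ρ).map (MulAut.conj p).toMonoidHom
  kcomm : ∀ a b, Commute (ρ (h01 k b)) (p * ρ (h01 k a) * p⁻¹)
  knorm : ∀ a r, ∃ r', p * ρ (h01 k a) * p⁻¹ * ρ (tv 0 1 r) * (p * ρ (h01 k a) * p⁻¹)⁻¹ = ρ (tv 0 1 r')

namespace Base

variable {Φ : PFrame C (k + 2) ι} {G : Type*} [Group G] (A : Base Φ G)

/-- The second torus. -/
def kk : Fˣ →* G := (MulAut.conj A.p).toMonoidHom.comp (A.ρ.comp (h01 k))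

theorem kk_apply (a : Fˣ) : A.kk a = A.p * A.ρ (h01 k a) * A.p⁻¹ := rfl

theorem kk_comm {M : SLm} (hM : M ∈ Dg (Fin (k + 2)) F) (a : Fˣ) : Commute (A.ρ M) (A.kk a) := by
  obtain ⟨c, hc⟩ := hM
  obtain ⟨M', hM', hT, e⟩ := dg_split ⟨1, c, hc⟩ hc rfl
  have hM'd : M' ∈ Dg (Fin (k + 2)) F :=
    (congrArg (· ∈ Dg (Fin (k + 2)) F) (eq_inv_mul_of_mul_eq e.symm)).mpr
      (mul_mem (inv_mem (h01_mem _)) ⟨c, hc⟩)
  refine (congrArg (fun X => Commute (A.ρ X) (A.kk a)) e).mpr ?_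
  rw [map_mul, kk_apply]
  refine (A.kcomm a _).mul_left ?_
  have h1 := A.stab_p _ hT
  exact (h1.mul_right ((Dg_comm hM'd (h01_mem a)).map A.ρ)).mul_right h1.inv_right

/-- The torus. -/
def TP : Subgroup G where
  carrier := {x | ∃ M ∈ Dg (Fin (k + 2)) F, ∃ a, x = A.ρ M * A.kk a}
  one_mem' := ⟨1, one_mem _, 1, by simp⟩
  mul_mem' := by
    rintro _ _ ⟨M, hM, a, rfl⟩ ⟨M', hM', a', rfl⟩
    refine ⟨M * M', mul_mem hM hM', a * a', ?_⟩
    rw [map_mul, map_mul, mul_assoc (A.ρ M) (A.kk a), ← mul_assoc (A.kk a), ← (A.kk_comm hM' a).eq]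
    group
  inv_mem' := by
    rintro _ ⟨M, hM, a, rfl⟩
    refine ⟨M⁻¹, inv_mem hM, a⁻¹, ?_⟩
    rw [_root_.mul_inv_rev, map_inv, map_inv]
    exact ((A.kk_comm hM a).inv_inv).eq.symm

theorem ρ_mem_TP {M : SLm} (hM : M ∈ Dg (Fin (k + 2)) F) : A.ρ M ∈ A.TP := ⟨M, hM, 1, by simp⟩

theorem kk_mem_TP (a : Fˣ) : A.kk a ∈ A.TP := ⟨1, one_mem _, a, by simp⟩

theorem TP_comm {x y : G} (hx : x ∈ A.TP) (hy : y ∈ A.TP) : Commute x y := by
  obtain ⟨M, hM, a, rfl⟩ := hx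
  obtain ⟨M', hM', a', rfl⟩ := hy
  refine Commute.mul_left ?_ ?_
  · exact ((Dg_comm hM hM').map A.ρ).mul_right (A.kk_comm hM a')
  · exact (A.kk_comm hM' a).symm.mul_right ((Commute.all a a').map A.kk)

theorem conj_p_ρ {M : SLm} (hM : M ∈ Dg (Fin (k + 2)) F) : A.p * A.ρ M * A.p⁻¹ ∈ A.TP := by
  obtain ⟨c, hc⟩ := hM
  obtain ⟨M', hM', hT, e⟩ := dg_split ⟨1, c, hc⟩ hc rfl
  have hM'd : M' ∈ Dg (Fin (k + 2)) F :=
    (congrArg (· ∈ Dg (Fin (k + 2)) F) (eq_inv_mul_of_mul_eq e.symm)).mpr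
      (mul_mem (inv_mem (h01_mem _)) ⟨c, hc⟩)
  refine (congrArg (fun X => A.p * A.ρ X * A.p⁻¹ ∈ A.TP) e).mpr ?_
  rw [map_mul, show ∀ a b : G, A.p * (a * b) * A.p⁻¹ = (A.p * a * A.p⁻¹) * (A.p * b * A.p⁻¹) from
    fun a b => by group, ← kk_apply, (A.stab_p _ hT).symm.eq, mul_inv_cancel_right]
  exact mul_mem (A.kk_mem_TP _) (A.ρ_mem_TP hM'd)

theorem psq_mem : A.p * A.p ∈ A.TP := by
  refine (sup_le ?_ ?_ : _ ≤ A.TP) A.psq
  · rintro _ ⟨M, hM, rfl⟩; exact A.ρ_mem_TP hM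
  · rintro _ ⟨_, ⟨M, hM, rfl⟩, rfl⟩
    exact A.conj_p_ρ hM

theorem p_norm_TP {x : G} (hx : x ∈ A.TP) : A.p * x * A.p⁻¹ ∈ A.TP := by
  obtain ⟨M, hM, a, rfl⟩ := hx
  rw [show A.p * (A.ρ M * A.kk a) * A.p⁻¹ = (A.p * A.ρ M * A.p⁻¹) * (A.p * A.kk a * A.p⁻¹) by group]
  refine mul_mem (A.conj_p_ρ hM) ?_
  rw [kk_apply, show A.p * (A.p * A.ρ (h01 k a) * A.p⁻¹) * A.p⁻¹ =
    A.p * A.p * A.ρ (h01 k a) * (A.p * A.p)⁻¹ by group]
  exact mul_mem (mul_mem A.psq_mem (A.ρ_mem_TP (h01_mem a))) (inv_mem A.psq_mem)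

/-- The exchange at `1`. -/
def p1 : G := A.ρ (w01 k) * A.p * (A.ρ (w01 k))⁻¹

theorem app_p : app C (A.φ A.p) (Φ.v (.inl 0)) = A.c • Φ.v (.inr 0) ∧
    app C (A.φ A.p) (Φ.v (.inr 0)) = (-A.c⁻¹) • Φ.v (.inl 0) ∧
    (∀ d : SI (k + 2), ix d ≠ 0 → app C (A.φ A.p) (Φ.v d) = Φ.v d) ∧
    app C (A.φ A.p) Φ.x0 = Φ.x0 := by
  rw [A.hφp]; exact flipEl_spec A.hc A.hc0 0

theorem isMono_p : IsMono Φ (A.φ A.p) := by rw [A.hφp]; exact isMono_flipEl A.hc A.hc0 0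

theorem mv_p0 (d : SI (k + 2)) (hd : ix d = 0) : Mv Φ (A.φ A.p) d d.swap := by
  rcases d with j | j <;> simp only [ix_inl, ix_inr] at hd <;> subst hd
  · exact Mv.intro A.app_p.1
  · exact Mv.intro A.app_p.2.1

theorem mv_p (d : SI (k + 2)) (hd : ix d ≠ 0) : Mv Φ (A.φ A.p) d d :=
  Mv.intro (a := 1) (by rw [one_smul]; exact A.app_p.2.2.1 d hd)

theorem mv_ρ {M : SLm} {π : Equiv.Perm (Fin (k + 2))} {c : Fin (k + 2) → F} (h : IsMon M π c) (d : SI (k + 2)) :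
    Mv Φ (A.φ (A.ρ M)) d (Sum.map π π d) := by
  rw [A.hφρ]
  rcases d with j | j
  · exact mv_lev_inl h j
  · exact mv_lev_inr h j

theorem isMono_ρ {M : SLm} (hM : M ∈ Mn (Fin (k + 2)) F) : IsMono Φ (A.φ (A.ρ M)) := by
  obtain ⟨π, c, h⟩ := hM
  rw [A.hφρ]; exact isMono_lev h

theorem TP_diag {x : G} (hx : x ∈ A.TP) : IsMono Φ (A.φ x) ∧ ∀ d, Mv Φ (A.φ x) d d := by
  have hρ : ∀ M ∈ Dg (Fin (k + 2)) F, ∀ d, Mv Φ (A.φ (A.ρ M)) d d := by
    rintro M ⟨c, hc⟩ d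
    simpa using A.mv_ρ hc d
  obtain ⟨M, hM, a, rfl⟩ := hx
  have hk : ∀ d, Mv Φ (A.φ (A.kk a)) d d := fun d => by
    rw [kk_apply, map_mul, map_mul, map_inv]
    by_cases hd : ix d = 0
    · have h1 := A.mv_p0 d.swap (by simpa using hd)
      rw [Sum.swap_swap] at h1
      exact (h1.mul (hρ _ (h01_mem a) _)).mul h1.inv
    · exact ((A.mv_p d hd).mul (hρ _ (h01_mem a) _)).mul (A.mv_p d hd).inv
  refine ⟨?_, fun d => by rw [map_mul]; exact (hρ M hM d).mul (hk d)⟩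
  rw [map_mul, kk_apply, map_mul, map_mul, map_inv]
  exact (A.isMono_ρ (Dg_le_Mn hM)).mul ((A.isMono_p.mul (A.isMono_ρ (Dg_le_Mn (h01_mem a)))).mul A.isMono_p.inv)

theorem TP_inj {x : G} (hx : x ∈ A.TP) (h : A.φ x = 1) : x = 1 := by
  obtain ⟨M, ⟨c, hc⟩, a, rfl⟩ := hx
  set e := fun b : Fin (k + 2) => if b = 0 then (a : F) else if b = 1 then ((a⁻¹ : Fˣ) : F) else 1 with he
  have hm := h01_mon (k := k) a
  have key : ∀ j : Fin (k + 2), app C (A.φ (A.ρ M * A.kk a)) (Φ.v (.inl j)) =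
      (if j = 0 then (C.σ (e 0))⁻¹ * c 0 else e j * c j) • Φ.v (.inl j) := by
    intro j
    rw [map_mul, app_mul, kk_apply, map_mul, map_mul, map_inv, app_mul, app_mul]
    by_cases hj : j = 0
    · subst hj
      have h1 : app C (A.φ A.p)⁻¹ (Φ.v (.inl 0)) = (-A.c) • Φ.v (.inr 0) := by
        refine app_inv_eq C ?_
        rw [app_smul, A.app_p.2.1, smul_smul, neg_mul_neg, mul_inv_cancel₀ A.hc0, one_smul]
      rw [h1]; simp only [A.hφρ]; rw [app_smul, lev_mon_inr hm, app_smul, app_smul, app_smul, app_smul]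
      simp only [Equiv.Perm.one_apply]
      rw [A.app_p.2.1, app_smul, lev_mon_inl hc, smul_smul, smul_smul, smul_smul]
      simp only [Equiv.Perm.one_apply, if_true, he]
      congr 1
      have := A.hc0
      field_simp
    · have h1 : app C (A.φ A.p)⁻¹ (Φ.v (.inl j)) = Φ.v (.inl j) := app_inv_eq C (A.app_p.2.2.1 _ hj)
      rw [h1]; simp only [A.hφρ]; rw [lev_mon_inl hm, app_smul]
      simp only [Equiv.Perm.one_apply]
      rw [A.app_p.2.2.1 (.inl j) hj, app_smul, lev_mon_inl hc, smul_smul, if_neg hj, Equiv.Perm.one_apply]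
      simp [he, hj]
  have hval : ∀ j : Fin (k + 2), (if j = 0 then (C.σ (e 0))⁻¹ * c 0 else e j * c j) = 1 := fun j => by
    have := key j
    rw [h, app_one] at this
    exact (smul_v_inj Φ (c := .inl j) (by rw [one_smul]; exact this)).symm
  have hne : (1 : Fin (k + 2)) ≠ 0 := zero_ne_one'.symm
  have h0 : c 0 = C.σ (a : F) := by
    have := hval 0
    simp only [if_true, he] at this
    have hσ := (map_ne_zero C.σ).2 a.ne_zero
    field_simp at this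
    exact this
  have hj : ∀ j, j ≠ 0 → c j = if j = 1 then (a : F) else 1 := fun j hj => by
    have := hval j
    rw [if_neg hj] at this
    by_cases h1 : j = 1
    · subst h1
      simp [he, hne] at this
      rw [if_pos rfl]
      field_simp at this
      exact this
    · simpa [he, hj, h1] using this
  have hdet := M.2
  have hMd : M.1 = Matrix.diagonal c := by
    ext x y; rw [hc.eq, Matrix.diagonal_apply]
    by_cases hxy : x = y <;> simp [hxy, eq_comm]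
  rw [hMd, Matrix.det_diagonal, ← Finset.mul_prod_erase _ _ (Finset.mem_univ (0 : Fin (k + 2))),
    ← Finset.mul_prod_erase _ _ (Finset.mem_erase.2 ⟨hne, Finset.mem_univ (1 : Fin (k + 2))⟩), h0, hj 1 hne,
    if_pos rfl, Finset.prod_eq_one (fun j hj' => by
      simp only [Finset.mem_erase] at hj'
      rw [hj j hj'.2.1, if_neg hj'.1]), mul_one] at hdet
  rw [kk_apply, (A.norm1 a (by rw [mul_comm]; exact hdet)).eq, mul_inv_cancel_right, ← map_mul]
  have hone : M * h01 k a = 1 := by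
    apply Subtype.ext
    ext x y
    rw [(hc.mul hm).eq, Matrix.SpecialLinearGroup.coe_one, Matrix.one_apply]
    simp only [Equiv.Perm.one_apply, mul_one]
    by_cases hxy : y = x
    · subst hxy
      rw [if_pos rfl, if_pos rfl]
      by_cases hy : y = 0
      · subst hy; rw [h0, if_pos rfl, mul_comm]; exact (mul_comm _ _).trans hdet
      rw [hj y hy, if_neg hy]
      by_cases hy1 : y = 1 <;> simp [hy1]
    · rw [if_neg hxy, if_neg (Ne.symm hxy)]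
  rw [hone, map_one]

end Base

end CfsgLib.SUPres
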