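import Cfsg.Agent.SUPres.RankOneT

/-!
# Elements of the rank one group with diagonal image normalise all root groups
-/

set_option autoImplicit false
set_option linter.unusedSectionVars false
set_option linter.unusedSimpArgs false

namespace CfsgLib.SUPres

open Matrix CfsgLib.RepBounds.Unit CfsgLib.SUThreeUnipotent CfsgLib.SUTwoGen CfsgLib.SL2Pres CfsgLib.SLnPres
open CfsgLib.SpnPres (IsMon)
open scoped commutatorElement

theorem conj_mem_of_commutator_le {G : Type*} [Group G] {A B V : Subgroup G} (hB : B ≤ V) (h : ⁅A, B⁆ ≤ V)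
    {a b : G} (ha : a ∈ A) (hb : b ∈ B) : a * b * a⁻¹ ∈ V := by
  have := mul_mem (h (Subgroup.commutator_mem_commutator ha hb)) (hB hb)
  rwa [commutatorElement_def, inv_mul_cancel_right] at this

variable {F : Type*} [Field F] [Fintype F] {C : ConjField F} {ι : Type*} [Fintype ι] [DecidableEq ι] {k : ℕ}

local notation "SLm" => Matrix.SpecialLinearGroup (Fin (k + 2)) F

/-- `g` is diagonal in the frame. -/
def IsDiag (Φ : PFrame C (k + 2) ι) (g : suG C ι) : Prop :=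
  (∀ d, Mv Φ g d d) ∧ ∃ ξ : F, app C g Φ.x0 = ξ • Φ.x0

theorem IsDiag.inv {Φ : PFrame C (k + 2) ι} {g : suG C ι} (h : IsDiag Φ g) : IsDiag Φ g⁻¹ := by
  obtain ⟨h1, ξ, hξ⟩ := h
  refine ⟨fun d => (h1 d).inv, ?_⟩
  by_cases hx : Φ.x0 = 0
  · exact ⟨0, by rw [hx, SUThreeUnipotent.app_zero, smul_zero]⟩
  have hne : ξ ≠ 0 := by
    rintro rfl
    rw [zero_smul] at hξ
    exact hx (app_eq_zero hξ)
  refine ⟨ξ⁻¹, app_inv_eq C ?_⟩
  rw [app_smul, hξ, smul_smul, inv_mul_cancel₀ hne, one_smul]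

theorem pEl_ne_span {Φ : PFrame C (k + 2) ι} {c d : SI (k + 2)} (h : ix c ≠ ix d) {r s a γ : F} (hv : QV Φ a γ)
    (he : pEl Φ c d r = pEl Φ c.swap d s * qEl Φ d a γ) : pEl Φ c d r = 1 := by
  obtain ⟨h1, h2⟩ := ne_of_ix h
  have h3 : d ≠ c.swap.swap := by rwa [Sum.swap_swap]
  have := congrArg (fun g => herm C (app C g (Φ.v d.swap)) (Φ.v c.swap)) he
  simp only [app_mul, app_pEl h2, app_pEl h3, app_qEl hv, herm_add_left, herm_sub_left, herm_smul_left,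
    herm_v1', herm_v1, Φ.vx, Φ.xv, Φ.self] at this
  have h4 : c.swap ≠ d.swap := fun x => h1 (by simpa using (congrArg Sum.swap x).symm)
  simp [herm_vv, h1, h2, h3, h4, Ne.symm h1, Ne.symm h2] at this
  rw [this, pEl_zero h2]

namespace QData

variable {Φ : PFrame C (k + 2) ι} {G : Type*} [Group G] (A : QData Φ G)

/-- The group normalised by the rank one group at `c`. -/
def V (c d : SI (k + 2)) : Subgroup G := A.XP c d ⊔ (A.XP c.swap d ⊔ A.XQ d)

theorem V_swap_le (c d : SI (k + 2)) : A.V c.swap d ≤ A.V c d := by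
  simp only [V, Sum.swap_swap]
  exact sup_le (le_sup_of_le_right le_sup_left) (sup_le le_sup_left (le_sup_of_le_right le_sup_right))

theorem conj_V {c d : SI (k + 2)} (h : ix c ≠ ix d) {y x : G} (hy : y ∈ A.XQ c) (hx : x ∈ A.V c d) :
    y * x * y⁻¹ ∈ A.V c d := by
  have hle : A.V c d ≤ (A.V c d).comap (MulAut.conj y).toMonoidHom := by
    refine sup_le (fun x hx => ?_) (sup_le (fun x hx => ?_) (fun x hx => ?_))
    · refine conj_mem_of_commutator_le le_sup_left ?_ hy hx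
      rw [Subgroup.commutator_comm, A.comm_PQa h]; exact bot_le
    · refine conj_mem_of_commutator_le (B := A.XP c.swap d) (le_sup_of_le_right le_sup_left) ?_ hy hx
      have := A.comm_PQc (c := d) (d := c.swap) (by simpa using h.symm)
      rw [Sum.swap_swap] at this
      rw [Subgroup.commutator_comm, A.XP_symm c.swap d]
      refine this.trans (sup_le (le_sup_of_le_right le_sup_right) ?_)
      rw [A.XP_symm d c]; exact le_sup_left
    · exact conj_mem_of_commutator_le (B := A.XQ d) (le_sup_of_le_right le_sup_right)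
        ((A.comm_QQ h).trans le_sup_left) hy hx
  exact hle hx

theorem V_injOn {c d : SI (k + 2)} (h : ix c ≠ ix d) : InjOn' A.φ (A.V c d) := by
  refine injOn_sup (le_normalizer_of_conj fun a ha b hb => ?_) (A.XP_injOn c d) ?_ ?_
  · have h1 := A.comm_PP (c := d) (d := c) h.symm
    rw [A.XP_symm d c, A.XP_symm d c.swap] at h1
    have h2 : ⁅A.XP c d, A.XQ d⁆ = ⊥ := by rw [A.XP_symm c d]; exact A.comm_PQa h.symm
    have hle : A.XP c.swap d ⊔ A.XQ d ≤ (A.XP c.swap d ⊔ A.XQ d).comap (MulAut.conj a).toMonoidHom :=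
      sup_le (fun x hx => conj_mem_of_commutator_le le_sup_left (h1.trans le_sup_right) ha hx)
        (fun x hx => conj_mem_of_commutator_le (B := A.XQ d) le_sup_right (h2.le.trans bot_le) ha hx)
    exact hle hb
  · rw [A.XP_symm c.swap d]
    exact A.injOn_XP_XQ (by simpa using h.symm)
  · intro a ha b hb hab
    obtain ⟨r, hr⟩ := (A.XP_image h).1 a ha
    have hn : A.XP c.swap d ≤ Subgroup.normalizer (A.XQ d : Set G) := by
      refine normalizer_of_commutator_le (le_of_eq_of_le ?_ bot_le)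
      rw [A.XP_symm c.swap d]; exact A.comm_PQa (by simpa using h.symm)
    obtain ⟨b1, hb1, b2, hb2, rfl⟩ := exists_mul_of_sup hn hb
    obtain ⟨s, hs⟩ := (A.XP_image (c := c.swap) (d := d) (by simpa using h)).1 b1 hb1
    obtain ⟨x, γ, hv, hq⟩ := (A.XQ_image d).1 b2 hb2
    rw [hr, map_mul, hs, hq] at hab
    rw [hr, pEl_ne_span h hv hab]

/-- The rank one group at `0`. -/
def M0 : Subgroup G := A.XQ (.inl 0) ⊔ A.XQ (.inr 0)

theorem XQ_inr_zero : A.XQ (.inr 0) = cnj A.p A.Y :=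
  A.XQ_eq A.p_mem_N (A.mv_p0 (.inl 0) rfl)

theorem p_mem_M0 : A.p ∈ A.M0 := by
  obtain ⟨z, hz, δ, -, -, e⟩ := A.exch
  rw [e]
  have h1 : A.p * z * A.p⁻¹ ∈ A.M0 := Subgroup.mem_sup_right (by rw [A.XQ_inr_zero]; exact conj_mem_cnj hz)
  exact mul_mem (mul_mem h1 (Subgroup.mem_sup_left (by rw [A.XQ_base]; exact hz))) h1

variable {E : G} (hE : E ∈ A.M0) (hd : IsDiag Φ (A.φ E))

theorem mem_XP_of_image {c d : SI (k + 2)} {W : Subgroup G} (hW : InjOn' A.φ W) (hle : A.XP c d ≤ W)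
    (h : ix c ≠ ix d) {x : G} (hx : x ∈ W) {r : F} (he : A.φ x = pEl Φ c d r) : x ∈ A.XP c d := by
  obtain ⟨y, hy, hy'⟩ := (A.XP_image h).2 r
  exact hW.mem hle hx ⟨y, hy, hy'.trans he.symm⟩

theorem mem_XQ_of_image {c : SI (k + 2)} {W : Subgroup G} (hW : InjOn' A.φ W) (hle : A.XQ c ≤ W)
    {x : G} (hx : x ∈ W) {a γ : F} (hv : QV Φ a γ) (he : A.φ x = qEl Φ c a γ) : x ∈ A.XQ c := by
  obtain ⟨y, hy, hy'⟩ := (A.XQ_image c).2 a γ hv
  exact hW.mem hle hx ⟨y, hy, hy'.trans he.symm⟩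

include hd in
theorem diag_conj_P {c d : SI (k + 2)} (h : ix c ≠ ix d) {x : G} (hx : x ∈ A.XP c d) :
    ∃ r, A.φ (E * x * E⁻¹) = pEl Φ c d r := by
  obtain ⟨r, hr⟩ := (A.XP_image h).1 x hx
  obtain ⟨a, -, ea⟩ := hd.1 c
  obtain ⟨b, -, eb⟩ := hd.1 d
  exact ⟨_, by rw [map_mul, map_mul, map_inv, hr, conj_pEl ea eb (ne_of_ix h).2]⟩

include hd in
theorem diag_conj_Q {c : SI (k + 2)} {x : G} (hx : x ∈ A.XQ c) :
    ∃ a γ, QV Φ a γ ∧ A.φ (E * x * E⁻¹) = qEl Φ c a γ := by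
  obtain ⟨a, γ, hv, hr⟩ := (A.XQ_image c).1 x hx
  obtain ⟨s, -, es⟩ := hd.1 c
  obtain ⟨ξ, hξ⟩ := hd.2
  exact ⟨_, _, hv.scale (x0_scalar hξ), by rw [map_mul, map_mul, map_inv, hr, conj_qEl es hξ hv]⟩

include hE in
theorem conj_V0 {c d : SI (k + 2)} (hc : ix c = 0) (hdz : ix d ≠ 0) {x : G} (hx : x ∈ A.V c d) :
    E * x * E⁻¹ ∈ A.V c d := by
  have hcd : ix c ≠ ix d := by rw [hc]; exact Ne.symm hdz
  have hV : ∀ x ∈ A.V c.swap d, x ∈ A.V c d := fun x hx => A.V_swap_le c d hx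
  have hV' : ∀ x ∈ A.V c d, x ∈ A.V c.swap d := fun x hx => by
    have := A.V_swap_le c.swap d; rw [Sum.swap_swap] at this; exact this hx
  have hnorm : ∀ {c' : SI (k + 2)}, c' = c ∨ c' = c.swap → A.XQ c' ≤ Subgroup.normalizer (A.V c d : Set G) := by
    rintro c' (rfl | rfl)
    · exact le_normalizer_of_conj fun y hy x hx => A.conj_V hcd hy hx
    · exact le_normalizer_of_conj fun y hy x hx => hV _ (A.conj_V (by simpa using hcd) hy (hV' x hx))
  have hle : A.M0 ≤ Subgroup.normalizer (A.V c d : Set G) := by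
    rcases c with j | j <;> simp only [ix_inl, ix_inr] at hc <;> subst hc
    · exact sup_le (hnorm (Or.inl rfl)) (hnorm (Or.inr rfl))
    · exact sup_le (hnorm (Or.inr rfl)) (hnorm (Or.inl rfl))
  exact (Subgroup.mem_normalizer_iff.1 (hle hE) x).1 hx

include hE hd in
theorem diag_norm_P (c d : SI (k + 2)) {x : G} (hx : x ∈ A.XP c d) : E * x * E⁻¹ ∈ A.XP c d := by
  have main : ∀ {c d : SI (k + 2)}, ix c = 0 → ∀ {x : G}, x ∈ A.XP c d → E * x * E⁻¹ ∈ A.XP c d := by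
    intro c d hc x hx
    by_cases hcd : ix c = ix d
    · rw [A.XP_bot hcd, Subgroup.mem_bot] at hx ⊢; rw [hx]; group
    obtain ⟨r, hr⟩ := A.diag_conj_P hd hcd hx
    exact A.mem_XP_of_image (A.V_injOn hcd) le_sup_left hcd
      (A.conj_V0 hE hc (fun e => hcd (by rw [hc, e])) (Subgroup.mem_sup_left hx)) hr
  by_cases hc : ix c = 0
  · exact main hc hx
  by_cases hd0 : ix d = 0
  · rw [A.XP_symm c d] at hx ⊢; exact main hd0 hx
  by_cases hcd : ix c = ix d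
  · rw [A.XP_bot hcd, Subgroup.mem_bot] at hx ⊢; rw [hx]; group
  have hcomm : A.M0 ≤ Subgroup.centralizer (A.XP c d : Set G) := by
    have h0 : ∀ e : SI (k + 2), ix e = 0 → A.XQ e ≤ Subgroup.centralizer (A.XP c d : Set G) := fun e he => by
      rw [← Subgroup.commutator_eq_bot_iff_le_centralizer, Subgroup.commutator_comm]
      exact A.comm_PQb hcd (by rw [he]; exact hc) (by rw [he]; exact hd0)
    exact sup_le (h0 _ rfl) (h0 _ rfl)
  rwa [← Subgroup.mem_centralizer_iff.1 (hcomm hE) x hx, mul_inv_cancel_right]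

include hE hd in
theorem diag_norm_Q (c : SI (k + 2)) {x : G} (hx : x ∈ A.XQ c) : E * x * E⁻¹ ∈ A.XQ c := by
  obtain ⟨a, γ, hv, hr⟩ := A.diag_conj_Q hd hx
  have main : ∀ {d : SI (k + 2)}, ix d ≠ 0 → ∀ {x : G}, x ∈ A.XQ d → E * x * E⁻¹ ∈ A.XQ d := by
    intro d hd0 x hx
    obtain ⟨a, γ, hv, hr⟩ := A.diag_conj_Q hd hx
    exact A.mem_XQ_of_image (A.V_injOn (c := .inl 0) (d := d) (Ne.symm hd0)) (le_sup_of_le_right le_sup_right)
      (A.conj_V0 hE rfl hd0 (Subgroup.mem_sup_right (Subgroup.mem_sup_right hx))) hv hr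
  by_cases hc : ix c = 0
  swap
  · exact main hc hx
  set d : SI (k + 2) := .inl 1 with hdef
  have hcd : ix c ≠ ix d := by rw [hc]; exact zero_ne_one'
  have hcd' : ix c ≠ ix d.swap := by rwa [ix_swap]
  have hsub : A.XQ c ≤ (A.XP c d.swap ⊔ A.XQ c).comap (MulAut.conj E).toMonoidHom := by
    refine (A.XQ_le_span hcd).trans (sup_le (sup_le ?_ ?_) ?_)
    · refine (Subgroup.commutator_le.2 fun a ha b hb => ?_)
      show E * ⁅a, b⁆ * E⁻¹ ∈ A.XP c d.swap ⊔ A.XQ c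
      rw [show E * ⁅a, b⁆ * E⁻¹ = ⁅E * a * E⁻¹, E * b * E⁻¹⁆ by simp only [commutatorElement_def]; group]
      exact ((A.comm_PQc hcd).trans (sup_le le_sup_right le_sup_left))
        (Subgroup.commutator_mem_commutator (A.diag_norm_P hE hd c d ha)
          (main (by rw [ix_swap, hdef, ix_inl]; exact zero_ne_one'.symm) hb))
    · intro a ha
      show E * a * E⁻¹ ∈ A.XP c d.swap ⊔ A.XQ c
      exact Subgroup.mem_sup_left (A.diag_norm_P hE hd _ _ ha)
    · refine (Subgroup.commutator_le.2 fun a ha b hb => ?_)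
      show E * ⁅a, b⁆ * E⁻¹ ∈ A.XP c d.swap ⊔ A.XQ c
      rw [show E * ⁅a, b⁆ * E⁻¹ = ⁅E * a * E⁻¹, E * b * E⁻¹⁆ by simp only [commutatorElement_def]; group]
      exact ((A.comm_PP hcd).trans le_sup_right)
        (Subgroup.commutator_mem_commutator (A.diag_norm_P hE hd c d ha) (A.diag_norm_P hE hd _ _ hb))
  exact A.mem_XQ_of_image (A.injOn_XP_XQ hcd') le_sup_right (hsub hx) hv hr

include hE hd in
theorem diag_range {M : SLm} : ∃ M', E * A.ρ M * E⁻¹ = A.ρ M' ∧ lev Φ M' = A.φ E * lev Φ M * (A.φ E)⁻¹ := by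
  suffices ∃ M', E * A.ρ M * E⁻¹ = A.ρ M' by
    obtain ⟨M', e⟩ := this
    exact ⟨M', e, by rw [← A.hφρ, ← e, map_mul, map_mul, map_inv, A.hφρ]⟩
  induction M using CfsgLib.Linear.sl_induction with
  | hone => exact ⟨1, by simp⟩
  | htransvec i j hij t =>
    have ht : A.ρ (tv i j t) ∈ A.XP (.inl i) (.inr j) := A.tv_mem_XP hij t
    rw [tv, dif_neg hij] at ht
    obtain ⟨s, hs⟩ := A.XP_levi hij (A.diag_norm_P hE hd _ _ ht)
    exact ⟨_, hs⟩
  | hmul X X' h h' =>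
    obtain ⟨Y, hY⟩ := h
    obtain ⟨Y', hY'⟩ := h'
    exact ⟨Y * Y', by rw [map_mul, map_mul, ← hY, ← hY']; group⟩

include hE hd in
theorem diag_comm_ρ {M : SLm} (hM : M ∈ Dg (Fin (k + 2)) F) : Commute E (A.ρ M) := by
  obtain ⟨M', e, he⟩ := A.diag_range hE hd (M := M)
  obtain ⟨c, hc⟩ := hM
  suffices hMM : M' = M by
    rw [hMM, mul_inv_eq_iff_eq_mul] at e
    exact e
  refine lev_injective (Φ := Φ) (he.trans ?_)
  rw [mul_inv_eq_iff_eq_mul]
  obtain ⟨ξ, hξ⟩ := hd.2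
  refine Φ.ext_app (fun d => ?_) ?_
  · obtain ⟨a, -, ea⟩ := hd.1 d
    rcases d with j | j
    · rw [app_mul, app_mul, lev_mon_inl hc, app_smul, Equiv.Perm.one_apply, ea, app_smul, lev_mon_inl hc,
        Equiv.Perm.one_apply, smul_comm]
    · rw [app_mul, app_mul, lev_mon_inr hc, app_smul, Equiv.Perm.one_apply, ea, app_smul, lev_mon_inr hc,
        Equiv.Perm.one_apply, smul_comm]
  · rw [app_mul, app_mul, lev_x0, hξ, app_smul, lev_x0]

include hE hd in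
theorem diag_mon {M : SLm} (hM : M ∈ Mn (Fin (k + 2)) F) :
    ∃ D ∈ Dg (Fin (k + 2)) F, E * A.ρ M * E⁻¹ = A.ρ M * A.ρ D := by
  obtain ⟨M', e, he⟩ := A.diag_range hE hd (M := M)
  obtain ⟨π, c, hc⟩ := hM
  refine ⟨M⁻¹ * M', mem_Dg_of_lines (Φ := Φ) fun j => ?_, by rw [← map_mul, mul_inv_cancel_left, e]⟩
  rw [map_mul, map_inv, he]
  exact (mv_lev_inl hc j).inv.mul (((hd.1 _).mul (mv_lev_inl hc j)).mul (hd.1 _).inv)

include hE hd in
theorem diag_p : ∃ t ∈ A.TP, E * A.p * E⁻¹ = t * A.p := by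
  obtain ⟨z, hz, δ, hδ, hzφ, e⟩ := A.exch
  obtain ⟨s, hs, es⟩ := hd.1 (.inl 0)
  obtain ⟨ξ, hξ⟩ := hd.2
  set t := A.ρ (h01 k (Units.mk0 s hs)) with ht
  have htm : t ∈ A.TP := A.ρ_mem_TP (h01_mem _)
  have es' : app C (A.φ t) (Φ.v (.inl 0)) = s • Φ.v (.inl 0) := by
    rw [ht, A.hφρ, lev_mon_inl (h01_mon _)]; simp
  have hz' : z ∈ A.XQ (.inl 0) := by rw [A.XQ_base]; exact hz
  have hnY : cnj t (A.XQ (.inl 0)) = A.XQ (.inl 0) :=
    A.cnj_XQ (A.TP_le_N htm) ((A.TP_diag htm).2 _)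
  have h1 : E * z * E⁻¹ = t * z * t⁻¹ := by
    refine (A.XQ_inj (.inl 0)).ext (A.diag_norm_Q hE hd _ hz') (hnY.le (conj_mem_cnj hz')) ?_
    rw [map_mul, map_mul, map_inv, map_mul, map_mul, map_inv, hzφ, conj_qEl es hξ hδ,
      conj_qEl' (A.TP_diag htm).1 es' hδ, mul_zero, mul_zero]
  set w := A.p * z * A.p⁻¹ with hw
  have hwm : w ∈ A.XQ (.inr 0) := by rw [A.XQ_inr_zero]; exact conj_mem_cnj hz
  have h2 : E * w * E⁻¹ = t * w * t⁻¹ := by
    have hnW : cnj t (A.XQ (.inr 0)) = A.XQ (.inr 0) := A.cnj_XQ (A.TP_le_N htm) ((A.TP_diag htm).2 _)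
    refine (A.XQ_inj (.inr 0)).ext (A.diag_norm_Q hE hd _ hwm) (hnW.le (conj_mem_cnj hwm)) ?_
    obtain ⟨r, hr, er⟩ := hd.1 (.inr 0)
    obtain ⟨r', hr', er'⟩ := (A.TP_diag htm).2 (.inr 0)
    have hwφ : A.φ w = qEl Φ (.inr 0) 0 (δ * (A.c * C.σ A.c)) := by
      rw [hw, map_mul, map_mul, map_inv, hzφ, conj_qEl' A.isMono_p A.app_p.1 hδ, mul_zero]
    have hv : QV Φ 0 (δ * (A.c * C.σ A.c)) := by
      simpa using hδ.scale (s := A.c) (ξ := 1) (by simp)
    have hrr : r * C.σ r = r' * C.σ r' := by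
      have p1 := herm_app C (A.φ E) (Φ.v (.inl 0)) (Φ.v (.inr 0))
      have p2 := herm_app C (A.φ t) (Φ.v (.inl 0)) (Φ.v (.inr 0))
      rw [es, er, herm_smul_left, herm_smul_right] at p1
      rw [es', er', herm_smul_left, herm_smul_right] at p2
      simp [herm_vv] at p1 p2
      have hrr' : C.σ r = C.σ r' := mul_left_cancel₀ hs (p1.trans p2.symm)
      rw [hrr', C.σ.injective hrr']
    clear_value w
    rw [map_mul, map_mul, map_inv, map_mul, map_mul, map_inv, hwφ, conj_qEl er hξ hv,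
      conj_qEl' (A.TP_diag htm).1 er' hv, mul_zero, mul_zero, hrr]
  refine ⟨t * (A.p * t⁻¹ * A.p⁻¹), mul_mem htm (A.p_norm_TP (inv_mem htm)), ?_⟩
  have e' : A.p = w * z * w := e
  calc E * A.p * E⁻¹ = E * (w * z * w) * E⁻¹ := by rw [← e']
    _ = (E * w * E⁻¹) * (E * z * E⁻¹) * (E * w * E⁻¹) := by group
    _ = t * (w * z * w) * t⁻¹ := by rw [h1, h2]; group
    _ = t * A.p * t⁻¹ := by rw [← e']
    _ = _ := by group

include hE hd in
theorem diag_comm_TP {x : G} (hx : x ∈ A.TP) : Commute E x := by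
  obtain ⟨t, ht, e⟩ := A.diag_p hE hd
  obtain ⟨M, hM, a, rfl⟩ := hx
  refine (A.diag_comm_ρ hE hd hM).mul_right ?_
  rw [A.kk_apply, Commute, SemiconjBy]
  have hc := A.diag_comm_ρ hE hd (h01_mem (k := k) a)
  calc E * (A.p * A.ρ (h01 k a) * A.p⁻¹)
      = (E * A.p * E⁻¹) * (E * A.ρ (h01 k a) * E⁻¹) * (E * A.p * E⁻¹)⁻¹ * E := by group
    _ = t * (A.p * A.ρ (h01 k a) * A.p⁻¹) * t⁻¹ * E := by rw [e, hc.eq, mul_inv_cancel_right]; group
    _ = _ := by rw [← A.kk_apply, (A.TP_comm ht (A.kk_mem_TP a)).eq, mul_inv_cancel_right]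

end QData

end CfsgLib.SUPres
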