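import Cfsg.Agent.SUPres.Target3
import Cfsg.Agent.SUTwoGen.Close

/-!
# Generation of the special unitary group
-/

set_option autoImplicit false
set_option linter.unusedSectionVars false
set_option linter.unusedSimpArgs false

namespace CfsgLib.SUPres

open Matrix CfsgLib.RepBounds.Unit CfsgLib.SUThreeUnipotent CfsgLib.SUTwoGen CfsgLib.SL2Pres CfsgLib.SLnPres
open CfsgLib.SpnPres (IsMon monOf isMon_monOf)
open CfsgLib.OrthGen (negCycle negCycle_castSucc negCycle_last)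
open scoped commutatorElement

theorem mem_closure_lift {α T : Type*} [Group T] {f : FreeGroup α →* T} (S : Set (FreeGroup α)) {x : T}
    (hx : x ∈ Subgroup.closure (f '' S)) : ∃ w ∈ Subgroup.closure S, f w = x := by
  rw [← MonoidHom.map_closure] at hx
  exact hx

theorem conj_closure_orbit {A T : Type*} [Group A] [Group T] (h : A →* T) (g : T) (b : A) {x : T}
    (hx : x ∈ Subgroup.closure (Set.range fun a => h a * g * (h a)⁻¹)) :
    h b * x * (h b)⁻¹ ∈ Subgroup.closure (Set.range fun a => h a * g * (h a)⁻¹) := by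
  refine (show Subgroup.closure (Set.range fun a => h a * g * (h a)⁻¹) ≤
    (Subgroup.closure (Set.range fun a => h a * g * (h a)⁻¹)).comap (MulAut.conj (h b)).toMonoidHom from ?_) hx
  rw [Subgroup.closure_le]
  rintro _ ⟨a, rfl⟩
  refine Subgroup.subset_closure ⟨b * a, ?_⟩
  simp only [MulEquiv.coe_toMonoidHom, MulAut.conj_apply, map_mul]
  group

variable {F : Type*} [Field F] [Fintype F] {C : ConjField F} {ι : Type*} [Fintype ι] [DecidableEq ι] {k : ℕ}
variable {Φ : PFrame C (k + 2) ι}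

theorem conj_torus_q (b : Fˣ) {a δ : F} (h : QV Φ a δ) :
    lev Φ (h01 k b) * qEl Φ (.inl 0) a δ * (lev Φ (h01 k b))⁻¹ =
      qEl Φ (.inl 0) (C.σ b * a) (δ * (b * C.σ b)) := by
  refine conj_qEl0 ?_ (lev_x0 _) h
  rw [lev_mon_inl (h01_mon b)]; simp

theorem QV.scale1 {a δ : F} (h : QV Φ a δ) (s : F) : QV Φ (C.σ s * a) (δ * (s * C.σ s)) := by
  have := h.scale (s := s) (show (1 : F) * C.σ 1 * eps Φ = eps Φ by simp)
  rwa [mul_one] at this

/-- The torus conjugate of the exchange times a short element, over itself. -/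
theorem ratio_eq {c γ : F} (hc : C.σ c = -c) (hc0 : c ≠ 0) (hv : QV Φ (eps Φ) γ) {ν : Fˣ}
    (hν : (ν : F) * C.σ ν = 1) :
    (flipEl Φ c 0 * qEl Φ (.inl 0) (eps Φ) γ)⁻¹ *
        (lev Φ (h01 k ν) * (flipEl Φ c 0 * qEl Φ (.inl 0) (eps Φ) γ) * (lev Φ (h01 k ν))⁻¹) =
      qEl Φ (.inl 0) (-eps Φ + C.σ ν * eps Φ)
        (C.σ γ + γ * (ν * C.σ ν) - C.σ ν * eps Φ * C.σ (-eps Φ) * eps Φ) := by
  rw [← qEl_mul hv.inv (hv.scale1 _), ← qEl_inv hv, ← conj_torus_q ν hv]
  generalize qEl Φ (.inl 0) (eps Φ) γ = q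
  have e := norm1_commute (Φ := Φ) hc hc0 hν
  generalize lev Φ (h01 k ν) = h at e ⊢
  generalize flipEl Φ c 0 = f at e ⊢
  rw [_root_.mul_inv_rev, ← mul_assoc h f, ← e.eq]
  group

theorem long_of_all {K : Subgroup (suG C ι)} (he : eps Φ = 1)
    (hall : ∀ a : F, a ≠ 0 → ∃ δ, QV Φ a δ ∧ qEl Φ (.inl 0) a δ ∈ K) {δ : F} (hδ : QV Φ 0 δ) :
    qEl Φ (.inl 0) 0 δ ∈ K := by
  have hσ := qv_zero_iff.1 hδ
  obtain ⟨θ, hθ⟩ := C.exists_trace_one
  by_cases h0 : δ = 0
  · rw [h0, qEl_zero]; exact one_mem _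
  have hv0 : -δ * θ ≠ 0 := mul_ne_zero (neg_ne_zero.2 h0) (by rintro rfl; simp at hθ)
  obtain ⟨d1, h1, m1⟩ := hall 1 one_ne_zero
  obtain ⟨d2, h2, m2⟩ := hall _ hv0
  have h := mul_mem (mul_mem m1 m2) (inv_mem (mul_mem m2 m1))
  rw [qEl_mul h1 h2, qEl_mul h2 h1, qEl_inv (h2.mul h1), qEl_mul (h1.mul h2) (h2.mul h1).inv] at h
  convert h using 2
  · ring
  · unfold QV at h1 h2
    simp only [map_neg, map_mul, map_add, map_sub, map_one, C.invol, σ_eps, hσ, he] at h1 h2 ⊢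
    linear_combination (-1 : F) * h1 + (-1 : F) * h2 + (-δ) * hθ

/-- The short element is a word in the torus conjugates of the exchange times itself. -/
theorem short_mem_closure {c γ : F} (hc : C.σ c = -c) (hc0 : c ≠ 0) (he : eps Φ = 1) (hv : QV Φ (eps Φ) γ) :
    qEl Φ (.inl 0) (eps Φ) γ ∈ Subgroup.closure (Set.range fun a : Fˣ =>
      lev Φ (h01 k a) * (flipEl Φ c 0 * qEl Φ (.inl 0) (eps Φ) γ) * (lev Φ (h01 k a))⁻¹) := by
  obtain ⟨ν, hν1, hνn, -⟩ := exists_cls_gen C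
  have hyz := ratio_eq hc hc0 hv hνn
  set g0 := flipEl Φ c 0 * qEl Φ (.inl 0) (eps Φ) γ with hg0
  clear_value g0
  set K := Subgroup.closure (Set.range fun a : Fˣ => lev Φ (h01 k a) * g0 * (lev Φ (h01 k a))⁻¹) with hK
  have hgK : g0 ∈ K := Subgroup.subset_closure ⟨1, by simp only [map_one, one_mul, inv_one, mul_one]⟩
  have hconj : ∀ b : Fˣ, ∀ x ∈ K, lev Φ (h01 k b) * x * (lev Φ (h01 k b))⁻¹ ∈ K := fun b x hx =>
    conj_closure_orbit ((lev Φ).comp (h01 k)) g0 b hx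
  have hy := mul_mem (inv_mem hgK) (hconj ν g0 hgK)
  rw [hyz] at hy
  have hzv := hv.inv.mul (hv.scale1 (ν : F))
  have ha00 : -eps Φ + C.σ ν * eps Φ ≠ 0 := by
    rw [he, mul_one]
    intro h
    apply hν1
    have : C.σ (ν : F) = 1 := by linear_combination h
    simpa [C.invol] using congrArg C.σ this
  generalize -eps Φ + C.σ ν * eps Φ = a0 at hy hzv ha00
  generalize C.σ γ + γ * (ν * C.σ ν) - C.σ ν * eps Φ * C.σ (-eps Φ) * eps Φ = Γ₀ at hy hzv
  have hall : ∀ a : F, a ≠ 0 → ∃ δ, QV Φ a δ ∧ qEl Φ (.inl 0) a δ ∈ K := fun a ha => by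
    have hb : C.σ (a / a0) ≠ 0 := (map_ne_zero C.σ).2 (div_ne_zero ha ha00)
    have h := hconj (Units.mk0 _ hb) _ hy
    rw [conj_torus_q _ hzv] at h
    have hv' := hzv.scale1 (C.σ (a / a0))
    simp only [Units.val_mk0, C.invol, div_mul_cancel₀ a ha00] at h hv'
    exact ⟨_, hv', h⟩
  obtain ⟨d, hd, hm⟩ := hall 1 one_ne_zero
  rw [he] at hv ⊢
  have := mul_mem hm (long_of_all he hall (hd.split hv))
  rw [qEl_mul hd (hd.split hv)] at this
  convert this using 2
  · ring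
  · ring

/-- The Levi subgroup, one exchange and one short element generate. -/
theorem eq_top_gen {k : ℕ} {Φ : PFrame C (k + 2) ι} (hι : ¬ (Fintype.card ι = 3 ∧ C.q = 2)) {c γ : F}
    (hc : C.σ c = -c) (hc0 : c ≠ 0) (hv : QV Φ (eps Φ) γ) {H : Subgroup (suG C ι)}
    (hlev : ∀ M, lev Φ M ∈ H) (hf : flipEl Φ c 0 ∈ H) (hu : qEl Φ (.inl 0) (eps Φ) γ ∈ H) : H = ⊤ := by
  set M : Matrix.SpecialLinearGroup (Fin (k + 2)) F := monOf (finRotate (k + 2)) 0
  have hM := isMon_monOf (F := F) (finRotate (k + 2)) 0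
  have hP : Φ.Mon (lev Φ M) (Equiv.sumCongr (finRotate (k + 2)) (finRotate (k + 2))) := by
    refine ⟨fun d => ?_, lev_x0 _⟩
    rcases d with j | j
    · exact mv_lev_inl hM j
    · exact mv_lev_inr hM j
  obtain ⟨f1, f2, f3, f4⟩ := flipEl_spec (Φ := Φ) hc hc0 0
  have hS : Φ.Mon (flipEl Φ c 0) (Equiv.swap (.inl 0) (.inr 0)) := by
    refine ⟨fun d => ?_, f4⟩
    by_cases hd : ix d = 0
    · rcases d with j | j <;> simp only [ix_inl, ix_inr] at hd <;> subst hd
      · rw [Equiv.swap_apply_left]; exact Mv.intro f1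
      · rw [Equiv.swap_apply_right]; exact Mv.intro f2
    · rw [Equiv.swap_apply_of_ne_of_ne (fun e => hd (by rw [e]; rfl)) (fun e => hd (by rw [e]; rfl))]
      exact Mv.intro (a := 1) (by rw [one_smul]; exact f3 d hd)
  have hg : flipEl Φ c 0 * lev Φ M ∈ H := mul_mem hf (hlev _)
  have hgm : Φ.Mon (flipEl Φ c 0 * lev Φ M) (negCycle k) := Φ.mon_mul hS hP
  have h01 : (0 : Fin (k + 2)) ≠ 1 := zero_ne_one'
  have hedge : Rel Φ H (.inl 0) (.inr 1) := by
    refine ⟨by simp, by simp [h01.symm], fun r => ?_⟩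
    have := hlev (tv 0 1 (-C.σ r))
    rw [lev_tv h01, pEl_symm (by simp), map_neg, C.invol, neg_neg] at this
    exact ⟨_, this, isE_pEl (by simp [h01.symm]) r⟩
  have hcent : Centre H (Φ.v (.inl 0)) := by
    intro δ hδ
    have hσ : C.σ δ = -δ := C.skew_eq hδ
    obtain ⟨θ, hθ⟩ := C.exists_trace_one
    obtain ⟨t, ht⟩ := exists_plus (Φ := Φ) hc hc0 (-δ * θ)
    have hq : qT Φ c ∈ H := mul_mem (mul_mem (hlev _) hf) (inv_mem (hlev _))
    have h1 : pEl Φ (.inl 0) (.inr 1) (1 : F) ∈ H := by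
      have := hlev (tv 0 1 (-1))
      rw [lev_tv h01, pEl_symm (by simp), map_neg, map_one, neg_neg] at this
      exact this
    have h2 : pEl Φ (.inl 0) (.inl 1) (-δ * θ) ∈ H := by
      rw [← ht]; exact mul_mem (mul_mem hq (hlev _)) (inv_mem hq)
    have h3 : qEl Φ (.inl 0) 0 δ ∈ H := by
      have h := mul_mem (mul_mem (mul_mem h1 h2) (inv_mem h1)) (inv_mem h2)
      rw [← commutatorElement_def, commutator_pEl h01, map_one] at h
      convert h using 2
      rw [map_mul, map_neg, hσ]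
      linear_combination (-δ) * hθ
    exact ⟨_, h3, by have := isE_qEl (Φ := Φ) (c := .inl 0) (qv_zero_iff.2 hσ); rwa [zero_smul] at this⟩
  refine eq_top_of_edge hι hg hgm hedge ?_
  rcases eps_cases Φ with he | he
  · have : Φ.x0 = 0 := by rw [← eps_smul Φ, he, zero_smul]
    rw [this]; exact zero_mem _
  · have hinr : Centre H (Φ.v (.inr 0)) := by
      have := centre_move hf hS hcent
      rwa [Equiv.swap_apply_left] at this
    have hmem : ∀ y, herm C y y = 0 → Centre H y →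
        y ∈ Submodule.span F {v | herm C v v = 0 ∧ Centre H v} := fun y h h' => Submodule.subset_span ⟨h, h'⟩
    have h1 := hmem _ (by rw [herm_app, Φ.self]) (hinr.map hu)
    have e : app C (qEl Φ (.inl 0) (eps Φ) γ) (Φ.v (.inr 0)) = Φ.v (.inr 0) + Φ.x0 + γ • Φ.v (.inl 0) := by
      rw [app_qEl hv, herm_v1 Φ (.inr 0) |> (fun h => (show herm C (Φ.v (.inr 0)) (Φ.v (.inl 0)) = 1 from h)), Φ.vx,
        he, one_mul, one_smul, mul_zero, sub_zero, mul_one]
    rw [e] at h1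
    have h2 := Submodule.sub_mem _ (Submodule.sub_mem _ h1 (hmem _ (Φ.self _) hinr))
      (Submodule.smul_mem _ γ (hmem _ (Φ.self _) hcent))
    convert h2 using 1
    abel

end CfsgLib.SUPres
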