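import Cfsg.Agent.SUPres.Roots

/-!
# Commutators inside the conjugates of the Levi subgroup
-/

set_option autoImplicit false
set_option linter.unusedSectionVars false
set_option linter.unusedSimpArgs false

namespace CfsgLib.SUPres

open Matrix CfsgLib.RepBounds.Unit CfsgLib.SUThreeUnipotent CfsgLib.SUTwoGen CfsgLib.SL2Pres CfsgLib.SLnPres
open scoped commutatorElement

variable {F : Type*} [Field F] [Fintype F] {C : ConjField F} {ι : Type*} [Fintype ι] [DecidableEq ι] {k : ℕ}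

local notation "SLm" => Matrix.SpecialLinearGroup (Fin (k + 2)) F

theorem tv_commute {i j l o : Fin (k + 2)} (hij : i ≠ j) (hlo : l ≠ o) (hio : i ≠ o) (hjl : j ≠ l) (t u : F) :
    Commute (tv i j t : SLm) (tv l o u) := by
  rw [Commute, SemiconjBy]
  apply Subtype.ext
  rw [Matrix.SpecialLinearGroup.coe_mul, Matrix.SpecialLinearGroup.coe_mul, coe_tv hij, coe_tv hlo,
    transvection_mul hjl, transvection_mul hio.symm]
  abel

theorem tv_chain {i j l : Fin (k + 2)} (hij : i ≠ j) (hjl : j ≠ l) (hil : i ≠ l) (t u : F) :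
    ⁅(tv i j t : SLm), tv j l u⁆ = tv i l (t * u) := by
  simp only [tv, dif_neg hij, dif_neg hjl, dif_neg hil]
  exact CfsgLib.Linear.commutator_transvection hil hij hjl t u

namespace Base

variable {Φ : PFrame C (k + 2) ι} {G : Type*} [Group G] (A : Base Φ G)

theorem XP_levi {i j : Fin (k + 2)} (h : i ≠ j) {x : G} (hx : x ∈ A.XP (.inl i) (.inr j)) :
    ∃ t, x = A.ρ (tv i j t) := by
  obtain ⟨r, hr⟩ := (A.XP_image (c := .inl i) (d := .inr j) h).1 x hx
  refine ⟨-C.σ r, A.XP_ext hx (A.tv_mem_XP h _) ?_⟩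
  rw [hr, A.hφρ, lev_tv h, pEl_symm (show (Sum.inr j : SI (k + 2)) ≠ (Sum.inl i : SI (k + 2)).swap by
    simp [Ne.symm h])]

theorem exists_move3 {c d e : SI (k + 2)} (hcd : ix c ≠ ix d) (hce : ix c ≠ ix e) (hde : ix d ≠ ix e) :
    ∃ (i j l : Fin (k + 2)) (n : G), i = 0 ∧ n ∈ A.N ∧ i ≠ j ∧ i ≠ l ∧ j ≠ l ∧
      Mv Φ (A.φ n) (.inl i) c ∧ Mv Φ (A.φ n) (.inl j) d ∧ Mv Φ (A.φ n) (.inl l) e := by
  have hinj : Function.Injective (ix ∘ ![c, d, e]) := by
    intro a b h
    fin_cases a <;> fin_cases b <;> simp_all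
  have hl : 3 ≤ k + 2 := by simpa using Fintype.card_le_of_injective _ hinj
  obtain ⟨n, hn, hm⟩ := A.exists_move hl ![c, d, e] hinj
  refine ⟨Fin.castLE hl 0, Fin.castLE hl 1, Fin.castLE hl 2, n, rfl, hn, ?_, ?_, ?_, hm 0, hm 1, hm 2⟩ <;>
    simp [Fin.ext_iff]

/-- Two roots sharing an index with the same sign. -/
theorem comm_share {c d e : SI (k + 2)} (hcd : ix c ≠ ix d) (hce : ix c ≠ ix e) (hde : ix d ≠ ix e) :
    ⁅A.XP c d, A.XP c e⁆ = ⊥ := by
  obtain ⟨i, j, l, n, -, hn, hij, hil, hjl, hc, hd, he⟩ := A.exists_move3 (c := c) (d := d.swap) (e := e.swap)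
    (by simpa) (by simpa) (by simpa)
  have hd' : Mv Φ (A.φ n) (.inr j) d := by simpa using (A.N_mono hn).swap hd
  have he' : Mv Φ (A.φ n) (.inr l) e := by simpa using (A.N_mono hn).swap he
  rw [← A.cnj_XP hn hc hd', ← A.cnj_XP hn hc he', ← cnj_commutator]
  refine le_bot_iff.1 ((cnj_mono (Subgroup.commutator_le.2 fun x hx y hy => ?_)).trans (cnj_bot n).le)
  obtain ⟨t, rfl⟩ := A.XP_levi hij hx
  obtain ⟨u, rfl⟩ := A.XP_levi hil hy
  rw [Subgroup.mem_bot, commutatorElement_eq_one_iff_commute]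
  exact (tv_commute hij hil hil hij.symm t u).map A.ρ

/-- Two roots which add up to a root of two indices. -/
theorem comm_chain {c d e : SI (k + 2)} (hcd : ix c ≠ ix d) (hce : ix c ≠ ix e) (hde : ix d ≠ ix e) :
    ⁅A.XP c d, A.XP d.swap e⁆ ≤ A.XP c e := by
  obtain ⟨i, j, l, n, -, hn, hij, hil, hjl, hc, hd, he⟩ := A.exists_move3 (c := c) (d := d.swap) (e := e.swap)
    (by simpa) (by simpa) (by simpa)
  have hd' : Mv Φ (A.φ n) (.inr j) d := by simpa using (A.N_mono hn).swap hd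
  have he' : Mv Φ (A.φ n) (.inr l) e := by simpa using (A.N_mono hn).swap he
  rw [← A.cnj_XP hn hc hd', ← A.cnj_XP hn hd he', ← A.cnj_XP hn hc he', ← cnj_commutator]
  refine cnj_mono (Subgroup.commutator_le.2 fun x hx y hy => ?_)
  obtain ⟨t, rfl⟩ := A.XP_levi hij hx
  obtain ⟨u, rfl⟩ := A.XP_levi hjl hy
  rw [← map_commutatorElement, tv_chain hij hjl hil]
  exact A.tv_mem_XP hil _

/-- Two roots without a common index. -/
theorem comm_disj {c d e f : SI (k + 2)} (h : Function.Injective (ix ∘ ![c, d, e, f])) :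
    ⁅A.XP c d, A.XP e f⁆ = ⊥ := by
  have hinj : Function.Injective (ix ∘ ![c, d.swap, e, f.swap]) := by
    have e' : ix ∘ ![c, d.swap, e, f.swap] = ix ∘ ![c, d, e, f] := by
      funext a; fin_cases a <;> simp
    rw [e']; exact h
  have hl : 4 ≤ k + 2 := by simpa using Fintype.card_le_of_injective _ hinj
  obtain ⟨n, hn, hm⟩ := A.exists_move hl _ hinj
  have hc : Mv Φ (A.φ n) (.inl (Fin.castLE hl 0)) c := hm 0
  have hd : Mv Φ (A.φ n) (.inr (Fin.castLE hl 1)) d := by simpa using (A.N_mono hn).swap (hm 1)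
  have he : Mv Φ (A.φ n) (.inl (Fin.castLE hl 2)) e := hm 2
  have hf : Mv Φ (A.φ n) (.inr (Fin.castLE hl 3)) f := by simpa using (A.N_mono hn).swap (hm 3)
  rw [← A.cnj_XP hn hc hd, ← A.cnj_XP hn he hf, ← cnj_commutator]
  refine le_bot_iff.1 ((cnj_mono (Subgroup.commutator_le.2 fun x hx y hy => ?_)).trans (cnj_bot n).le)
  obtain ⟨t, rfl⟩ := A.XP_levi (by simp [Fin.ext_iff]) hx
  obtain ⟨u, rfl⟩ := A.XP_levi (by simp [Fin.ext_iff]) hy
  rw [Subgroup.mem_bot, commutatorElement_eq_one_iff_commute]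
  exact (tv_commute (by simp [Fin.ext_iff]) (by simp [Fin.ext_iff]) (by simp [Fin.ext_iff])
    (by simp [Fin.ext_iff]) t u).map A.ρ

end Base

end CfsgLib.SUPres
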