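import Cfsg.Agent.SUPres.Target
import Cfsg.Agent.SpnPres.Monomial

/-!
# Monomial elements of the special unitary group and their action on root elements
-/

set_option autoImplicit false
set_option linter.unusedSectionVars false
set_option linter.unusedSimpArgs false

namespace CfsgLib.SUPres

open Matrix CfsgLib.RepBounds.Unit CfsgLib.SUThreeUnipotent CfsgLib.SUTwoGen
open CfsgLib.SpnPres (IsMon)

variable {F : Type*} [Field F] [Fintype F] {C : ConjField F} {ι : Type*} [Fintype ι] [DecidableEq ι] {m : ℕ}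
variable (Φ : PFrame C m ι)

/-- `g` maps the line of `v c` to the line of `v d`. -/
def Mv (g : suG C ι) (c d : SI m) : Prop := ∃ a : F, a ≠ 0 ∧ app C g (Φ.v c) = a • Φ.v d

variable {Φ}

theorem app_eq_zero {g : suG C ι} {x : ι → F} (h : app C g x = 0) : x = 0 := by
  rw [← app_inv_app C g x, h, SUThreeUnipotent.app_zero]

theorem scalar_ne {g : suG C ι} {c d : SI m} {a : F} (h : app C g (Φ.v c) = a • Φ.v d) : a ≠ 0 := by
  rintro rfl
  rw [zero_smul] at h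
  exact Φ.ne_zero c (app_eq_zero h)

theorem Mv.intro {g : suG C ι} {c d : SI m} {a : F} (h : app C g (Φ.v c) = a • Φ.v d) : Mv Φ g c d :=
  ⟨a, scalar_ne h, h⟩

theorem Mv.refl (c : SI m) : Mv Φ (1 : suG C ι) c c := ⟨1, one_ne_zero, by rw [app_one, one_smul]⟩

theorem Mv.mul {g g' : suG C ι} {c d e : SI m} (h : Mv Φ g d e) (h' : Mv Φ g' c d) : Mv Φ (g * g') c e := by
  obtain ⟨a, ha, e1⟩ := h
  obtain ⟨b, hb, e2⟩ := h'
  exact ⟨b * a, mul_ne_zero hb ha, by rw [app_mul, e2, app_smul, e1, smul_smul]⟩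

theorem Mv.inv {g : suG C ι} {c d : SI m} (h : Mv Φ g c d) : Mv Φ g⁻¹ d c := by
  obtain ⟨a, ha, e⟩ := h
  refine ⟨a⁻¹, inv_ne_zero ha, app_inv_eq C ?_⟩
  rw [app_smul, e, smul_smul, inv_mul_cancel₀ ha, one_smul]

theorem Mv.unique {g : suG C ι} {c d d' : SI m} (h : Mv Φ g c d) (h' : Mv Φ g c d') : d = d' := by
  obtain ⟨a, ha, e⟩ := h
  obtain ⟨b, -, e'⟩ := h'
  exact v_index_unique Φ ha (e.symm.trans e')

theorem Mv.unique' {g : suG C ι} {c c' d : SI m} (h : Mv Φ g c d) (h' : Mv Φ g c' d) : c = c' :=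
  h.inv.unique h'.inv

theorem swap_of_pairing {g : suG C ι} {c d c' d' : SI m} (h : Mv Φ g c c') (h' : Mv Φ g d d') :
    d' = c'.swap ↔ d = c.swap := by
  obtain ⟨a, ha, e⟩ := h
  obtain ⟨b, hb, e'⟩ := h'
  have := herm_app C g (Φ.v c) (Φ.v d)
  rw [e, e', herm_smul_left, herm_smul_right, herm_vv, herm_vv] at this
  have hb' : C.σ b ≠ 0 := (map_ne_zero C.σ).2 hb
  by_cases h1 : d = c.swap <;> by_cases h2 : d' = c'.swap <;> simp_all

/-- Monomial elements. -/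
def IsMono (Φ : PFrame C m ι) (g : suG C ι) : Prop := (∀ c, ∃ d, Mv Φ g c d) ∧ app C g Φ.x0 = Φ.x0

theorem isMono_one : IsMono Φ (1 : suG C ι) := ⟨fun c => ⟨c, Mv.refl c⟩, app_one C _⟩

theorem IsMono.mul {g g' : suG C ι} (h : IsMono Φ g) (h' : IsMono Φ g') : IsMono Φ (g * g') := by
  refine ⟨fun c => ?_, by rw [app_mul, h'.2, h.2]⟩
  obtain ⟨d, hd⟩ := h'.1 c
  obtain ⟨e, he⟩ := h.1 d
  exact ⟨e, he.mul hd⟩

theorem IsMono.inv {g : suG C ι} (h : IsMono Φ g) : IsMono Φ g⁻¹ := by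
  refine ⟨fun d => ?_, app_inv_eq C h.2⟩
  choose f hf using h.1
  obtain ⟨c, rfl⟩ := (Finite.injective_iff_surjective (f := f)).1 (fun a b e => (hf a).unique' (e ▸ hf b)) d
  exact ⟨c, (hf c).inv⟩

theorem IsMono.swap {g : suG C ι} (h : IsMono Φ g) {c d : SI m} (hc : Mv Φ g c d) :
    Mv Φ g c.swap d.swap := by
  obtain ⟨e, he⟩ := h.1 c.swap
  rwa [(swap_of_pairing hc he).2 rfl] at he

theorem ix_ne_of_mv {g : suG C ι} (_hg : IsMono Φ g) {c d c' d' : SI m} (h : Mv Φ g c c') (h' : Mv Φ g d d')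
    (hne : ix c ≠ ix d) : ix c' ≠ ix d' := by
  intro e
  rcases ix_eq_iff.1 e with e1 | e1
  · subst e1; exact hne (by rw [h.unique' h'])
  · exact hne (by rw [(swap_of_pairing h h').1 e1, ix_swap])

/-- Conjugation of root elements of two indices. -/
theorem conj_pEl {g : suG C ι} {c d c' d' : SI m} {a b : F} (hc : app C g (Φ.v c) = a • Φ.v c')
    (hd : app C g (Φ.v d) = b • Φ.v d') (h : d ≠ c.swap) (r : F) :
    g * pEl Φ c d r * g⁻¹ = pEl Φ c' d' (C.σ a * b * r) := by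
  have e := (isE_pEl (Φ := Φ) h r).conj g
  rw [hc, app_smul, hd, isE_smul, smul_smul, smul_smul, zero_mul] at e
  have h' : d' ≠ c'.swap := fun e' =>
    h ((swap_of_pairing (Mv.intro hc) (Mv.intro hd)).1 e')
  rw [show C.σ a * r * b = C.σ a * b * r by ring] at e
  exact e.unique (isE_pEl h' _)

theorem QV.scale {a γ : F} (h : QV Φ a γ) {s ξ : F} (hξ : ξ * C.σ ξ * eps Φ = eps Φ) :
    QV Φ (C.σ s * ξ * a) (γ * (s * C.σ s)) := by
  unfold QV at *
  simp only [map_mul, C.invol]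
  linear_combination (s * C.σ s) * h + (s * C.σ s * a * C.σ a) * hξ

theorem x0_scalar {g : suG C ι} {ξ : F} (hx : app C g Φ.x0 = ξ • Φ.x0) : ξ * C.σ ξ * eps Φ = eps Φ := by
  have := herm_app C g Φ.x0 Φ.x0
  rw [hx, herm_xx] at this
  exact this

/-- Conjugation of root elements of one index. -/
theorem conj_qEl {g : suG C ι} {c c' : SI m} {s ξ : F} (hc : app C g (Φ.v c) = s • Φ.v c')
    (hx : app C g Φ.x0 = ξ • Φ.x0) {a γ : F} (h : QV Φ a γ) :
    g * qEl Φ c a γ * g⁻¹ = qEl Φ c' (C.σ s * ξ * a) (γ * (s * C.σ s)) := by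
  have e := (isE_qEl (Φ := Φ) (c := c) h).conj g
  rw [hc, app_smul, hx, isE_smul, smul_smul, smul_smul] at e
  rw [show C.σ s * a * ξ = C.σ s * ξ * a by ring] at e
  exact e.unique (isE_qEl (h.scale (x0_scalar hx)))

/-- Conjugation by monomial elements, one index. -/
theorem conj_qEl' {g : suG C ι} (hg : IsMono Φ g) {c c' : SI m} {s : F} (hc : app C g (Φ.v c) = s • Φ.v c')
    {a γ : F} (h : QV Φ a γ) :
    g * qEl Φ c a γ * g⁻¹ = qEl Φ c' (C.σ s * a) (γ * (s * C.σ s)) := by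
  have := conj_qEl hc (ξ := 1) (by rw [one_smul]; exact hg.2) h
  rwa [mul_one] at this

/-! ### Monomial matrices in the Levi subgroup -/

theorem lev_mon_inl {M : Matrix.SpecialLinearGroup (Fin m) F} {π : Equiv.Perm (Fin m)} {c : Fin m → F}
    (h : IsMon M π c) (j : Fin m) : app C (lev Φ M) (Φ.v (.inl j)) = c j • Φ.v (.inl (π j)) := by
  refine frame_ext Φ ?_ ?_
  · rintro (k | k)
    · rw [app_lev, levMap_herm_inl]
      simp [Matrix.mulVec, dotProduct, herm_vv, herm_smul_left]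
    · rw [app_lev, levMap_herm_inr, Matrix.mulVec, dotProduct, Finset.sum_eq_single j]
      · rw [h.eq, herm_smul_left, herm_vv, herm_vv]
        by_cases hk : π j = k
        · subst hk; simp
        · simp [hk, Ne.symm hk]
      · intro i _ hi; rw [herm_v0 Φ (by simp [hi]), mul_zero]
      · simp
  · rw [app_lev, levMap_herm_x0, herm_smul_left, Φ.vx, Φ.vx, mul_zero]

theorem lev_mon_inr {M : Matrix.SpecialLinearGroup (Fin m) F} {π : Equiv.Perm (Fin m)} {c : Fin m → F}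
    (h : IsMon M π c) (j : Fin m) :
    app C (lev Φ M) (Φ.v (.inr j)) = (C.σ (c j))⁻¹ • Φ.v (.inr (π j)) := by
  refine frame_ext Φ ?_ ?_
  · rintro (k | k)
    · rw [app_lev, levMap_herm_inl, Matrix.mulVec, dotProduct, Finset.sum_eq_single j]
      · rw [dual, Matrix.transpose_apply, Matrix.map_apply, show (M⁻¹).1 j k = (M⁻¹).1ᵀ k j from rfl,
          h.inv_transpose, herm_smul_left, herm_vv, herm_vv]
        by_cases hk : π j = k
        · subst hk; simp [map_inv₀]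
        · simp [hk, Ne.symm hk]
      · intro i _ hi; rw [herm_v0 Φ (by simp [hi]), mul_zero]
      · simp
    · rw [app_lev, levMap_herm_inr]
      simp [Matrix.mulVec, dotProduct, herm_vv, herm_smul_left]
  · rw [app_lev, levMap_herm_x0, herm_smul_left, Φ.vx, Φ.vx, mul_zero]

theorem mv_lev_inl {M : Matrix.SpecialLinearGroup (Fin m) F} {π : Equiv.Perm (Fin m)} {c : Fin m → F}
    (h : IsMon M π c) (j : Fin m) : Mv Φ (lev Φ M) (.inl j) (.inl (π j)) := Mv.intro (lev_mon_inl h j)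

theorem mv_lev_inr {M : Matrix.SpecialLinearGroup (Fin m) F} {π : Equiv.Perm (Fin m)} {c : Fin m → F}
    (h : IsMon M π c) (j : Fin m) : Mv Φ (lev Φ M) (.inr j) (.inr (π j)) := Mv.intro (lev_mon_inr h j)

theorem isMono_lev {M : Matrix.SpecialLinearGroup (Fin m) F} {π : Equiv.Perm (Fin m)} {c : Fin m → F}
    (h : IsMon M π c) : IsMono Φ (lev Φ M) := by
  refine ⟨?_, lev_x0 M⟩
  rintro (j | j)
  · exact ⟨_, mv_lev_inl h j⟩
  · exact ⟨_, mv_lev_inr h j⟩

/-! ### The exchange at one index -/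

/-- The exchange at one index. -/
noncomputable def flipEl (Φ : PFrame C m ι) (c : F) (i : Fin m) : suG C ι :=
  qEl Φ (.inr i) 0 c * qEl Φ (.inl i) 0 (-c⁻¹) * qEl Φ (.inr i) 0 c

theorem flipEl_spec {c : F} (hc : C.σ c = -c) (hc0 : c ≠ 0) (i : Fin m) :
    app C (flipEl Φ c i) (Φ.v (.inl i)) = c • Φ.v (.inr i) ∧
    app C (flipEl Φ c i) (Φ.v (.inr i)) = (-c⁻¹) • Φ.v (.inl i) ∧
    (∀ d : SI m, ix d ≠ i → app C (flipEl Φ c i) (Φ.v d) = Φ.v d) ∧
    app C (flipEl Φ c i) Φ.x0 = Φ.x0 := by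
  have h1 : QV Φ 0 c := qv_zero_iff.2 hc
  have h2 : QV Φ 0 (-c⁻¹) := qv_zero_iff.2 (by rw [map_neg, map_inv₀, hc, inv_neg])
  have e1 : ∀ (s : SI m) (γ : F), QV Φ 0 γ → ∀ x, app C (qEl Φ s 0 γ) x = x + (γ * herm C x (Φ.v s)) • Φ.v s :=
    fun s γ h x => by rw [app_qEl h]; simp
  have e : ∀ x, app C (flipEl Φ c i) x = app C (qEl Φ (.inr i) 0 c) (app C (qEl Φ (.inl i) 0 (-c⁻¹))
      (app C (qEl Φ (.inr i) 0 c) x)) := fun x => by rw [flipEl, app_mul, app_mul]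
  have fix : ∀ (s : SI m) (γ : F), QV Φ 0 γ → ∀ x, herm C x (Φ.v s) = 0 → app C (qEl Φ s 0 γ) x = x :=
    fun s γ h x hx => by rw [e1 s γ h, hx, mul_zero, zero_smul, add_zero]
  refine ⟨?_, ?_, fun d hd => ?_, ?_⟩
  · rw [e, e1 _ _ h1, e1 _ _ h2, e1 _ _ h1]
    simp only [herm_add_left, herm_smul_left, herm_vv, Sum.swap_inl, Sum.swap_inr, reduceCtorEq, if_true, if_false]
    match_scalars <;> field_simp <;> ring
  · rw [e, e1 _ _ h1, e1 _ _ h2, e1 _ _ h1]
    simp only [herm_add_left, herm_smul_left, herm_vv, Sum.swap_inl, Sum.swap_inr, reduceCtorEq, if_true, if_false]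
    match_scalars <;> field_simp <;> ring
  · have z : ∀ s : SI m, ix s = i → herm C (Φ.v d) (Φ.v s) = 0 := fun s hs =>
      herm_v0 Φ (fun e' => hd (by rw [← hs, e', ix_swap]))
    rw [e, fix _ _ h1 _ (z (.inr i) rfl), fix _ _ h2 _ (z (.inl i) rfl), fix _ _ h1 _ (z (.inr i) rfl)]
  · rw [e, fix _ _ h1 _ (Φ.xv _), fix _ _ h2 _ (Φ.xv _), fix _ _ h1 _ (Φ.xv _)]

theorem isMono_flipEl {c : F} (hc : C.σ c = -c) (hc0 : c ≠ 0) (i : Fin m) : IsMono Φ (flipEl Φ c i) := by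
  obtain ⟨h1, h2, h3, h4⟩ := flipEl_spec (Φ := Φ) hc hc0 i
  refine ⟨fun d => ?_, h4⟩
  by_cases hd : ix d = i
  · rcases d with j | j <;> simp only [ix_inl, ix_inr] at hd <;> subst hd
    · exact ⟨_, Mv.intro h1⟩
    · exact ⟨_, Mv.intro h2⟩
  · exact ⟨d, Mv.intro (a := 1) (by rw [one_smul]; exact h3 d hd)⟩

end CfsgLib.SUPres
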