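import Cfsg.Agent.SUPres.TwoShort

/-!
# Presentations of the special unitary groups from presentations of `SL₂`
-/

set_option autoImplicit false
set_option linter.unusedSectionVars false
set_option linter.unusedSimpArgs false
set_option maxRecDepth 4000
set_option maxHeartbeats 1000000

namespace CfsgLib.SUPres

open Matrix CfsgLib.RepBounds.Unit CfsgLib.SUThreeUnipotent CfsgLib.SUTwoGen CfsgLib.SL2Pres CfsgLib.SLnPres
open CfsgLib.SpnPres (IsMon)
open CfsgLib.DnPres (eA eA_xU)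
open scoped commutatorElement

variable {F : Type*} [Field F] [Fintype F] {C : ConjField F} {ι : Type*} [Fintype ι] [DecidableEq ι]

theorem triv_two {M : Matrix.SpecialLinearGroup (Fin (0 + 2)) F} (h : Triv 0 M) : M = 1 := by
  apply Subtype.ext
  ext a b
  rw [Matrix.SpecialLinearGroup.coe_one]
  rcases fin_two_cases a with rfl | rfl
  · exact h _ _ (Or.inl rfl)
  rcases fin_two_cases b with rfl | rfl
  · exact h _ _ (Or.inr rfl)
  · have := M.2
    rw [Matrix.det_fin_two, h 0 0 (Or.inl rfl), h 0 1 (Or.inl rfl), h 1 0 (Or.inr rfl)] at this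
    simpa using this

theorem exists_gen (F : Type*) [Field F] [Fintype F] :
    ∃ ω : Fˣ, ∀ t : F, t ≠ 0 → ∃ j : ℕ, t = (ω : F) ^ j := by
  obtain ⟨ω, hω⟩ := IsCyclic.exists_generator (α := Fˣ)
  refine ⟨ω, fun t ht => ?_⟩
  obtain ⟨j, hj⟩ := mem_powers_iff_mem_zpowers.2 (hω (Units.mk0 t ht))
  exact ⟨j, by rw [← Units.val_pow_eq_pow_val, show ω ^ j = Units.mk0 t ht from hj]; rfl⟩

/-- The correction in the relation of squares. -/
theorem exists_sq_fix {Φ : PFrame C (0 + 2) ι} {γ b f g : F} (hv : QV Φ (eps Φ) γ) (hb : C.σ b ≠ b)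
    (hbb : b * b = f + g * b) (q : F → suG C ι)
    (hq : ∀ a, q a = qEl Φ (.inl 0) (a * eps Φ) (γ * (a * C.σ a))) :
    ∃ f3 : F, C.σ f3 = f3 ∧ (q f * q (g * b))⁻¹ * q (b * b) = qEl Φ (.inl 0) 0 (f3 * (C.σ b - b)) := by
  have hQ : ∀ a, QV Φ (a * eps Φ) (γ * (a * C.σ a)) := fun a => by
    have := hv.scale1 (C.σ a)
    simpa [C.invol, mul_comm, mul_assoc] using this
  have hp := ((hQ f).mul (hQ (g * b))).inv.mul (hQ (b * b))
  have e0 : -(f * eps Φ + g * b * eps Φ) + b * b * eps Φ = 0 := by rw [hbb]; ring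
  rw [e0] at hp
  have hne : C.σ b - b ≠ 0 := sub_ne_zero.2 hb
  obtain ⟨δ, hδ, e⟩ : ∃ δ, QV Φ 0 δ ∧ (q f * q (g * b))⁻¹ * q (b * b) = qEl Φ (.inl 0) 0 δ := by
    refine ⟨_, hp, ?_⟩
    rw [hq, hq, hq, qEl_mul (hQ f) (hQ (g * b)), qEl_inv ((hQ f).mul (hQ (g * b))),
      qEl_mul ((hQ f).mul (hQ (g * b))).inv (hQ (b * b)), e0]
  refine ⟨δ / (C.σ b - b), ?_, by rw [e, div_mul_cancel₀ _ hne]⟩
  rw [map_div₀, map_sub, C.invol, qv_zero_iff.1 hδ, ← neg_sub (C.σ b), neg_div_neg_eq]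

/-- The special unitary group from `SL₂`: one more generator and twenty more relations. -/
theorem exists_presentation2 {g R : ℕ} (Φ : PFrame C (0 + 2) ι) (hι : ¬ (Fintype.card ι = 3 ∧ C.q = 2))
    (relsS : Finset (FreeGroup (Fin g))) (hR : relsS.card ≤ R)
    (eS : PresentedGroup (↑relsS : Set (FreeGroup (Fin g))) ≃* Matrix.SpecialLinearGroup (Fin (0 + 2)) F) :
    ∃ rels : Finset (FreeGroup (Fin (g + 1))), rels.card ≤ R + 20 ∧
      Nonempty (PresentedGroup (↑rels : Set (FreeGroup (Fin (g + 1)))) ≃* suG C ι) := by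
  classical
  -- constants
  obtain ⟨c, hc, hc0⟩ := exists_skew_ne C
  obtain ⟨θ, hθ⟩ := C.exists_trace_one
  set γ1 := -(θ * eps Φ) with hγ1
  have hv : QV Φ (eps Φ) γ1 := by
    unfold QV
    rw [hγ1, map_neg, map_mul, σ_eps, eps_sq, eps_sq]
    linear_combination (-eps Φ) * hθ
  obtain ⟨ν, -, hνn, hνgen⟩ := exists_cls_gen C
  obtain ⟨α₀, hα₀⟩ := C.exists_norm_neg_one
  have hα0 : α₀ ≠ 0 := by rintro rfl; simp at hα₀
  set α := Units.mk0 α₀ hα0
  obtain ⟨ω, hgen⟩ := exists_gen F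
  set b := C.σ (ω : F) with hbdef
  have hb : C.σ b ≠ b := by
    rw [hbdef, C.invol]
    exact fun h => CfsgLib.SUTwoGen.gen_not_fixed C hgen h.symm
  obtain ⟨f1, g1, hf1, hg1, hbb⟩ := exists_coord hb (b * b)
  let qU : F → suG C ι := fun a => qEl Φ (.inl 0) (a * eps Φ) (γ1 * (a * C.σ a))
  obtain ⟨f3, hf3, hsq⟩ := exists_sq_fix hv hb hbb qU (fun _ => rfl)
  obtain ⟨x₁, x₂, hx⟩ := CfsgLib.SLGen.exists_pair F 1 le_rfl
  obtain ⟨g₁, hg₁⟩ := tau_target (Φ := Φ) hc hc0 x₁
  obtain ⟨g₂, hg₂⟩ := tau_target (Φ := Φ) hc hc0 x₂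
  choose tp htp using exists_plus (Φ := Φ) hc hc0
  -- words
  choose wS hwS using fun M => PresentedGroup.mk_surjective (↑relsS : Set (FreeGroup (Fin g))) (eS.symm M)
  let JS : FreeGroup (Fin g) →* FreeGroup (Fin (g + 1)) := FreeGroup.lift fun j => FreeGroup.of (Fin.castAdd 1 j)
  let lw : Matrix.SpecialLinearGroup (Fin (0 + 2)) F → FreeGroup (Fin (g + 1)) := fun M => JS (wS M)
  let new : FreeGroup (Fin (g + 1)) := FreeGroup.of (Fin.natAdd g 0)
  let vals : Fin (g + 1) → suG C ι := Fin.addCases (fun j => lev Φ (eS (PresentedGroup.of j)))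
    (fun _ => flipEl Φ c 0 * qEl Φ (.inl 0) (eps Φ) γ1)
  have hJS : ∀ w, FreeGroup.lift vals (JS w) = lev Φ (eS (PresentedGroup.mk _ w)) := fun w =>
    DFunLike.congr_fun (show (FreeGroup.lift vals).comp JS =
      ((lev Φ).comp eS.toMonoidHom).comp (PresentedGroup.mk _) by ext j; simp [JS, vals, PresentedGroup.of]) w
  have hlw : ∀ M, FreeGroup.lift vals (lw M) = lev Φ M := fun M => by
    show FreeGroup.lift vals (JS (wS M)) = _
    rw [hJS, hwS, MulEquiv.apply_symm_apply]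
  have hnew : FreeGroup.lift vals new = flipEl Φ c 0 * qEl Φ (.inl 0) (eps Φ) γ1 := by simp [new, vals]
  let H : Fˣ → FreeGroup (Fin (g + 1)) := fun a => lw (h01 0 a)
  let cj : Fˣ → FreeGroup (Fin (g + 1)) := fun a => H a * new * (H a)⁻¹
  obtain ⟨wu, hwu, hwuv, hwu0⟩ : ∃ w ∈ Subgroup.closure (Set.range cj),
      FreeGroup.lift vals w = qEl Φ (.inl 0) (eps Φ) γ1 ∧ (eps Φ = 0 → w = 1) := by
    rcases eps_cases Φ with he | he
    · exact ⟨1, one_mem _, by rw [map_one, hγ1, he, mul_zero, neg_zero, qEl_zero], fun _ => rfl⟩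
    · obtain ⟨w, hw, e⟩ := mem_closure_lift (f := FreeGroup.lift vals) (Set.range cj) (x := qEl Φ (.inl 0) (eps Φ) γ1) (by
        refine Subgroup.closure_mono ?_ (short_mem_closure hc hc0 he hv)
        rintro _ ⟨a, rfl⟩
        exact ⟨cj a, ⟨a, rfl⟩, by simp only [cj, H, map_mul, map_inv, hlw, hnew]⟩)
      exact ⟨w, hw, e, fun h0 => absurd (h0.symm.trans he) zero_ne_one⟩
  let Pw := new * wu⁻¹
  let W := lw (w01 0)
  let Qw := W * Pw * W⁻¹
  let U1w := W * wu * W⁻¹
  let X : F → FreeGroup (Fin (g + 1)) := fun t => lw (tv 0 1 t)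
  let Mw : F → FreeGroup (Fin (g + 1)) := fun r => X (-C.σ r)
  let Plus : F → FreeGroup (Fin (g + 1)) := fun r => Qw * X (tp r) * Qw⁻¹
  let Cw : F → FreeGroup (Fin (g + 1)) := fun s => ⁅Mw 1, Plus s⁆
  let Kw := Pw * H ω * Pw⁻¹
  let Dw := H (Units.map (C.σ : F →* F) ω) * Kw
  let Uw : F → FreeGroup (Fin (g + 1)) := fun a => if h : a = 0 then 1
    else H (Units.mk0 (C.σ a) ((map_ne_zero C.σ).2 h)) * wu * (H (Units.mk0 (C.σ a) ((map_ne_zero C.σ).2 h)))⁻¹
  let Ubw := H ω * wu * (H ω)⁻¹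
  let Z0w := Cw b
  let Z1w := W * Z0w * W⁻¹
  let Z1X : F → FreeGroup (Fin (g + 1)) := fun r =>
    ⁅Mw r, Z1w⁆ * (Cw (r * C.σ r * b) * Plus (-(C.σ b - b) * r))⁻¹
  let T : Matrix.SpecialLinearGroup (Fin 2) F → Matrix.SpecialLinearGroup (Fin 2) F → FreeGroup (Fin (g + 1)) :=
    fun x x' => Pw * Qw * lw (eA 0 1 x) * (Pw * Qw)⁻¹ * (lw (eA 0 1 x'))⁻¹
  let L0 : List (FreeGroup (Fin (g + 1))) :=
    [Pw * Pw * (H α⁻¹ * (Pw * H α * Pw⁻¹))⁻¹, ⁅Pw, H ν⁆, ⁅Pw, Qw⁆, T x₁ g₁, T x₂ g₂, ⁅H ω, Kw⁆,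
      Kw * X 1 * Kw⁻¹ * (X ((ω : F) / C.σ ω))⁻¹, Cw 1, H ω * Z0w * (H ω)⁻¹ * (Cw ((ω : F) * C.σ ω * b))⁻¹,
      Pw * (Pw * Cw (θ / c) * Pw⁻¹ * Cw (θ / c) * (Pw * Cw (θ / c) * Pw⁻¹))⁻¹]
  let La : List (FreeGroup (Fin (g + 1))) :=
    [⁅Z0w, Mw 1⁆, ⁅Z0w, Mw b⁆, ⁅Z0w, Qw⁆, ⁅Z0w, Dw⁆, ⁅Z0w, Z1w⁆, Z1X 1, Z1X b]
  let Lb : List (FreeGroup (Fin (g + 1))) :=
    [⁅wu, Mw 1⁆, ⁅wu, Mw b⁆, ⁅wu, Qw⁆, ⁅wu, Dw⁆, ⁅Mw 1, U1w⁆⁻¹ * wu * (Plus γ1)⁻¹,
      ⁅Mw b, U1w⁆⁻¹ * Ubw * (Plus (γ1 * b))⁻¹, (Uw f1 * Uw (g1 * b))⁻¹ * Uw (b * b) * (Cw (f3 * b))⁻¹,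
      ⁅wu, U1w⁆ * (Plus (-eps Φ))⁻¹, ⁅Ubw, U1w⁆ * (Plus (-b * eps Φ))⁻¹, Z0w * ⁅wu, Ubw⁆⁻¹]
  let L : List (FreeGroup (Fin (g + 1))) := L0 ++ if eps Φ = 0 then La else Lb
  set rels : Finset (FreeGroup (Fin (g + 1))) := relsS.image JS ∪ L.toFinset with hrels
  have hlen : L.length ≤ 20 := by
    simp only [L, List.length_append]
    split_ifs <;> simp [L0, La, Lb]
  have hcard : rels.card ≤ R + 20 :=
    (Finset.card_union_le _ _).trans (Nat.add_le_add (Finset.card_image_le.trans hR)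
      ((List.toFinset_card_le _).trans hlen))
  refine ⟨rels, hcard, ?_⟩
  -- values
  have hne : C.σ b - b ≠ 0 := sub_ne_zero.2 hb
  have vP : FreeGroup.lift vals Pw = flipEl Φ c 0 := by
    simp only [Pw, map_mul, map_inv, hnew, hwuv, mul_inv_cancel_right]
  have vQ : FreeGroup.lift vals Qw = qT Φ c := by simp only [Qw, W, map_mul, map_inv, hlw, vP, qT]
  have vU1 : FreeGroup.lift vals U1w = qEl Φ (.inl 1) (-eps Φ) γ1 := by
    simp only [U1w, W, map_mul, map_inv, hlw, hwuv]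
    exact (conj_w_qEl hv).1
  have vPlus : ∀ r, FreeGroup.lift vals (Plus r) = pEl Φ (.inl 0) (.inl 1) r := fun r => by
    simp only [Plus, X, map_mul, map_inv, hlw, vQ, htp]
  have vM : ∀ r, FreeGroup.lift vals (Mw r) = pEl Φ (.inl 0) (.inr 1) r := fun r => by
    simp only [Mw, X, hlw]
    rw [lev_tv zero_ne_one', pEl_symm (by simp), map_neg, C.invol, neg_neg]
  have vC : ∀ s, FreeGroup.lift vals (Cw s) = qEl Φ (.inl 0) 0 (C.σ s - s) := fun s => by
    simp only [Cw, map_commutatorElement, vM, vPlus]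
    rw [commutator_pEl zero_ne_one', map_one, one_mul, mul_one]
  have vCf : ∀ f, C.σ f = f → FreeGroup.lift vals (Cw (f * b)) = qEl Φ (.inl 0) 0 (f * (C.σ b - b)) := fun f hf => by
    rw [vC, map_mul, hf, mul_sub]
  have hz0 : QV Φ 0 (C.σ b - b) := qv_zero_iff.2 (by rw [map_sub, C.invol]; ring)
  have vZ : FreeGroup.lift vals Z0w = qEl Φ (.inl 0) 0 (C.σ b - b) := vC b
  have vK : FreeGroup.lift vals Kw = kkT Φ c ω := by simp only [Kw, H, map_mul, map_inv, hlw, vP, kkT]
  have vD : FreeGroup.lift vals Dw = ddT Φ c ω := by simp only [Dw, H, map_mul, hlw, vK, ddT]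
  have hQ : ∀ a, QV Φ (a * eps Φ) (γ1 * (a * C.σ a)) := fun a => by
    have := hv.scale1 (C.σ a)
    simpa [C.invol, mul_comm, mul_assoc] using this
  have vUw : ∀ a, FreeGroup.lift vals (Uw a) = qU a := fun a => by
    by_cases h : a = 0
    · simp [Uw, qU, h, qEl_zero]
    · simp only [Uw, dif_neg h, H, map_mul, map_inv, hlw, hwuv]
      rw [conj_torus_q _ hv, Units.val_mk0, C.invol, mul_comm (C.σ a) a]
  have vUb : FreeGroup.lift vals Ubw = qEl Φ (.inl 0) (b * eps Φ) (γ1 * ((ω : F) * b)) := by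
    simp only [Ubw, H, map_mul, map_inv, hlw, hwuv]
    exact conj_torus_q ω hv
  have hfixM : ∀ r, app C (pEl Φ (.inl 0) (.inr 1) r) (Φ.v (.inl 0)) = Φ.v (.inl 0) ∧
      app C (pEl Φ (.inl 0) (.inr 1) r) Φ.x0 = Φ.x0 := fun r => by
    have hp : (Sum.inr 1 : SI (0 + 2)) ≠ (Sum.inl 0 : SI (0 + 2)).swap := by simp
    constructor <;> rw [app_pEl hp] <;>
      simp [herm_vv, herm_smul_right, Φ.xv, zero_ne_one'.symm]
  have hfixQ : app C (qT Φ c) (Φ.v (.inl 0)) = Φ.v (.inl 0) ∧ app C (qT Φ c) Φ.x0 = Φ.x0 :=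
    ⟨qT_fix hc hc0 (d := .inl 0) zero_ne_one', (qT_mono hc hc0).2⟩
  have hval : ∀ r ∈ (↑rels : Set (FreeGroup (Fin (g + 1)))), FreeGroup.lift vals r = 1 := by
    intro r hr
    simp only [hrels, Finset.coe_union, Set.mem_union, Finset.coe_image, Set.mem_image, Finset.mem_coe,
      List.coe_toFinset, Set.mem_ofPred_eq] at hr
    rcases hr with ⟨r₀, hr₀, rfl⟩ | hr
    · rw [hJS, PresentedGroup.one_of_mem (Finset.mem_coe.2 hr₀), map_one, map_one]
    rcases List.mem_append.1 hr with hr | hr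
    · simp only [L0, List.mem_cons, List.not_mem_nil, or_false] at hr
      rcases hr with rfl | rfl | rfl | rfl | rfl | rfl | rfl | rfl | rfl | rfl
      · simp only [H, map_mul, map_inv, hlw, vP, mul_inv_eq_one]
        simpa only [map_inv] using psq_target (Φ := Φ) hc hc0 (α := α) hα₀
      · rw [map_commutatorElement, vP, hlw, commutatorElement_eq_one_iff_commute]
        exact norm1_commute hc hc0 hνn
      · rw [map_commutatorElement, vP, vQ, commutatorElement_eq_one_iff_commute]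
        exact (qT_commute hc hc0).symm
      · simp only [T, map_mul, map_inv, hlw, vP, vQ, mul_inv_eq_one]
        exact hg₁
      · simp only [T, map_mul, map_inv, hlw, vP, vQ, mul_inv_eq_one]
        exact hg₂
      · rw [map_commutatorElement, vK, hlw, commutatorElement_eq_one_iff_commute]
        exact kkT_comm hc hc0 ω ω
      · simp only [X, map_mul, map_inv, vK, hlw, mul_inv_eq_one]
        rw [kkT_tv hc hc0, mul_one]
      · rw [vC, map_one, sub_self, qEl_zero]
      · simp only [H, map_mul, map_inv, hlw, vZ, mul_inv_eq_one]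
        rw [vCf _ (by rw [map_mul, C.invol, mul_comm]), conj_torus_q ω hz0, mul_zero, mul_comm (C.σ b - b)]
      · simp only [map_mul, map_inv, vP, vC, mul_inv_eq_one]
        have : C.σ (θ / c) - θ / c = -c⁻¹ := by
          rw [map_div₀, hc]
          field_simp
          linear_combination -hθ
        rw [this]
        exact flip_eq hc hc0
    rcases eps_cases Φ with he | he
    · rw [if_pos he] at hr
      have hz1 := conj_w_qEl hz0
      have vZ1 : FreeGroup.lift vals Z1w = qEl Φ (.inl 1) (-0) (C.σ b - b) := by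
        simp only [Z1w, W, map_mul, map_inv, hlw, vZ]
        exact hz1.1
      have hZ1X : ∀ r, FreeGroup.lift vals (Z1X r) = 1 := fun r => by
        simp only [Z1X, map_mul, map_inv, map_commutatorElement, vM, vZ1, vPlus, mul_inv_eq_one]
        rw [vCf _ (by rw [map_mul, C.invol, mul_comm]), commutator_pq hz1.2, neg_zero, mul_zero,
          mul_comm (C.σ b - b) (r * C.σ r)]
      simp only [La, List.mem_cons, List.not_mem_nil, or_false] at hr
      rcases hr with rfl | rfl | rfl | rfl | rfl | rfl | rfl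
      · rw [map_commutatorElement, vZ, vM, commutatorElement_eq_one_iff_commute]
        exact (qEl_commute (hfixM _).1 (hfixM _).2 hz0).symm
      · rw [map_commutatorElement, vZ, vM, commutatorElement_eq_one_iff_commute]
        exact (qEl_commute (hfixM _).1 (hfixM _).2 hz0).symm
      · rw [map_commutatorElement, vZ, vQ, commutatorElement_eq_one_iff_commute]
        exact (qEl_commute hfixQ.1 hfixQ.2 hz0).symm
      · rw [map_commutatorElement, vZ, vD, commutatorElement_eq_one_iff_commute]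
        exact (qEl_commute (ddT_spec hc hc0 ω).1 (ddT_spec hc hc0 ω).2 hz0).symm
      · rw [map_commutatorElement, vZ, vZ1, commutator_qq hz0 hz1.2, zero_mul, zero_mul, pEl_zero (by simp)]
      · exact hZ1X 1
      · exact hZ1X b
    · rw [if_neg (by rw [he]; exact one_ne_zero)] at hr
      have hv1 : QV Φ (-eps Φ) γ1 := (conj_w_qEl hv).2
      simp only [Lb, List.mem_cons, List.not_mem_nil, or_false] at hr
      rcases hr with rfl | rfl | rfl | rfl | rfl | rfl | rfl | rfl | rfl | rfl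
      · rw [map_commutatorElement, hwuv, vM, commutatorElement_eq_one_iff_commute]
        exact (qEl_commute (hfixM _).1 (hfixM _).2 hv).symm
      · rw [map_commutatorElement, hwuv, vM, commutatorElement_eq_one_iff_commute]
        exact (qEl_commute (hfixM _).1 (hfixM _).2 hv).symm
      · rw [map_commutatorElement, hwuv, vQ, commutatorElement_eq_one_iff_commute]
        exact (qEl_commute hfixQ.1 hfixQ.2 hv).symm
      · rw [map_commutatorElement, hwuv, vD, commutatorElement_eq_one_iff_commute]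
        exact (qEl_commute (ddT_spec hc hc0 ω).1 (ddT_spec hc hc0 ω).2 hv).symm
      · simp only [map_mul, map_inv, map_commutatorElement, vM, vU1, hwuv, vPlus, mul_inv_eq_one]
        rw [commutator_pq hv1, _root_.mul_inv_rev, neg_mul_neg, one_mul, map_one, mul_one, mul_one, mul_one,
          inv_mul_cancel_right, pEl_inv (by simp), neg_neg]
      · simp only [map_mul, map_inv, map_commutatorElement, vM, vU1, vUb, vPlus, mul_inv_eq_one]
        have hbω : C.σ b = ω := C.invol _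
        rw [commutator_pq hv1, _root_.mul_inv_rev, neg_mul_neg, hbω, mul_comm (ω : F) b,
          inv_mul_cancel_right, pEl_inv (by simp), neg_mul, neg_neg]
      · simp only [map_mul, map_inv, vUw, mul_inv_eq_one]
        rw [vCf f3 hf3]
        exact hsq
      · simp only [map_mul, map_inv, map_commutatorElement, hwuv, vU1, vPlus, mul_inv_eq_one]
        rw [commutator_qq hv hv1, map_neg, σ_eps, mul_neg, neg_mul, eps_sq, eps_sq]
      · simp only [map_mul, map_inv, map_commutatorElement, vUb, vU1, vPlus, mul_inv_eq_one]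
        have hB : QV Φ (b * eps Φ) (γ1 * ((ω : F) * b)) := hv.scale1 _
        rw [commutator_qq hB hv1]
        congr 1
        rw [map_neg, σ_eps]
        linear_combination (-b * (eps Φ + 1)) * eps_sq Φ
      · simp only [map_mul, map_inv, map_commutatorElement, vZ, hwuv, vUb, mul_inv_eq_one]
        have := commutator_short hv b
        rw [show b * C.σ b = (ω : F) * b by rw [hbdef, C.invol, mul_comm]] at this
        rw [this, he, mul_one]
  -- the presented group
  let G := PresentedGroup (↑rels : Set (FreeGroup (Fin (g + 1))))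
  let mk : FreeGroup (Fin (g + 1)) →* G := PresentedGroup.mk _
  let φ : G →* suG C ι := PresentedGroup.toGroup hval
  have hφmk : ∀ w, φ (mk w) = FreeGroup.lift vals w := fun w => rfl
  have hrelS : ∀ r ∈ (↑relsS : Set (FreeGroup (Fin g))),
      FreeGroup.lift (fun j => mk (FreeGroup.of (Fin.castAdd 1 j))) r = 1 := by
    intro r hr
    rw [show FreeGroup.lift (fun j => mk (FreeGroup.of (Fin.castAdd 1 j))) = mk.comp JS by ext j; simp [JS]]
    exact PresentedGroup.one_of_mem (Finset.mem_coe.2 (Finset.mem_union_left _ (Finset.mem_image_of_mem _ hr)))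
  let ρ : Matrix.SpecialLinearGroup (Fin (0 + 2)) F →* G :=
    (PresentedGroup.toGroup hrelS).comp eS.symm.toMonoidHom
  have hρw : ∀ M, mk (lw M) = ρ M := fun M => by
    show mk (JS (wS M)) = PresentedGroup.toGroup hrelS (eS.symm M)
    rw [← hwS M]
    exact DFunLike.congr_fun (show mk.comp JS = FreeGroup.lift fun j => mk (FreeGroup.of (Fin.castAdd 1 j)) by
      ext j; simp [JS]) (wS M)
  have hφρ : ∀ M, φ (ρ M) = lev Φ M := fun M => by rw [← hρw, hφmk, hlw]
  set p := mk Pw with hp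
  set u := mk wu with hu
  set n := mk new with hn
  have hpn : p = n * u⁻¹ := by rw [hp, hn, hu, ← map_inv, ← map_mul]
  have hrel : ∀ r ∈ L, mk r = 1 := fun r hr =>
    PresentedGroup.one_of_mem (Finset.mem_coe.2 (Finset.mem_union_right _ (List.mem_toFinset.2 hr)))
  have hrel0 : ∀ r ∈ L0, mk r = 1 := fun r hr => hrel r (List.mem_append_left _ hr)
  simp only [L0, List.forall_mem_cons, List.not_mem_nil, false_implies, implies_true, and_true] at hrel0
  obtain ⟨hR1, hR3, hR5, hT1, hT2, hKC, hKN, hC1, hHZ, hR8⟩ := hrel0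
  simp only [H, T, Kw, X, map_mul, map_inv, map_commutatorElement, hρw, ← hp,
    commutatorElement_eq_one_iff_commute, mul_inv_eq_one] at hR1 hR3 hR5 hT1 hT2 hKC hKN
  have hkc : ∀ a b', Commute (ρ (h01 0 b')) (p * ρ (h01 0 a) * p⁻¹) := by
    intro a b'
    obtain ⟨i, hi⟩ := hgen a a.ne_zero
    obtain ⟨j, hj⟩ := hgen b' b'.ne_zero
    rw [show a = ω ^ i from Units.ext (by rw [Units.val_pow_eq_pow_val, hi]),
      show b' = ω ^ j from Units.ext (by rw [Units.val_pow_eq_pow_val, hj]), map_pow, map_pow, map_pow, map_pow,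
      ← conj_pow]
    exact hKC.pow_pow j i
  have hkn : ∀ a r, ∃ r', p * ρ (h01 0 a) * p⁻¹ * ρ (tv 0 1 r) * (p * ρ (h01 0 a) * p⁻¹)⁻¹ =
      ρ (tv 0 1 r') := by
    set κ := p * ρ (h01 0 ω) * p⁻¹ with hκ
    set lam := (ω : F) / C.σ ω
    have hadd : ∀ s t : F, ρ (tv 0 1 (s + t)) = ρ (tv 0 1 s) * ρ (tv 0 1 t) := fun s t => by
      rw [tv_add' zero_ne_one', map_mul]
    let S : AddSubgroup F :=
      { carrier := {t | κ * ρ (tv 0 1 t) * κ⁻¹ = ρ (tv 0 1 (lam * t))}
        zero_mem' := by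
          show _ = _
          rw [mul_zero, tv_zero, map_one, mul_one, mul_inv_cancel]
        add_mem' := fun {s t} hs ht => by
          show _ = _
          rw [mul_add, hadd, hadd (lam * s), ← hs, ← ht]; group
        neg_mem' := fun {t} ht => by
          show _ = _
          have e : ∀ s : F, ρ (tv 0 1 (-s)) = (ρ (tv 0 1 s))⁻¹ := fun s =>
            eq_inv_of_mul_eq_one_left (by rw [← hadd, neg_add_cancel, tv_zero, map_one])
          rw [mul_neg, e, e, ← ht]; group }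
    have hone : κ * ρ (tv 0 1 1) * κ⁻¹ = ρ (tv 0 1 lam) := hKN
    have hS : ∀ t, t ∈ S := fun t => by
      have := sq_all S (s := 1) (fun y => ?_) t
      · rwa [mul_one] at this
      by_cases h0 : y = 0
      · rw [h0, zero_mul, zero_mul]; exact S.zero_mem
      set l := Units.mk0 y h0
      have ht : ∀ s : F, ρ (h01 0 l) * ρ (tv 0 1 s) * (ρ (h01 0 l))⁻¹ = ρ (tv 0 1 (y * y * s)) := fun s => by
        rw [← map_inv, ← map_mul, ← map_mul, (h01_mon l).mul_tv zero_ne_one']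
        congr 2
        simp [l, zero_ne_one'.symm, Units.val_inv_eq_inv_val]
        ring
      show κ * ρ (tv 0 1 (y * y * 1)) * κ⁻¹ = ρ (tv 0 1 (lam * (y * y * 1)))
      have hc' : Commute (ρ (h01 0 l)) κ := hkc ω l
      rw [← ht 1, show κ * (ρ (h01 0 l) * ρ (tv 0 1 1) * (ρ (h01 0 l))⁻¹) * κ⁻¹ =
        (κ * ρ (h01 0 l)) * ρ (tv 0 1 1) * (κ * ρ (h01 0 l))⁻¹ by group, ← hc'.eq,
        show ρ (h01 0 l) * κ * ρ (tv 0 1 1) * (ρ (h01 0 l) * κ)⁻¹ =
          ρ (h01 0 l) * (κ * ρ (tv 0 1 1) * κ⁻¹) * (ρ (h01 0 l))⁻¹ by group, hone, ht, mul_one, mul_comm lam]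
    have hpow : ∀ (i : ℕ) (t : F), ∃ t', κ ^ i * ρ (tv 0 1 t) * (κ ^ i)⁻¹ = ρ (tv 0 1 t') := by
      intro i
      induction i with
      | zero => intro t; exact ⟨t, by simp⟩
      | succ i ih =>
        intro t
        obtain ⟨t', e⟩ := ih t
        exact ⟨lam * t', by rw [← show κ * ρ (tv 0 1 t') * κ⁻¹ = _ from hS t', ← e, pow_succ']; group⟩
    intro a r
    obtain ⟨i, hi⟩ := hgen a a.ne_zero
    rw [show a = ω ^ i from Units.ext (by rw [Units.val_pow_eq_pow_val, hi]), map_pow, map_pow, ← conj_pow]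
    exact hpow i r
  let A : Base Φ G :=
    { ρ := ρ, p := p, φ := φ, c := c, hc := hc, hc0 := hc0
      hφρ := hφρ
      hφp := by rw [hp, hφmk, vP]
      stab_p := fun M hM => by rw [triv_two hM, map_one]; exact Commute.one_left p
      comm_p1 := by
        simp only [Qw, W, map_mul, map_inv, hρw, ← hp] at hR5
        exact hR5
      tau := fun x => by
        simp only [Qw, W, map_mul, map_inv, hρw, ← hp] at hT1 hT2
        exact mem_range_of_pair (ρ.comp (eA 0 1)) _ hx ⟨_, hT1⟩ ⟨_, hT2⟩ x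
      norm1 := fun a ha => by
        obtain ⟨j, -, hj⟩ := hνgen a ha
        have e : a = ν ^ j := Units.ext (by rw [Units.val_pow_eq_pow_val, hj])
        rw [e, map_pow, map_pow]
        exact hR3.pow_right j
      psq := by
        rw [hR1]
        exact mul_mem (Subgroup.mem_sup_left (inv_mem ⟨_, h01_mem α, rfl⟩))
          (Subgroup.mem_sup_right ⟨_, ⟨_, h01_mem α, rfl⟩, rfl⟩)
      kcomm := hkc
      knorm := hkn }
  have one_ne : (1 : Fin (0 + 2)) ≠ 0 := zero_ne_one'.symm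
  have eM : ∀ r, mk (Mw r) = A.el (.inr 1) r := fun r => by
    refine A.el_eq (d := .inr 1) one_ne ?_ (show φ (mk (Mw r)) = _ by rw [hφmk, vM])
    show mk (lw _) ∈ _
    rw [hρw]
    exact A.tv_mem_XP zero_ne_one' _
  have eQ : mk Qw = A.p1 := by
    show mk (W * Pw * W⁻¹) = ρ (w01 0) * p * (ρ (w01 0))⁻¹
    rw [map_mul, map_mul, map_inv, hρw]
  have eP : ∀ r, mk (Plus r) = A.el (.inl 1) r := fun r => by
    refine A.el_eq (d := .inl 1) one_ne ?_ (show φ (mk (Plus r)) = _ by rw [hφmk, vPlus])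
    show mk (Qw * lw _ * Qw⁻¹) ∈ _
    rw [map_mul, map_mul, map_inv, eQ, hρw]
    have h1 : Mv Φ (A.φ A.p1) (.inl 0) (.inl 0) := by
      have := A.mv_p1 (.inl 0)
      rwa [ix_inl, if_neg zero_ne_one'] at this
    have h2 : Mv Φ (A.φ A.p1) (.inr 1) (.inl 1) := by
      have := A.mv_p1 (.inr 1)
      rwa [ix_inr, if_pos rfl, Sum.swap_inr] at this
    exact (A.cnj_XP A.p1_mem_N h1 h2).le (conj_mem_cnj (A.tv_mem_XP zero_ne_one' _))
  have eC : ∀ s, mk (Cw s) = A.cc 1 1 s := fun s => by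
    show mk ⁅Mw 1, Plus s⁆ = _
    rw [map_commutatorElement, eM, eP]
    rfl
  have eK : mk Kw = A.kk ω := by
    show mk (Pw * lw _ * Pw⁻¹) = _
    rw [map_mul, map_mul, map_inv, hρw, A.kk_apply]
  have eD : mk Dw = A.dd ω := by
    show mk (lw _ * Kw) = _
    rw [map_mul, hρw, eK]
    rfl
  have eU1 : mk U1w = A.uone u := by
    show mk (W * wu * W⁻¹) = _
    rw [map_mul, map_mul, map_inv, hρw]
    rfl
  have eUb : mk Ubw = ρ (h01 0 ω) * u * (ρ (h01 0 ω))⁻¹ := by
    show mk (lw _ * wu * (lw _)⁻¹) = _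
    rw [map_mul, map_mul, map_inv, hρw]
  have eU : ∀ a, mk (Uw a) = A.Uel u a := fun a => by
    by_cases h : a = 0
    · simp [Uw, Base.Uel, h]
    · simp only [Uw, Base.Uel, dif_neg h, H, map_mul, map_inv, hρw]
      rfl
  have hz : ∃ f : F, C.σ f = f ∧ ρ (h01 0 ω) * A.cc 1 1 (C.σ ω) * (ρ (h01 0 ω))⁻¹ =
      A.cc 1 1 (f * C.σ ω) := by
    refine ⟨(ω : F) * C.σ ω, by rw [map_mul, C.invol, mul_comm], ?_⟩
    simp only [H, Z0w, map_mul, map_inv, hρw, eC, mul_inv_eq_one] at hHZ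
    exact hHZ
  have hc11 : A.cc 1 1 1 = 1 := by rw [← eC]; exact hC1
  have hr8 : ∃ z ∈ A.Zs 1, p = p * z * p⁻¹ * z * (p * z * p⁻¹) := by
    refine ⟨_, A.cc_mem one_ne 1 (θ / c), ?_⟩
    simp only [map_mul, map_inv, ← hp, eC, mul_inv_eq_one] at hR8
    exact hR8
  obtain ⟨R2, hRρ, hRp, hRu, hRφ⟩ : ∃ R2 : Full2 Φ G, R2.ρ = ρ ∧ R2.p = p ∧ R2.u = u ∧ R2.φ = φ := by
    have hφu : φ u = qEl Φ (.inl 0) (eps Φ) γ1 := by rw [hu, hφmk, hwuv]
    have hu0 : eps Φ = 0 → u = 1 := fun h => by rw [hu, hwu0 h, map_one]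
    rcases eps_cases Φ with he | he
    · have hrelA : ∀ r ∈ La, mk r = 1 := fun r hr =>
        hrel r (List.mem_append_right _ (by rw [if_pos he]; exact hr))
      simp only [La, List.forall_mem_cons, List.not_mem_nil, false_implies, implies_true, and_true] at hrelA
      obtain ⟨h1, h2, h3, h4, h5, h6, h7⟩ := hrelA
      simp only [Z1X, Z1w, Z0w, W, map_mul, map_inv, map_commutatorElement, eC, eM, eQ, eD, eP, hρw,
        commutatorElement_eq_one_iff_commute, mul_inv_eq_one] at h1 h2 h3 h4 h5 h6 h7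
      have u1e : A.uone u = 1 := by rw [Base.uone, hu0 he, mul_one, mul_inv_cancel]
      have Ue : ∀ a, A.Uel u a = 1 := fun a => by
        unfold Base.Uel
        split_ifs with h
        · rfl
        · rw [hu0 he, mul_one, mul_inv_cancel]
      let Z : Z2 Φ G :=
        { toBase := A, ω := ω, hgen := hgen, c11 := hc11, z0x1 := h1, z0xb := h2, z0q := h3, z0D := h4, hz := hz }
      let U : U2 Φ G :=
        { toZ2 := Z, u := u, γ1 := γ1, hv1 := hv, hφu := hφu, hu0 := hu0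
          u_x1 := by rw [hu0 he]; exact Commute.one_left _
          u_xb := by rw [hu0 he]; exact Commute.one_left _
          u_q := by rw [hu0 he]; exact Commute.one_left _
          u_D := by rw [hu0 he]; exact Commute.one_left _
          r9 := by rw [u1e, hu0 he]; simp [one_mem]
          r9' := by rw [u1e, hu0 he]; simp [one_mem]
          sq := ⟨f1, g1, hf1, hg1, 1, one_mem _, by rw [Ue, Ue, Ue, mul_one, mul_one]⟩
          uu := by rw [u1e]; simp [one_mem]
          uu' := by rw [u1e]; simp [one_mem]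
          z0u1 := by rw [u1e]; exact Commute.one_right _
          r8 := hr8 }
      have hW : ∀ r s, A.cc 1 1 s * A.el (.inl 1) r ∈ U.W := fun r s =>
        mul_mem (U.Z_le_W (A.cc_mem one_ne 1 s)) (U.P_le_W (A.el_mem (d := .inl 1) one_ne r))
      let R2 : Full2 Φ G :=
        { toU2 := U
          z0z1 := h5
          z1x1 := (congrArg (· ∈ U.W) h6).mpr (hW _ _)
          z1xb := (congrArg (· ∈ U.W) h7).mpr (hW _ _) }
      exact ⟨R2, rfl, rfl, rfl, rfl⟩
    · have hrelB : ∀ r ∈ Lb, mk r = 1 := fun r hr =>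
        hrel r (List.mem_append_right _ (by rw [if_neg (by rw [he]; exact one_ne_zero)]; exact hr))
      simp only [Lb, List.forall_mem_cons, List.not_mem_nil, false_implies, implies_true, and_true] at hrelB
      obtain ⟨h1, h2, h3, h4, h5, h6, h7, h8, h9, h10⟩ := hrelB
      simp only [Z0w, map_mul, map_inv, map_commutatorElement, eC, eM, eQ, eD, eP, eU1, eUb, eU, ← hu,
        commutatorElement_eq_one_iff_commute, mul_inv_eq_one] at h1 h2 h3 h4 h5 h6 h7 h8 h9 h10
      have hP : ∀ r, A.el (.inl 1) r ∈ A.XP (.inl 0) (.inl 1) := fun r => A.el_mem (d := .inl 1) one_ne r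
      have huu := (congrArg (· ∈ A.XP (.inl 0) (.inl 1)) h8).mpr (hP _)
      have huu' := (congrArg (· ∈ A.XP (.inl 0) (.inl 1)) h9).mpr (hP _)
      obtain ⟨k1, k2, k3, k4, k5⟩ := A.short_z0 hb hgen h1 h2 h3 h4 huu huu' h10
      let Z : Z2 Φ G :=
        { toBase := A, ω := ω, hgen := hgen, c11 := hc11, z0x1 := k1, z0xb := k2, z0q := k3, z0D := k4, hz := hz }
      let U : U2 Φ G :=
        { toZ2 := Z, u := u, γ1 := γ1, hv1 := hv, hφu := hφu, hu0 := hu0
          u_x1 := h1, u_xb := h2, u_q := h3, u_D := h4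
          r9 := (congrArg (· ∈ A.XP (.inl 0) (.inl 1)) h5).mpr (hP _)
          r9' := (congrArg (· ∈ A.XP (.inl 0) (.inl 1)) h6).mpr (hP _)
          sq := ⟨f1, g1, hf1, hg1, _, A.cc_mem one_ne 1 (f3 * b), by
            rw [← inv_mul_eq_iff_eq_mul]; exact h7⟩
          uu := huu, uu' := huu', z0u1 := k5, r8 := hr8 }
      obtain ⟨z1, z2⟩ := U.z1_facts h10
      let R2 : Full2 Φ G :=
        { toU2 := U
          z0z1 := z1
          z1x1 := z2 _ (A.el_mem (d := .inr 1) one_ne 1)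
          z1xb := z2 _ (A.el_mem (d := .inr 1) one_ne _) }
      exact ⟨R2, rfl, rfl, rfl, rfl⟩
  have hsurj : Function.Surjective φ := by
    rw [← MonoidHom.range_eq_top]
    refine eq_top_gen hι hc hc0 hv (fun M => ⟨ρ M, hφρ M⟩) ⟨p, by rw [hp, hφmk, vP]⟩ ⟨u, by rw [hu, hφmk, hwuv]⟩
  have hinj : Function.Injective φ := by
    rw [← hRφ]
    refine R2.injective (eq_top_iff.2 ?_)
    rw [hRρ, hRp, hRu, ← PresentedGroup.closure_range_of, Subgroup.closure_le]
    rintro _ ⟨j, rfl⟩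
    refine Fin.addCases (fun i => ?_) (fun i => ?_) j
    · refine Subgroup.mem_sup_left (Subgroup.mem_sup_left ⟨eS (PresentedGroup.of i), ?_⟩)
      show PresentedGroup.toGroup hrelS (eS.symm (eS (PresentedGroup.of i))) = _
      rw [MulEquiv.symm_apply_apply, PresentedGroup.toGroup.of]
      rfl
    · have : (PresentedGroup.of (Fin.natAdd g i) : G) = p * u := by
        rw [Subsingleton.elim i 0, hpn, inv_mul_cancel_right]
        rfl
      rw [SetLike.mem_coe, this]
      exact mul_mem (Subgroup.mem_sup_left (Subgroup.mem_sup_right (Subgroup.mem_zpowers _)))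
        (Subgroup.mem_sup_right (Subgroup.mem_zpowers _))
  exact ⟨MulEquiv.ofBijective φ ⟨hinj, hsurj⟩⟩

end CfsgLib.SUPres
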