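import Cfsg.Agent.SUPres.LeviComm

/-!
# Root groups of one index, and all commutator rules
-/

set_option autoImplicit false
set_option linter.unusedSectionVars false
set_option linter.unusedSimpArgs false

namespace CfsgLib.SUPres

open Matrix CfsgLib.RepBounds.Unit CfsgLib.SUThreeUnipotent CfsgLib.SUTwoGen CfsgLib.SL2Pres CfsgLib.SLnPres
open scoped commutatorElement

section Inj

variable {G H : Type*} [Group G] [Group H] (φ : G →* H)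

/-- `φ` is injective on the subgroup. -/
def InjOn' (W : Subgroup G) : Prop := ∀ x ∈ W, φ x = 1 → x = 1

variable {φ}

theorem InjOn'.mem {W A : Subgroup G} (hW : InjOn' φ W) (hA : A ≤ W) {x : G} (hx : x ∈ W)
    (h : φ x ∈ A.map φ) : x ∈ A := by
  obtain ⟨a, ha, e⟩ := h
  have := hW (x * a⁻¹) (mul_mem hx (inv_mem (hA ha))) (by rw [map_mul, map_inv, e, mul_inv_cancel])
  rw [mul_inv_eq_one] at this
  rwa [this]

theorem InjOn'.ext {W : Subgroup G} (hW : InjOn' φ W) {x y : G} (hx : x ∈ W) (hy : y ∈ W) (h : φ x = φ y) :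
    x = y := by
  rw [← mul_inv_eq_one]
  exact hW _ (mul_mem hx (inv_mem hy)) (by rw [map_mul, map_inv, h, mul_inv_cancel])

theorem InjOn'.mono {W A : Subgroup G} (hW : InjOn' φ W) (hA : A ≤ W) : InjOn' φ A := fun x hx => hW x (hA hx)

theorem injOn_sup {A B : Subgroup G} (hc : A ≤ Subgroup.normalizer (B : Set G)) (hA : InjOn' φ A) (hB : InjOn' φ B)
    (hd : ∀ a ∈ A, ∀ b ∈ B, φ a = φ b → φ a = 1) : InjOn' φ (A ⊔ B) := by
  intro x hx h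
  obtain ⟨a, ha, b, hb, rfl⟩ := exists_mul_of_sup hc hx
  rw [map_mul] at h
  have h1 := hd a ha b⁻¹ (inv_mem hb) (by rw [map_inv]; exact eq_inv_of_mul_eq_one_left h)
  rw [h1, one_mul] at h
  rw [hA a ha h1, hB b hb h, one_mul]

theorem InjOn'.cnj {W : Subgroup G} (hW : InjOn' φ W) (n : G) : InjOn' φ (cnj n W) := by
  rintro _ ⟨y, hy, rfl⟩ h
  simp only [MulEquiv.coe_toMonoidHom, MulAut.conj_apply, map_mul, map_inv, conj_eq_one_iff] at h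
  rw [hW y hy h]
  simp

theorem normalizer_of_commutator_le {A B : Subgroup G} (h : ⁅A, B⁆ ≤ B) :
    A ≤ Subgroup.normalizer (B : Set G) :=
  le_normalizer_of_conj fun a ha b hb => by
    have := mul_mem (h (Subgroup.commutator_mem_commutator ha hb)) hb
    rwa [commutatorElement_def, inv_mul_cancel_right] at this

theorem commute_of_bot {A B : Subgroup G} (h : ⁅A, B⁆ = ⊥) {a b : G} (ha : a ∈ A) (hb : b ∈ B) : Commute a b := by
  rw [← commutatorElement_eq_one_iff_commute, ← Subgroup.mem_bot, ← h]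
  exact Subgroup.commutator_mem_commutator ha hb

end Inj

variable {F : Type*} [Field F] [Fintype F] {C : ConjField F} {ι : Type*} [Fintype ι] [DecidableEq ι] {k : ℕ}

theorem pEl_ne_qEl {Φ : PFrame C (k + 2) ι} {c e : SI (k + 2)} (h : ix c ≠ ix e) {r a γ : F} (hv : QV Φ a γ)
    (he : pEl Φ c e r = qEl Φ c a γ) : pEl Φ c e r = 1 := by
  obtain ⟨h1, h2⟩ := ne_of_ix h
  have := congrArg (fun g => herm C (app C g (Φ.v c.swap)) (Φ.v e.swap)) he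
  simp only [app_pEl h2, app_qEl hv, herm_add_left, herm_sub_left, herm_smul_left, herm_v1', Φ.vx, Φ.xv,
    herm_v1] at this
  rw [herm_v0 Φ (show e.swap ≠ c.swap.swap by rw [Sum.swap_swap]; exact fun x => h2 (by rw [← x, Sum.swap_swap])),
    herm_v0 Φ (show e.swap ≠ c.swap from fun x => h1 (by simpa using congrArg Sum.swap x)),
    herm_v0 Φ (show e ≠ c.swap.swap by rw [Sum.swap_swap]; exact h1)] at this
  simp at this
  rw [this, pEl_zero h2]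

/-- The data of the rank one root group at `0`. -/
structure QData (Φ : PFrame C (k + 2) ι) (G : Type*) [Group G] extends Base Φ G where
  Y : Subgroup G
  Y_inj : InjOn' φ Y
  Y_img : ∀ x ∈ Y, ∃ a γ, QV Φ a γ ∧ φ x = qEl Φ (.inl 0) a γ
  Y_surj : ∀ a γ, QV Φ a γ → ∃ x ∈ Y, φ x = qEl Φ (.inl 0) a γ
  Y_norm : ∀ n ∈ toBase.N, Mv Φ (φ n) (.inl 0) (.inl 0) → n ∈ Subgroup.normalizer (Y : Set G)
  cPP : ⁅toBase.XP (.inl 0) (.inr 1), toBase.XP (.inl 0) (.inl 1)⁆ ≤ Y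
  cPQa : ⁅toBase.XP (.inl 0) (.inr 1), Y⁆ = ⊥
  cPQb : ∀ i j : Fin (k + 2), i ≠ 0 → j ≠ 0 → i ≠ j → ∀ (t : F), ∀ y ∈ Y, Commute (ρ (tv i j t)) y
  cPQc : ⁅toBase.XP (.inl 0) (.inr 1), cnj (ρ (w01 k)) Y⁆ ≤ Y ⊔ toBase.XP (.inl 0) (.inl 1)
  cQQ : ⁅Y, cnj (ρ (w01 k)) Y⁆ ≤ toBase.XP (.inl 0) (.inl 1)
  span : Y ≤ ⁅toBase.XP (.inl 0) (.inr 1), cnj (ρ (w01 k)) Y⁆ ⊔ toBase.XP (.inl 0) (.inl 1) ⊔
    ⁅toBase.XP (.inl 0) (.inr 1), toBase.XP (.inl 0) (.inl 1)⁆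
  exch : ∃ z ∈ Y, ∃ δ : F, QV Φ 0 δ ∧ φ z = qEl Φ (.inl 0) 0 δ ∧ p = (p * z * p⁻¹) * z * (p * z * p⁻¹)

namespace QData

variable {Φ : PFrame C (k + 2) ι} {G : Type*} [Group G] (A : QData Φ G)

instance Y_finite : Finite A.Y := by
  classical
  choose f hf using fun x : A.Y => A.Y_img x x.2
  choose g hg using hf
  refine Finite.of_injective (fun x : A.Y => (f x, g x)) fun x y e => ?_
  have e1 := (hg x).2
  have e2 := (hg y).2
  simp only [Prod.mk.injEq] at e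
  rw [e.1, e.2, ← e2] at e1
  exact Subtype.ext (A.Y_inj.ext x.2 y.2 e1)

/-- The root group of one index. -/
def XQ (c : SI (k + 2)) : Subgroup G := ⨆ n ∈ A.N, ⨆ _ : Mv Φ (A.φ n) (.inl 0) c, cnj n A.Y

theorem XQ_eq {n : G} (hn : n ∈ A.N) {c : SI (k + 2)} (h : Mv Φ (A.φ n) (.inl 0) c) : A.XQ c = cnj n A.Y := by
  refine le_antisymm (iSup₂_le fun n' hn' => iSup_le fun h' => le_of_eq ?_) ?_
  · have key := A.Y_norm _ (mul_mem (inv_mem hn) hn') (by rw [map_mul, map_inv]; exact h.inv.mul h')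
    rw [show n' = n * (n⁻¹ * n') by group, cnj_mul, cnj_normalizer key]
  · exact le_trans (le_iSup (fun _ : Mv Φ (A.φ n) (.inl 0) c => cnj n A.Y) h)
      (le_iSup₂ (f := fun n (_ : n ∈ A.N) => ⨆ _ : Mv Φ (A.φ n) (.inl 0) c, cnj n A.Y) n hn)

theorem exists_send (c : SI (k + 2)) : ∃ n ∈ A.N, Mv Φ (A.φ n) (.inl 0) c := by
  obtain ⟨n, hn, hm⟩ := A.exists_move (l := 1) (by omega) ![c] (fun a b _ => Subsingleton.elim a b)
  exact ⟨n, hn, hm 0⟩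

theorem XQ_base : A.XQ (.inl 0) = A.Y := by
  rw [A.XQ_eq (one_mem A.N) (c := .inl 0) (by rw [map_one]; exact Mv.refl _), cnj_one]

theorem mv_w01 : Mv Φ (A.φ (A.ρ (w01 k))) (.inl 0) (.inl 1) := by
  simpa using A.mv_ρ (w01_mon (F := F) (k := k)) (.inl 0)

theorem XQ_one : A.XQ (.inl 1) = cnj (A.ρ (w01 k)) A.Y := A.XQ_eq (A.ρ_mem_N w01_mem) A.mv_w01

theorem cnj_XQ {n : G} (hn : n ∈ A.N) {c c' : SI (k + 2)} (h : Mv Φ (A.φ n) c c') :
    cnj n (A.XQ c) = A.XQ c' := by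
  obtain ⟨n0, hn0, h0⟩ := A.exists_send c
  rw [A.XQ_eq hn0 h0, ← cnj_mul, A.XQ_eq (mul_mem hn hn0)]
  rw [map_mul]; exact h.mul h0

theorem XQ_inj (c : SI (k + 2)) : InjOn' A.φ (A.XQ c) := by
  obtain ⟨n, hn, h⟩ := A.exists_send c
  rw [A.XQ_eq hn h]
  exact A.Y_inj.cnj n

theorem XP_injOn (c d : SI (k + 2)) : InjOn' A.φ (A.XP c d) := fun _ hx h => A.XP_inj hx h

theorem XQ_image (c : SI (k + 2)) :
    (∀ x ∈ A.XQ c, ∃ a γ, QV Φ a γ ∧ A.φ x = qEl Φ c a γ) ∧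
      (∀ a γ, QV Φ a γ → ∃ x ∈ A.XQ c, A.φ x = qEl Φ c a γ) := by
  obtain ⟨n, hn, h⟩ := A.exists_send c
  obtain ⟨s, hs, e⟩ := h
  have hm := A.N_mono hn
  have hσ : C.σ s ≠ 0 := (map_ne_zero C.σ).2 hs
  have hξ : (1 : F) * C.σ 1 * eps Φ = eps Φ := by simp
  rw [A.XQ_eq hn ⟨s, hs, e⟩]
  refine ⟨?_, fun a γ hv => ?_⟩
  · rintro _ ⟨y, hy, rfl⟩
    obtain ⟨a, γ, hv, he⟩ := A.Y_img y hy
    refine ⟨C.σ s * a, γ * (s * C.σ s), by simpa using hv.scale (s := s) hξ, ?_⟩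
    simp only [MulEquiv.coe_toMonoidHom, MulAut.conj_apply, map_mul, map_inv, he]
    exact conj_qEl' hm e hv
  · have hv' : QV Φ ((C.σ s)⁻¹ * a) (γ * (s⁻¹ * C.σ s⁻¹)) := by
      simpa [map_inv₀] using hv.scale (s := s⁻¹) hξ
    obtain ⟨y, hy, he⟩ := A.Y_surj _ _ hv'
    refine ⟨_, conj_mem_cnj hy, ?_⟩
    rw [map_mul, map_mul, map_inv, he, conj_qEl' hm e hv', mul_inv_cancel_left₀ hσ, map_inv₀]
    congr 1
    field_simp

theorem XP_XQ_disj {c e : SI (k + 2)} (h : ix c ≠ ix e) :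
    ∀ a ∈ A.XP c e, ∀ b ∈ A.XQ c, A.φ a = A.φ b → A.φ a = 1 := fun a ha b hb hab => by
  obtain ⟨r, hr⟩ := (A.XP_image h).1 a ha
  obtain ⟨x, γ, hv, hq⟩ := (A.XQ_image c).1 b hb
  rw [hr, hq] at hab
  rw [hr, pEl_ne_qEl h hv hab]

/-- Two roots of two indices adding up to a root of one index. -/
theorem comm_PP {c d : SI (k + 2)} (h : ix c ≠ ix d) : ⁅A.XP c d, A.XP c d.swap⁆ ≤ A.XQ c := by
  obtain ⟨n, hn, h0, h1⟩ := A.exists_sends h
  rw [← A.cnj_XP hn h0 h1, ← A.cnj_XP hn h0 (show Mv Φ (A.φ n) (.inl 1) d.swap from (A.N_mono hn).swap h1),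
    A.XQ_eq hn h0, ← cnj_commutator]
  exact cnj_mono A.cPP

theorem comm_PQa {c d : SI (k + 2)} (h : ix c ≠ ix d) : ⁅A.XP c d, A.XQ c⁆ = ⊥ := by
  obtain ⟨n, hn, h0, h1⟩ := A.exists_sends h
  rw [← A.cnj_XP hn h0 h1, A.XQ_eq hn h0, ← cnj_commutator, A.cPQa, cnj_bot]

theorem comm_PQb {c d e : SI (k + 2)} (hcd : ix c ≠ ix d) (hce : ix c ≠ ix e) (hde : ix d ≠ ix e) :
    ⁅A.XP c d, A.XQ e⁆ = ⊥ := by
  obtain ⟨i, j, l, n, rfl, hn, hij, hil, hjl, he, hc, hd⟩ := A.exists_move3 (c := e) (d := c) (e := d.swap)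
    (Ne.symm hce) (by simpa using Ne.symm hde) (by simpa using hcd)
  have hd' : Mv Φ (A.φ n) (.inr l) d := by simpa using (A.N_mono hn).swap hd
  rw [← A.cnj_XP hn hc hd', A.XQ_eq hn he, ← cnj_commutator]
  refine le_bot_iff.1 ((cnj_mono (Subgroup.commutator_le.2 fun x hx y hy => ?_)).trans (cnj_bot n).le)
  obtain ⟨t, rfl⟩ := A.XP_levi hjl hx
  rw [Subgroup.mem_bot, commutatorElement_eq_one_iff_commute]
  exact A.cPQb j l hij.symm hil.symm hjl t y hy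

theorem comm_PQc {c d : SI (k + 2)} (h : ix c ≠ ix d) :
    ⁅A.XP c d, A.XQ d.swap⁆ ≤ A.XQ c ⊔ A.XP c d.swap := by
  obtain ⟨n, hn, h0, h1⟩ := A.exists_sends h
  have h1' : Mv Φ (A.φ n) (.inl 1) d.swap := (A.N_mono hn).swap h1
  rw [← A.cnj_XP hn h0 h1, ← A.cnj_XQ hn h1', A.XQ_one, ← A.cnj_XP hn h0 h1', A.XQ_eq hn h0, ← cnj_commutator,
    ← cnj_sup]
  exact cnj_mono A.cPQc

theorem comm_QQ {c e : SI (k + 2)} (h : ix c ≠ ix e) : ⁅A.XQ c, A.XQ e⁆ ≤ A.XP c e := by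
  obtain ⟨n, hn, h0, h1⟩ := A.exists_sends (c := c) (d := e.swap) (by simpa using h)
  have h1' : Mv Φ (A.φ n) (.inl 1) e := by simpa using (A.N_mono hn).swap h1
  rw [← A.cnj_XQ hn h1', A.XQ_one, ← A.cnj_XP hn h0 h1', A.XQ_eq hn h0, ← cnj_commutator]
  exact cnj_mono A.cQQ

/-- `XQ c` is spanned by commutators. -/
theorem XQ_le_span {c d : SI (k + 2)} (h : ix c ≠ ix d) :
    A.XQ c ≤ ⁅A.XP c d, A.XQ d.swap⁆ ⊔ A.XP c d.swap ⊔ ⁅A.XP c d, A.XP c d.swap⁆ := by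
  obtain ⟨n, hn, h0, h1⟩ := A.exists_sends h
  have h1' : Mv Φ (A.φ n) (.inl 1) d.swap := (A.N_mono hn).swap h1
  rw [← A.cnj_XP hn h0 h1, ← A.cnj_XQ hn h1', A.XQ_one, ← A.cnj_XP hn h0 h1', A.XQ_eq hn h0, ← cnj_commutator,
    ← cnj_commutator, ← cnj_sup, ← cnj_sup]
  exact cnj_mono A.span

theorem injOn_XP_XQ {c e : SI (k + 2)} (h : ix c ≠ ix e) : InjOn' A.φ (A.XP c e ⊔ A.XQ c) :=
  injOn_sup (normalizer_of_commutator_le ((A.comm_PQa h).le.trans bot_le)) (A.XP_injOn c e) (A.XQ_inj c)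
    (A.XP_XQ_disj h)

end QData

end CfsgLib.SUPres
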