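import Cfsg.Agent.SUPres.DiagEl

/-!
# The rank one identities in the amalgam and the torus `H`
-/

set_option autoImplicit false
set_option linter.unusedSectionVars false
set_option linter.unusedSimpArgs false

namespace CfsgLib.SUPres

open Matrix CfsgLib.RepBounds.Unit CfsgLib.SUThreeUnipotent CfsgLib.SUTwoGen CfsgLib.SL2Pres CfsgLib.SLnPres
open CfsgLib.SpnPres (IsMon)

variable {F : Type*} [Field F] [Fintype F] {C : ConjField F} {ι : Type*} [Fintype ι] [DecidableEq ι] {k : ℕ}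

theorem exists_cls_gen (C : ConjField F) : ∃ g : Fˣ, (g : F) ≠ 1 ∧ (g : F) * C.σ g = 1 ∧
    ∀ x : F, x * C.σ x = 1 → ∃ j : ℕ, j < orderOf g ∧ (g : F) ^ j = x := by
  classical
  let nm : Fˣ →* Fˣ := (MonoidHom.id Fˣ) * Units.map (C.σ : F →* F)
  have hmem : ∀ x : Fˣ, x ∈ nm.ker ↔ (x : F) * C.σ x = 1 := fun x => by
    rw [MonoidHom.mem_ker, Units.ext_iff]; rfl
  obtain ⟨g, hg⟩ := IsCyclic.exists_generator (α := nm.ker)
  have hgen : ∀ x : F, x * C.σ x = 1 → ∃ j : ℕ, j < orderOf (g : Fˣ) ∧ ((g : Fˣ) : F) ^ j = x := by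
    intro x hx
    have hx0 : x ≠ 0 := by rintro rfl; simp at hx
    obtain ⟨n, hn⟩ := mem_powers_iff_mem_zpowers.2 (hg ⟨Units.mk0 x hx0, (hmem _).2 hx⟩)
    refine ⟨n % orderOf (g : Fˣ), Nat.mod_lt _ (orderOf_pos _), ?_⟩
    rw [← Units.val_pow_eq_pow_val, pow_mod_orderOf]
    have hn' : (g : Fˣ) ^ n = Units.mk0 x hx0 := by simpa using congrArg Subtype.val hn
    rw [hn', Units.val_mk0]
  refine ⟨g, fun h1 => ?_, (hmem _).1 g.2, hgen⟩
  obtain ⟨x, hx⟩ : ∃ x, C.σ x ≠ x := by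
    by_contra h
    push Not at h
    exact C.ne_id (RingHom.ext h)
  have hx0 : x ≠ 0 := by rintro rfl; simp at hx
  have hσ : C.σ x ≠ 0 := (map_ne_zero C.σ).2 hx0
  obtain ⟨j, -, hj⟩ := hgen (C.σ x / x) (by rw [map_div₀, C.invol]; field_simp)
  rw [h1, one_pow, eq_div_iff hx0, one_mul] at hj
  exact hx hj.symm

theorem QV.exists_of_cls {Φ : PFrame C (k + 2) ι} {z : F} (hz : z * C.σ z = 1) (hz1 : z ≠ 1) (a : F) :
    ∃ γ, QV Φ a γ ∧ (a * C.σ a * eps Φ ≠ 0 → cls C γ = z ∧ γ ≠ 0) := by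
  have h1 : 1 - z ≠ 0 := sub_ne_zero.2 (Ne.symm hz1)
  have hz0 : z ≠ 0 := by rintro rfl; simp at hz
  have hσz : C.σ z = z⁻¹ := eq_inv_of_mul_eq_one_right hz
  set N := a * C.σ a * eps Φ with hN
  have hNf : C.σ N = N := by rw [hN, map_mul, map_mul, C.invol, σ_eps]; ring
  have hσγ : C.σ (-N / (1 - z)) = z * N / (1 - z) := by
    rw [map_div₀, map_neg, hNf, map_sub, map_one, hσz]
    field_simp
    ring
  refine ⟨-N / (1 - z), ?_, fun hN0 => ?_⟩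
  · show _ + _ + N = 0
    rw [hσγ]; field_simp; ring
  · have hne : -N / (1 - z) ≠ 0 := div_ne_zero (neg_ne_zero.2 hN0) h1
    refine ⟨?_, hne⟩
    rw [cls, hσγ]; field_simp

theorem QV.split {Φ : PFrame C (k + 2) ι} {a γ γ' : F} (h : QV Φ a γ) (h' : QV Φ a γ') : QV Φ 0 (γ' - γ) := by
  rw [qv_zero_iff, map_sub]
  unfold QV at *
  linear_combination h' - h

namespace QData

variable {Φ : PFrame C (k + 2) ι} {G : Type*} [Group G] (A : QData Φ G)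

/-- The rank one identity for `x` with torus part `h`. -/
def Good (x h : G) : Prop := ∃ x' ∈ A.Y, ∃ x'' ∈ A.Y, A.p * x * A.p⁻¹ = x' * A.p * h * x''

theorem TP_norm_Y {t : G} (ht : t ∈ A.TP) : t ∈ Subgroup.normalizer (A.Y : Set G) :=
  A.Y_norm t (A.TP_le_N ht) ((A.TP_diag ht).2 _)

theorem conj_Y {t x : G} (ht : t ∈ A.TP) (hx : x ∈ A.Y) : t * x * t⁻¹ ∈ A.Y :=
  (Subgroup.mem_normalizer_iff.1 (A.TP_norm_Y ht) x).1 hx

/-- The torus parts used for comparing. -/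
def IsTorus (h : G) : Prop := IsDiag Φ (A.φ h) ∧ (∀ y ∈ A.Y, h * y * h⁻¹ ∈ A.Y) ∧
  (∀ t ∈ A.TP, Commute h t) ∧ A.p * h * A.p⁻¹ * h⁻¹ ∈ A.TP

theorem good_T {x h : G} {a γ : F} (hv : QV Φ a γ) (h0 : γ ≠ 0) (hxi : A.φ x = qEl Φ (.inl 0) a γ)
    (hh : ∀ d, Mv Φ (A.φ h) d d) {x' x'' : G} (hx' : x' ∈ A.Y) (hx'' : x'' ∈ A.Y)
    (e : A.p * x * A.p⁻¹ = x' * A.p * h * x'') :
    A.φ x' = qEl Φ (.inl 0) (rA A.c a γ) (rG A.c γ) ∧
      A.φ x'' = qEl Φ (.inl 0) (rA' C A.c a γ) (rG A.c γ) := by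
  obtain ⟨b, δ, hbδ, he'⟩ := A.Y_img x' hx'
  obtain ⟨b', δ', hbδ', he''⟩ := A.Y_img x'' hx''
  obtain ⟨q1, q2⟩ := qv_rA A.hc A.hc0 hv h0
  obtain ⟨t1, t2, -, t4⟩ := rankOne_T A.hc A.hc0 hv h0
  have e1 := congrArg A.φ e
  simp only [map_mul, map_inv, A.hφp, hxi, he', he''] at e1
  set t := (flipEl Φ A.c 0)⁻¹ * (qEl Φ (.inl 0) (rA A.c a γ) (rG A.c γ))⁻¹ *
      (flipEl Φ A.c 0 * qEl Φ (.inl 0) a γ * (flipEl Φ A.c 0)⁻¹) * (qEl Φ (.inl 0) (rA' C A.c a γ) (rG A.c γ))⁻¹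
    with ht
  have htd : ∀ d, Mv Φ t d d := fun d => by
    by_cases hd : ix d = 0
    · rcases d with j | j <;> simp only [ix_inl, ix_inr] at hd <;> subst hd
      · exact Mv.intro t1
      · exact Mv.intro t2
    · exact Mv.intro (a := 1) (by rw [one_smul]; exact t4 d hd)
  have e2 : flipEl Φ A.c 0 * qEl Φ (.inl 0) a γ * (flipEl Φ A.c 0)⁻¹ =
      qEl Φ (.inl 0) (rA A.c a γ) (rG A.c γ) * flipEl Φ A.c 0 * t * qEl Φ (.inl 0) (rA' C A.c a γ) (rG A.c γ) := by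
    rw [ht]; group
  obtain ⟨u1, u2⟩ := rankOne_unique A.hc A.hc0 hbδ hbδ' q1 q2 hh htd (e1.symm.trans e2)
  exact ⟨he'.trans u1, he''.trans u2⟩

theorem good_unique {x h h' : G} (_hx : x ∈ A.Y) (hh : ∀ d, Mv Φ (A.φ h) d d) (hh' : ∀ d, Mv Φ (A.φ h') d d)
    {a γ : F} (hv : QV Φ a γ) (h0 : γ ≠ 0) (hxi : A.φ x = qEl Φ (.inl 0) a γ) (g : A.Good x h) (g' : A.Good x h') :
    h = h' := by
  obtain ⟨x', hx', x'', hx'', e⟩ := g
  obtain ⟨y', hy', y'', hy'', e'⟩ := g'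
  obtain ⟨a1, a2⟩ := A.good_T hv h0 hxi hh hx' hx'' e
  obtain ⟨b1, b2⟩ := A.good_T hv h0 hxi hh' hy' hy'' e'
  rw [A.Y_inj.ext hx' hy' (a1.trans b1.symm), A.Y_inj.ext hx'' hy'' (a2.trans b2.symm), e'] at e
  simpa using e.symm

theorem good_torus {x h t : G} (hh : ∀ s ∈ A.TP, Commute h s) (ht : t ∈ A.TP) (g : A.Good x h) :
    A.Good (t * x * t⁻¹) (h * (t * (A.p * t * A.p⁻¹)⁻¹)) := by
  obtain ⟨x', hx', x'', hx'', e⟩ := g
  set t1 := A.p * t * A.p⁻¹ with ht1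
  have h1 : t1 ∈ A.TP := A.p_norm_TP ht
  refine ⟨t1 * x' * t1⁻¹, A.conj_Y h1 hx', t1 * x'' * t1⁻¹, A.conj_Y h1 hx'', ?_⟩
  calc A.p * (t * x * t⁻¹) * A.p⁻¹ = t1 * (A.p * x * A.p⁻¹) * t1⁻¹ := by rw [ht1]; group
    _ = t1 * (x' * A.p * h * x'') * t1⁻¹ := by rw [e]
    _ = t1 * x' * t1⁻¹ * (A.p * (t * h) * t1⁻¹) * (t1 * x'' * t1⁻¹) := by rw [ht1]; group
    _ = _ := by rw [← (hh t ht).eq]; group

theorem good_long {x : G} (hx : x ∈ A.Y) {γ : F} (hv : QV Φ 0 γ) (h0 : γ ≠ 0)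
    (hxi : A.φ x = qEl Φ (.inl 0) 0 γ) : ∃ t ∈ A.TP, A.Good x t := by
  obtain ⟨z, hz, δ, hδ, hzφ, e⟩ := A.exch
  have hδ0 : δ ≠ 0 := by
    rintro rfl
    rw [qEl_zero] at hzφ
    rw [A.Y_inj z hz hzφ] at e
    have h1 := A.mv_p0 (.inl 0) rfl
    rw [e] at h1
    simp only [mul_one, mul_inv_cancel, map_one] at h1
    exact swap_ne _ (h1.unique (Mv.refl _))
  set w := A.p * z * A.p⁻¹ with hw
  have base : A.Good z 1 := by
    refine ⟨A.p * A.p * z⁻¹ * (A.p * A.p)⁻¹, A.conj_Y A.psq_mem (inv_mem hz), z⁻¹, inv_mem hz, ?_⟩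
    have e' : A.p = w * z * w := e
    have e1 : w = A.p * w⁻¹ * z⁻¹ := by
      conv_rhs => rw [e']
      group
    have e2 : w⁻¹ = A.p * z⁻¹ * A.p⁻¹ := by rw [hw]; group
    show w = _
    rw [e1, e2]; group
  obtain ⟨b, hb⟩ := CfsgLib.Forms.exists_mul_involution_eq C.ne_id C.invol (c := γ / δ)
    (by rw [map_div₀, qv_zero_iff.1 hv, qv_zero_iff.1 hδ, neg_div_neg_eq])
  have hb0 : b ≠ 0 := by
    rintro rfl
    rw [zero_mul, eq_comm, div_eq_zero_iff] at hb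
    rcases hb with hb | hb
    · exact h0 hb
    · exact hδ0 hb
  set t := A.ρ (h01 k (Units.mk0 b hb0)) with ht
  have htm : t ∈ A.TP := A.ρ_mem_TP (h01_mem _)
  have es : app C (A.φ t) (Φ.v (.inl 0)) = b • Φ.v (.inl 0) := by
    rw [ht, A.hφρ, lev_mon_inl (h01_mon _)]; simp
  have ex : x = t * z * t⁻¹ := by
    refine A.Y_inj.ext hx (A.conj_Y htm hz) ?_
    rw [hxi, map_mul, map_mul, map_inv, hzφ, conj_qEl' (A.TP_diag htm).1 es hδ, mul_zero, hb,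
      mul_div_cancel₀ _ hδ0]
  have := A.good_torus (fun s hs => Commute.one_left s) htm base
  rw [← ex, one_mul] at this
  exact ⟨_, mul_mem htm (inv_mem (A.p_norm_TP htm)), this⟩

theorem good_class {x y h : G} (hh : ∀ s ∈ A.TP, Commute h s) {a γ a' γ' : F}
    (hv : QV Φ a γ) (h0 : γ ≠ 0) (hv' : QV Φ a' γ') (h0' : γ' ≠ 0) (hc : cls C γ = cls C γ') (h1 : cls C γ ≠ 1)
    (hx : x ∈ A.Y) (hxi : A.φ x = qEl Φ (.inl 0) a γ) (hy : y ∈ A.Y) (hyi : A.φ y = qEl Φ (.inl 0) a' γ')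
    (g : A.Good x h) : ∃ t ∈ A.TP, A.Good y (h * t) := by
  have e1 := hv.mul_sub_cls h0
  have e2 := hv'.mul_sub_cls h0'
  rw [← hc] at e2
  have hs : 1 - cls C γ ≠ 0 := sub_ne_zero.2 (Ne.symm h1)
  have hNa : a * C.σ a * eps Φ ≠ 0 := fun h => by
    rw [h, neg_zero] at e1
    exact mul_ne_zero h0 hs e1
  have hNa' : a' * C.σ a' * eps Φ ≠ 0 := fun h => by
    rw [h, neg_zero] at e2
    exact mul_ne_zero h0' hs e2
  have ha : a ≠ 0 := by rintro rfl; simp at hNa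
  have ha' : a' ≠ 0 := by rintro rfl; simp at hNa'
  have hσa : C.σ a ≠ 0 := (map_ne_zero C.σ).2 ha
  have hσa' : C.σ a' ≠ 0 := (map_ne_zero C.σ).2 ha'
  set b := C.σ (a' / a) with hbdef
  have hb0 : b ≠ 0 := (map_ne_zero C.σ).2 (div_ne_zero ha' ha)
  set t := A.ρ (h01 k (Units.mk0 b hb0)) with ht
  have htm : t ∈ A.TP := A.ρ_mem_TP (h01_mem _)
  have es : app C (A.φ t) (Φ.v (.inl 0)) = b • Φ.v (.inl 0) := by
    rw [ht, A.hφρ, lev_mon_inl (h01_mon _)]; simp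
  have hγ' : γ * (b * C.σ b) = γ' := by
    refine mul_right_cancel₀ hs ?_
    rw [mul_right_comm, e1, e2, hbdef, C.invol, map_div₀]
    field_simp
  have ey : y = t * x * t⁻¹ := by
    refine A.Y_inj.ext hy (A.conj_Y htm hx) ?_
    rw [hyi, map_mul, map_mul, map_inv, hxi, conj_qEl' (A.TP_diag htm).1 es hv, hγ', hbdef, C.invol,
      div_mul_cancel₀ _ ha]
  have := A.good_torus hh htm g
  rw [← ey] at this
  exact ⟨_, mul_mem htm (inv_mem (A.p_norm_TP htm)), this⟩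

theorem isTorus_of_diag {E : G} (hE : E ∈ A.M0) (hd : IsDiag Φ (A.φ E)) : A.IsTorus E := by
  refine ⟨hd, fun y hy => ?_, fun t ht => A.diag_comm_TP hE hd ht, ?_⟩
  · rw [← A.XQ_base] at hy ⊢; exact A.diag_norm_Q hE hd _ hy
  · obtain ⟨t, ht, e⟩ := A.diag_p hE hd
    have : A.p * E * A.p⁻¹ * E⁻¹ = t⁻¹ := by
      rw [show A.p * E * A.p⁻¹ * E⁻¹ = A.p * (E * A.p * E⁻¹)⁻¹ * 1 by group, e]; group
    rw [this]; exact inv_mem ht

/-- The torus generated by the first torus and one element. -/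
def HD (D : G) : Subgroup G := A.TP ⊔ Subgroup.zpowers D

variable {D : G}

theorem mem_HD (hD : A.IsTorus D) {x : G} (hx : x ∈ A.HD D) : ∃ j : ℤ, ∃ t ∈ A.TP, x = D ^ j * t := by
  have hn : Subgroup.zpowers D ≤ Subgroup.normalizer (A.TP : Set G) := by
    refine Subgroup.zpowers_le.2 (A.norm_of_conj fun t ht => ?_)
    rwa [(hD.2.2.1 t ht).eq, mul_inv_cancel_right]
  rw [HD, sup_comm] at hx
  obtain ⟨a, ⟨j, rfl⟩, b, hb, e⟩ := exists_mul_of_sup hn hx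
  exact ⟨j, b, hb, e⟩

theorem HD_norm_Y (hD : A.IsTorus D) : A.HD D ≤ Subgroup.normalizer (A.Y : Set G) := by
  refine sup_le (fun t ht => A.TP_norm_Y ht) (Subgroup.zpowers_le.2 ?_)
  rw [Subgroup.mem_normalizer_iff]
  exact fun x => (mem_normalizer_fin hD.2.1).symm

theorem HD_comm (hD : A.IsTorus D) {x y : G} (hx : x ∈ A.HD D) (hy : y ∈ A.HD D) : Commute x y := by
  obtain ⟨i, s, hs, rfl⟩ := A.mem_HD hD hx
  obtain ⟨j, t, ht, rfl⟩ := A.mem_HD hD hy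
  have c1 : ∀ (n : ℤ) (u : G), u ∈ A.TP → Commute (D ^ n) u := fun n u hu => (hD.2.2.1 u hu).zpow_left n
  exact ((Commute.refl D).zpow_zpow i j |>.mul_right (c1 i t ht)).mul_left
    ((c1 j s hs).symm.mul_right (A.TP_comm hs ht))

theorem HD_p (hD : A.IsTorus D) {x : G} (hx : x ∈ A.HD D) :
    A.p * x * A.p⁻¹ ∈ A.HD D ∧ A.p⁻¹ * x * A.p ∈ A.HD D := by
  have h1 : A.HD D ≤ (A.HD D).comap (MulAut.conj A.p).toMonoidHom := by
    refine sup_le (fun t ht => Subgroup.mem_sup_left (A.p_norm_TP ht)) (Subgroup.zpowers_le.2 ?_)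
    show A.p * D * A.p⁻¹ ∈ A.HD D
    rw [show A.p * D * A.p⁻¹ = A.p * D * A.p⁻¹ * D⁻¹ * D by group]
    exact mul_mem (Subgroup.mem_sup_left hD.2.2.2) (Subgroup.mem_sup_right (Subgroup.mem_zpowers D))
  refine ⟨h1 hx, ?_⟩
  rw [show A.p⁻¹ * x * A.p = (A.p * A.p)⁻¹ * (A.p * x * A.p⁻¹) * (A.p * A.p) by group]
  exact mul_mem (mul_mem (inv_mem (Subgroup.mem_sup_left A.psq_mem)) (h1 hx)) (Subgroup.mem_sup_left A.psq_mem)

theorem HD_diag (hD : A.IsTorus D) {x : G} (hx : x ∈ A.HD D) : ∀ d, Mv Φ (A.φ x) d d := by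
  intro d
  have : A.HD D ≤ ({ carrier := {x | Mv Φ (A.φ x) d d}
                     one_mem' := by show Mv Φ (A.φ 1) d d; rw [map_one]; exact Mv.refl d
                     mul_mem' := fun {a b} ha hb => by
                       show Mv Φ (A.φ (a * b)) d d
                       rw [map_mul]; exact Mv.mul ha hb
                     inv_mem' := fun {a} ha => by
                       show Mv Φ (A.φ a⁻¹) d d
                       rw [map_inv]; exact Mv.inv ha } : Subgroup G) :=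
    sup_le (fun t ht => (A.TP_diag ht).2 d) (Subgroup.zpowers_le.2 (hD.1.1 d))
  exact this hx

/-- One step of the loop. -/
theorem good_step (hD : A.IsTorus D) {x z : G} (hx : x ∈ A.Y) (hz : z ∈ A.Y) {a γ ζ : F} (hv : QV Φ a γ)
    (hζ : QV Φ 0 ζ) (h0 : γ ≠ 0) (hζ0 : ζ ≠ 0) (hxi : A.φ x = qEl Φ (.inl 0) a γ)
    (hzi : A.φ z = qEl Φ (.inl 0) 0 ζ) (hxz : γ + ζ ≠ 0) {h1 t2 : G} (hh1 : h1 ∈ A.HD D) (ht2 : t2 ∈ A.TP)
    (gx : A.Good x h1) (gz : A.Good z t2)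
    (hw : ∀ (w : G), w ∈ A.Y → ∀ b δ, QV Φ b δ → δ ≠ 0 → A.φ w = qEl Φ (.inl 0) b δ →
      cls C δ = cls C (γ + ζ) / cls C γ → ∃ d ∈ A.HD D, ∃ t ∈ A.TP, d = D * t ∧ A.Good w d) :
    ∃ t ∈ A.TP, A.Good (x * z) (h1 * D * t) := by
  obtain ⟨x', hx', x'', hx'', e⟩ := gx
  obtain ⟨z', hz', z'', hz'', f⟩ := gz
  obtain ⟨-, ex''⟩ := A.good_T hv h0 hxi (A.HD_diag hD hh1) hx' hx'' e
  obtain ⟨ez', -⟩ := A.good_T hζ hζ0 hzi (A.TP_diag ht2).2 hz' hz'' f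
  obtain ⟨-, q2⟩ := qv_rA A.hc A.hc0 hv h0
  obtain ⟨q3, -⟩ := qv_rA A.hc A.hc0 hζ hζ0
  have hwi := map_mul A.φ x'' z'
  rw [ex'', ez', qEl_mul q2 q3] at hwi
  have hζσ := qv_zero_iff.1 hζ
  have hσγ : C.σ γ ≠ 0 := (map_ne_zero C.σ).2 h0
  have hc0 := A.hc0
  have hz0 : rA A.c 0 ζ = 0 := by simp [rA]
  have hδ : rG A.c γ + rG A.c ζ - rA A.c 0 ζ * C.σ (rA' C A.c a γ) * eps Φ = -(γ + ζ) / (A.c ^ 2 * γ * ζ) := by
    rw [hz0, zero_mul, zero_mul, sub_zero, rG, rG]; field_simp; ring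
  have hδ0 : -(γ + ζ) / (A.c ^ 2 * γ * ζ) ≠ 0 :=
    div_ne_zero (neg_ne_zero.2 hxz) (mul_ne_zero (mul_ne_zero (pow_ne_zero 2 hc0) h0) hζ0)
  have hsum := q2.mul q3
  rw [hδ] at hwi hsum
  obtain ⟨d, hd, t, ht, rfl, gw⟩ := hw (x'' * z') (mul_mem hx'' hz') _ _ hsum hδ0 hwi (by
    simp only [cls, map_div₀, map_neg, map_mul, map_pow, map_add, A.hc, hζσ]
    field_simp)
  obtain ⟨w', hw', w'', hw'', g⟩ := gw
  set h1' := A.p * h1 * A.p⁻¹ with hh1'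
  have n1 : h1' ∈ Subgroup.normalizer (A.Y : Set G) := A.HD_norm_Y hD (A.HD_p hD hh1).1
  set s := A.p * A.p * t2 with hs
  have hsm : s ∈ A.TP := mul_mem A.psq_mem ht2
  refine ⟨t * s, mul_mem ht hsm, x' * (h1' * w' * h1'⁻¹),
    mul_mem hx' ((Subgroup.mem_normalizer_iff.1 n1 w').1 hw'), s⁻¹ * w'' * s * z'', mul_mem ?_ hz'', ?_⟩
  · have := A.conj_Y (inv_mem hsm) hw''
    rwa [inv_inv] at this
  calc A.p * (x * z) * A.p⁻¹ = (A.p * x * A.p⁻¹) * (A.p * z * A.p⁻¹) := by group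
    _ = x' * A.p * h1 * x'' * (z' * A.p * t2 * z'') := by rw [e, f]
    _ = x' * A.p * h1 * A.p⁻¹ * (A.p * (x'' * z') * A.p⁻¹) * A.p * A.p * t2 * z'' := by group
    _ = x' * A.p * h1 * A.p⁻¹ * (w' * A.p * (D * t) * w'') * A.p * A.p * t2 * z'' := by rw [g]
    _ = _ := by rw [hh1', hs]; group

theorem XP_finite (c d : SI (k + 2)) : Finite (A.XP c d) := by
  by_cases h : ix c = ix d
  · rw [A.XP_bot h]; infer_instance
  obtain ⟨n, hn, hs⟩ := A.exists_sends h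
  rw [A.XP_eq hn hs]
  exact Finite.of_equiv A.Y01 (Subgroup.equivMapOfInjective _ _ (MulAut.conj n).injective).toEquiv

theorem XQ_finite (c : SI (k + 2)) : Finite (A.XQ c) := by
  obtain ⟨n, hn, hs⟩ := A.exists_send c
  rw [A.XQ_eq hn hs]
  exact Finite.of_equiv A.Y (Subgroup.equivMapOfInjective _ _ (MulAut.conj n).injective).toEquiv

theorem N_norm_HD (hT : A.IsTorus D) (hD0 : D ∈ A.M0) (hDd : IsDiag Φ (A.φ D)) :
    A.N ≤ Subgroup.normalizer (A.HD D : Set G) := by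
  have hNTP : A.N ≤ Subgroup.normalizer (A.TP : Set G) := by
    refine sup_le ?_ (sup_le Subgroup.le_normalizer ((Subgroup.closure_le _).2 ?_))
    · rintro _ ⟨M, hM, rfl⟩; exact A.ρ_normalizer hM
    · rintro _ ⟨i, -, rfl⟩; exact A.pp_normalizer i
  have key : ∀ y ∈ A.N, y * D * y⁻¹ ∈ A.HD D → y⁻¹ * D * y ∈ A.HD D →
      y ∈ Subgroup.normalizer (A.HD D : Set G) := by
    intro y hy h1 h2
    have inc : ∀ y ∈ A.N, y * D * y⁻¹ ∈ A.HD D → ∀ x ∈ A.HD D, y * x * y⁻¹ ∈ A.HD D := by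
      intro y hy h1
      have hle : A.HD D ≤ (A.HD D).comap (MulAut.conj y).toMonoidHom :=
        sup_le (fun t ht => Subgroup.mem_sup_left ((Subgroup.mem_normalizer_iff.1 (hNTP hy) t).1 ht))
          (Subgroup.zpowers_le.2 h1)
      exact fun x hx => hle hx
    rw [Subgroup.mem_normalizer_iff]
    refine fun x => ⟨inc y hy h1 x, fun hx => ?_⟩
    have := inc y⁻¹ (inv_mem hy) (by rwa [inv_inv]) _ hx
    rwa [show y⁻¹ * (y * x * y⁻¹) * y⁻¹⁻¹ = x by group] at this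
  have hρ : ∀ M ∈ Mn (Fin (k + 2)) F, A.ρ M * D * (A.ρ M)⁻¹ ∈ A.HD D := by
    intro M hM
    obtain ⟨E, hE, e⟩ := A.diag_mon hD0 hDd hM
    have hx : A.ρ M * D * (A.ρ M)⁻¹ = (A.ρ M * (A.ρ E)⁻¹ * (A.ρ M)⁻¹) * D := by
      have e2 : A.ρ M * A.ρ E * D = D * A.ρ M := by rw [← e]; group
      rw [mul_inv_eq_iff_eq_mul]
      calc A.ρ M * D = A.ρ M * (A.ρ E)⁻¹ * (A.ρ E * D) := by group
        _ = A.ρ M * (A.ρ E)⁻¹ * ((A.ρ M)⁻¹ * (A.ρ M * A.ρ E * D)) := by group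
        _ = _ := by rw [e2]; group
    rw [hx, ← map_inv, ← map_inv, ← map_mul, ← map_mul]
    exact mul_mem (Subgroup.mem_sup_left (A.ρ_mem_TP (mn_normalizes_Dg hM (inv_mem hE))))
      (Subgroup.mem_sup_right (Subgroup.mem_zpowers D))
  have hρn : ∀ M ∈ Mn (Fin (k + 2)) F, A.ρ M ∈ Subgroup.normalizer (A.HD D : Set G) := fun M hM =>
    key _ (A.ρ_mem_N hM) (hρ M hM) (by simpa [map_inv] using hρ M⁻¹ (inv_mem hM))
  have hp : A.p ∈ Subgroup.normalizer (A.HD D : Set G) :=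
    key _ A.p_mem_N (A.HD_p hT (Subgroup.mem_sup_right (Subgroup.mem_zpowers D))).1
      (A.HD_p hT (Subgroup.mem_sup_right (Subgroup.mem_zpowers D))).2
  refine sup_le ?_ (sup_le (fun t ht => key t (A.TP_le_N ht) ?_ ?_) ((Subgroup.closure_le _).2 ?_))
  · rintro _ ⟨M, hM, rfl⟩; exact hρn M hM
  · exact mul_mem (mul_mem (Subgroup.mem_sup_left ht) (Subgroup.mem_sup_right (Subgroup.mem_zpowers D)))
      (inv_mem (Subgroup.mem_sup_left ht))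
  · exact mul_mem (mul_mem (inv_mem (Subgroup.mem_sup_left ht)) (Subgroup.mem_sup_right (Subgroup.mem_zpowers D)))
      (Subgroup.mem_sup_left ht)
  · rintro _ ⟨i, -, rfl⟩
    exact mul_mem (mul_mem (hρn _ ⟨_, _, CfsgLib.SpnPres.isMon_monOf _ _⟩) hp)
      (inv_mem (hρn _ ⟨_, _, CfsgLib.SpnPres.isMon_monOf _ _⟩))

theorem exists_HD : ∃ H : Subgroup G, A.TP ≤ H ∧ (∀ h ∈ H, IsDiag Φ (A.φ h)) ∧ InjOn' A.φ H ∧
    (∀ h ∈ H, ∀ c d, ∀ x ∈ A.XP c d, h * x * h⁻¹ ∈ A.XP c d) ∧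
    (∀ h ∈ H, ∀ c, ∀ x ∈ A.XQ c, h * x * h⁻¹ ∈ A.XQ c) ∧
    A.N ≤ Subgroup.normalizer (H : Set G) ∧
    (∀ x ∈ A.Y, x ≠ 1 → ∃ h ∈ H, A.Good x h) := by
  obtain ⟨g, hg1, hgn, hgen⟩ := exists_cls_gen C
  have tnorm : ∀ t ∈ A.TP, (∀ c d, ∀ x ∈ A.XP c d, t * x * t⁻¹ ∈ A.XP c d) ∧
      (∀ c, ∀ x ∈ A.XQ c, t * x * t⁻¹ ∈ A.XQ c) := fun t ht =>
    ⟨fun c d x hx => (A.cnj_XP (A.TP_le_N ht) ((A.TP_diag ht).2 c) ((A.TP_diag ht).2 d)).le (conj_mem_cnj hx),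
      fun c x hx => (A.cnj_XQ (A.TP_le_N ht) ((A.TP_diag ht).2 c)).le (conj_mem_cnj hx)⟩
  have hNTP : A.N ≤ Subgroup.normalizer (A.TP : Set G) := by
    refine sup_le ?_ (sup_le Subgroup.le_normalizer ((Subgroup.closure_le _).2 ?_))
    · rintro _ ⟨M, hM, rfl⟩; exact A.ρ_normalizer hM
    · rintro _ ⟨i, -, rfl⟩; exact A.pp_normalizer i
  rcases eps_cases Φ with he | he
  · refine ⟨A.TP, le_rfl, fun h hh => ⟨(A.TP_diag hh).2, 1, by rw [one_smul]; exact (A.TP_diag hh).1.2⟩,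
      fun h hh => A.TP_inj hh, fun h hh => (tnorm h hh).1, fun h hh => (tnorm h hh).2, hNTP, fun x hx hx1 => ?_⟩
    obtain ⟨a, γ, hv, hxi⟩ := A.Y_img x hx
    have hx0 : Φ.x0 = 0 := by rw [← eps_smul Φ, he, zero_smul]
    have hγ : QV Φ 0 γ := by
      unfold QV at hv ⊢; rw [he, mul_zero] at hv; rw [he, mul_zero]; exact hv
    have hxi' : A.φ x = qEl Φ (.inl 0) 0 γ := hxi.trans ((qEl_eq_iff hv hγ).2 ⟨by simp [hx0], rfl⟩)
    refine A.good_long hx hγ ?_ hxi'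
    rintro rfl
    rw [qEl_zero] at hxi'
    exact hx1 (A.Y_inj x hx hxi')
  obtain ⟨γ1, hv1, hcls⟩ := QV.exists_of_cls (Φ := Φ) hgn hg1 1
  obtain ⟨hc1, hγ1⟩ := hcls (by rw [he, map_one]; simp)
  obtain ⟨x1, hx1, hx1i⟩ := A.Y_surj 1 γ1 hv1
  obtain ⟨qA, qA'⟩ := qv_rA A.hc A.hc0 hv1 hγ1
  obtain ⟨xa, hxa, hxai⟩ := A.Y_surj _ _ qA
  obtain ⟨xb, hxb, hxbi⟩ := A.Y_surj _ _ qA'
  set D := A.p⁻¹ * xa⁻¹ * (A.p * x1 * A.p⁻¹) * xb⁻¹ with hDdef
  have hD0 : D ∈ A.M0 := by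
    have hY : ∀ y ∈ A.Y, y ∈ A.M0 := fun y hy => Subgroup.mem_sup_left (by rw [A.XQ_base]; exact hy)
    have hp := A.p_mem_M0
    exact mul_mem (mul_mem (mul_mem (inv_mem hp) (inv_mem (hY _ hxa)))
      (mul_mem (mul_mem hp (hY _ hx1)) (inv_mem hp))) (inv_mem (hY _ hxb))
  have hDφ : A.φ D = (flipEl Φ A.c 0)⁻¹ * (qEl Φ (.inl 0) (rA A.c 1 γ1) (rG A.c γ1))⁻¹ *
      (flipEl Φ A.c 0 * qEl Φ (.inl 0) 1 γ1 * (flipEl Φ A.c 0)⁻¹) *
      (qEl Φ (.inl 0) (rA' C A.c 1 γ1) (rG A.c γ1))⁻¹ := by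
    rw [hDdef]; simp only [map_mul, map_inv, A.hφp, hx1i, hxai, hxbi]
  obtain ⟨t1, t2, t3, t4⟩ := rankOne_T A.hc A.hc0 hv1 hγ1
  rw [← hDφ] at t1 t2 t3 t4
  have hDd : IsDiag Φ (A.φ D) := by
    refine ⟨fun d => ?_, _, t3⟩
    by_cases hd : ix d = 0
    · rcases d with j | j <;> simp only [ix_inl, ix_inr] at hd <;> subst hd
      · exact Mv.intro t1
      · exact Mv.intro t2
    · exact Mv.intro (a := 1) (by rw [one_smul]; exact t4 d hd)
  have hT := A.isTorus_of_diag hD0 hDd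
  have g1 : A.Good x1 D := ⟨xa, hxa, xb, hxb, by rw [hDdef]; group⟩
  have hNa : ∀ {a γ : F}, QV Φ a γ → γ ≠ 0 → cls C γ ≠ 1 → a * C.σ a * eps Φ ≠ 0 := fun hv h0 h1 h => by
    have := hv.mul_sub_cls h0
    rw [h, neg_zero] at this
    exact mul_ne_zero h0 (sub_ne_zero.2 (Ne.symm h1)) this
  have loop : ∀ j : ℕ, 1 ≤ j → j < orderOf g → ∀ x ∈ A.Y, ∀ a γ, QV Φ a γ → γ ≠ 0 →
      A.φ x = qEl Φ (.inl 0) a γ → cls C γ = (g : F) ^ j → ∃ t ∈ A.TP, A.Good x (D ^ j * t) := by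
    have hne : ∀ i, 1 ≤ i → i < orderOf g → (g : F) ^ i ≠ 1 := fun i hi1 hi e => by
      rw [← Units.val_pow_eq_pow_val, Units.val_eq_one] at e
      exact pow_ne_one_of_lt_orderOf (by omega) hi e
    intro j hj
    induction j, hj using Nat.le_induction with
    | base =>
      intro _ x hx a γ hv h0 hxi hc
      rw [pow_one] at hc
      rw [pow_one]
      exact A.good_class hT.2.2.1 hv1 hγ1 hv h0 (hc1.trans hc.symm) (by rw [hc1]; exact hg1) hx1 hx1i hx hxi g1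
    | succ j hj ih =>
      intro hlt y hy a γ hv h0 hyi hc
      have ha := hNa hv h0 (by rw [hc]; exact hne _ (by omega) hlt)
      obtain ⟨γx, hvx, hclx⟩ := QV.exists_of_cls (Φ := Φ) (z := (g : F) ^ j)
        (by rw [map_pow, ← mul_pow, hgn, one_pow]) (hne j hj (by omega)) a
      obtain ⟨hcx, hγx⟩ := hclx ha
      obtain ⟨x, hx, hxi⟩ := A.Y_surj a γx hvx
      have hζ := hvx.split hv
      have hζ0 : γ - γx ≠ 0 := by
        intro e
        rw [sub_eq_zero] at e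
        subst e
        rw [hcx, pow_succ] at hc
        exact hg1 (mul_left_cancel₀ (pow_ne_zero j g.ne_zero) (hc.symm.trans (mul_one _).symm))
      obtain ⟨z, hz, hzi⟩ := A.Y_surj 0 (γ - γx) hζ
      obtain ⟨s, hs, gx⟩ := ih (by omega) x hx a γx hvx hγx hxi hcx
      obtain ⟨t2, ht2, gz⟩ := A.good_long hz hζ hζ0 hzi
      have hyxz : y = x * z := by
        refine A.Y_inj.ext hy (mul_mem hx hz) ?_
        rw [hyi, map_mul, hxi, hzi, qEl_mul hvx hζ, add_zero, zero_mul, zero_mul, sub_zero, add_sub_cancel]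
      obtain ⟨t, ht, gy⟩ := A.good_step hT hx hz hvx hζ hγx hζ0 hxi hzi (by rw [add_sub_cancel]; exact h0)
        (mul_mem (pow_mem (Subgroup.mem_sup_right (Subgroup.mem_zpowers D)) j) (Subgroup.mem_sup_left hs)) ht2
        gx gz (fun w hw b δ hb hδ0 hwi hcw => by
          rw [add_sub_cancel, hc, hcx, pow_succ, mul_div_cancel_left₀ _ (pow_ne_zero j g.ne_zero)] at hcw
          obtain ⟨t', ht', gw⟩ := A.good_class hT.2.2.1 hv1 hγ1 hb hδ0 (hc1.trans hcw.symm)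
            (by rw [hc1]; exact hg1) hx1 hx1i hw hwi g1
          exact ⟨_, mul_mem (Subgroup.mem_sup_right (Subgroup.mem_zpowers D)) (Subgroup.mem_sup_left ht'),
            t', ht', rfl, gw⟩)
      refine ⟨s * t, mul_mem hs ht, ?_⟩
      rw [hyxz, show D ^ (j + 1) * (s * t) = D ^ j * s * D * t by
        rw [pow_succ, mul_assoc (D ^ j) s D, ← (hT.2.2.1 s hs).eq]; group]
      exact gy
  -- the order of `D` modulo the torus
  set n := orderOf g with hn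
  have hn2 : 2 ≤ n := by
    have h0 : 0 < n := orderOf_pos g
    have h1 : n ≠ 1 := fun h => hg1 (by rw [hn, orderOf_eq_one_iff] at h; rw [h, Units.val_one])
    omega
  have hDn : D ^ n ∈ A.TP := by
    have hi : A.φ x1⁻¹ = qEl Φ (.inl 0) (-1) (C.σ γ1) := by rw [map_inv, hx1i, qEl_inv hv1]
    have hσ0 : C.σ γ1 ≠ 0 := (map_ne_zero C.σ).2 hγ1
    have hpn : (g : F) ^ (n - 1) * g = 1 := by
      rw [← pow_succ, show n - 1 + 1 = n by omega, hn, ← Units.val_pow_eq_pow_val, pow_orderOf_eq_one,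
        Units.val_one]
    have hci : cls C (C.σ γ1) = (g : F) ^ (n - 1) := by
      refine mul_right_cancel₀ g.ne_zero (Eq.trans ?_ hpn.symm)
      rw [← hc1]; exact cls_inv hγ1
    obtain ⟨t, ht, gl⟩ := loop (n - 1) (by omega) (by omega) _ (inv_mem hx1) _ _ hv1.inv hσ0 hi hci
    set s := A.p⁻¹ * D⁻¹ * A.p⁻¹ * D with hs
    have hsm : s ∈ A.TP := by
      have hq : A.p * D * A.p⁻¹ * D⁻¹ ∈ A.TP := hT.2.2.2
      have hq' : A.p⁻¹ * D⁻¹ * A.p * D ∈ A.TP := by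
        have : A.p⁻¹ * D⁻¹ * A.p * D = A.p⁻¹ * (D⁻¹ * (A.p * D * A.p⁻¹ * D⁻¹) * D) * A.p := by group
        rw [this, ((hT.2.2.1 _ hq).inv_left).eq, inv_mul_cancel_right]
        exact (Subgroup.mem_normalizer_iff''.1 A.p_normalizer _).1 hq
      rw [hs, show A.p⁻¹ * D⁻¹ * A.p⁻¹ * D = (A.p⁻¹ * D⁻¹ * A.p * D) * (D⁻¹ * (A.p * A.p)⁻¹ * D) by group,
        ((hT.2.2.1 _ (inv_mem A.psq_mem)).inv_left).eq, inv_mul_cancel_right]
      exact mul_mem hq' (inv_mem A.psq_mem)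
    have gi : A.Good x1⁻¹ (D⁻¹ * s) := by
      refine ⟨xb⁻¹, inv_mem hxb, xa⁻¹, inv_mem hxa, ?_⟩
      rw [(hT.2.2.1 s hsm).inv_left.eq, hs, show A.p * x1⁻¹ * A.p⁻¹ = (A.p * x1 * A.p⁻¹)⁻¹ by group,
        show A.p * x1 * A.p⁻¹ = xa * A.p * D * xb by rw [hDdef]; group]
      group
    have hh1 : ∀ d, Mv Φ (A.φ (D ^ (n - 1) * t)) d d := A.HD_diag hT
      (mul_mem (pow_mem (Subgroup.mem_sup_right (Subgroup.mem_zpowers D)) _) (Subgroup.mem_sup_left ht))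
    have hh2 : ∀ d, Mv Φ (A.φ (D⁻¹ * s)) d d := A.HD_diag hT
      (mul_mem (inv_mem (Subgroup.mem_sup_right (Subgroup.mem_zpowers D))) (Subgroup.mem_sup_left hsm))
    have e := A.good_unique (inv_mem hx1) hh1 hh2 hv1.inv hσ0 hi gl gi
    have : D ^ n = s * t⁻¹ := by
      have e' : D * (D ^ (n - 1) * t) * t⁻¹ = D * (D⁻¹ * s) * t⁻¹ := by rw [e]
      rw [← mul_assoc, mul_inv_cancel_right, ← pow_succ', show n - 1 + 1 = n by omega, mul_inv_cancel_left] at e'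
      exact e'
    rw [this]; exact mul_mem hsm (inv_mem ht)
  refine ⟨A.HD D, le_sup_left, fun h hh => ?_, ?_, fun h hh c d => ?_, fun h hh c => ?_, ?_, fun x hx hx1' => ?_⟩
  · refine ⟨A.HD_diag hT hh, ?_⟩
    obtain ⟨i, t, ht, rfl⟩ := A.mem_HD hT hh
    have : ∀ i : ℤ, ∃ ξ : F, app C (A.φ (D ^ i)) Φ.x0 = ξ • Φ.x0 := by
      intro i
      induction i with
      | zero => exact ⟨1, by simp [app_one]⟩
      | succ i ih =>
        obtain ⟨ξ, hξ⟩ := ih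
        obtain ⟨η, hη⟩ := hDd.2
        exact ⟨η * ξ, by rw [_root_.zpow_add_one, map_mul, app_mul, hη, app_smul, hξ, smul_smul]⟩
      | pred i ih =>
        obtain ⟨ξ, hξ⟩ := ih
        obtain ⟨η, hη⟩ := hDd.inv.2
        exact ⟨η * ξ, by rw [_root_.zpow_sub_one, map_mul, app_mul, map_inv, hη, app_smul, hξ, smul_smul]⟩
    obtain ⟨ξ, hξ⟩ := this i
    exact ⟨ξ, by rw [map_mul, app_mul, (A.TP_diag ht).1.2, hξ]⟩
  · intro h hh h1
    obtain ⟨i, t, ht, rfl⟩ := A.mem_HD hT hh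
    have hi : ∀ i : ℤ, app C (A.φ (D ^ i)) Φ.x0 = ((g : F) ^ i) • Φ.x0 := by
      intro i
      induction i with
      | zero => simp [app_one]
      | succ i ih =>
        rw [_root_.zpow_add_one, map_mul, app_mul, t3, hc1, app_smul, ih, smul_smul, zpow_add_one₀ g.ne_zero, mul_comm]
      | pred i ih =>
        have hinv : app C (A.φ D)⁻¹ Φ.x0 = (g : F)⁻¹ • Φ.x0 := by
          refine app_inv_eq C ?_
          rw [app_smul, t3, hc1, smul_smul, inv_mul_cancel₀ g.ne_zero, one_smul]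
        rw [_root_.zpow_sub_one, map_mul, app_mul, map_inv, hinv, app_smul, ih, smul_smul, zpow_sub_one₀ g.ne_zero,
          mul_comm]
    have hx := congrArg (fun T => herm C (app C T Φ.x0) Φ.x0) h1
    simp only [map_mul, app_mul, (A.TP_diag ht).1.2, hi, app_one, herm_smul_left] at hx
    rw [← eps, he, mul_one] at hx
    have hgi : g ^ i = 1 := Units.ext (by rw [Units.val_zpow_eq_zpow_val, hx, Units.val_one])
    obtain ⟨m, rfl⟩ : (n : ℤ) ∣ i := orderOf_dvd_iff_zpow_eq_one.2 hgi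
    refine A.TP_inj (mul_mem ?_ ht) h1
    rw [_root_.zpow_mul, _root_.zpow_natCast]
    exact zpow_mem hDn m
  · have : A.HD D ≤ Subgroup.normalizer (A.XP c d : Set G) := by
      have : Finite (A.XP c d) := A.XP_finite c d
      refine sup_le (fun t ht => ?_) (Subgroup.zpowers_le.2 ?_)
      · rw [Subgroup.mem_normalizer_iff]
        exact fun x => (mem_normalizer_fin ((tnorm t ht).1 c d)).symm
      · rw [Subgroup.mem_normalizer_iff]
        exact fun x => (mem_normalizer_fin (fun x hx => A.diag_norm_P hD0 hDd c d hx)).symm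
    exact fun x hx => (Subgroup.mem_normalizer_iff.1 (this hh) x).1 hx
  · have : A.HD D ≤ Subgroup.normalizer (A.XQ c : Set G) := by
      have : Finite (A.XQ c) := A.XQ_finite c
      refine sup_le (fun t ht => ?_) (Subgroup.zpowers_le.2 ?_)
      · rw [Subgroup.mem_normalizer_iff]
        exact fun x => (mem_normalizer_fin ((tnorm t ht).2 c)).symm
      · rw [Subgroup.mem_normalizer_iff]
        exact fun x => (mem_normalizer_fin (fun x hx => A.diag_norm_Q hD0 hDd c hx)).symm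
    exact fun x hx => (Subgroup.mem_normalizer_iff.1 (this hh) x).1 hx
  · exact A.N_norm_HD hT hD0 hDd
  · obtain ⟨a, γ, hv, hxi⟩ := A.Y_img x hx
    have h0 : γ ≠ 0 := by
      rintro rfl
      refine hx1' (A.Y_inj x hx (hxi.trans (((qEl_eq_iff hv QV.zero).2 ⟨?_, rfl⟩).trans (qEl_zero _))))
      rw [hv.of_zero, zero_smul]
    by_cases hc : cls C γ = 1
    · have hγ : QV Φ 0 γ := qv_zero_iff.2 ((cls_eq_one h0).1 hc)
      have hxi' : A.φ x = qEl Φ (.inl 0) 0 γ :=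
        hxi.trans ((qEl_eq_iff hv hγ).2 ⟨by rw [hv.long hc h0, zero_smul], rfl⟩)
      obtain ⟨t, ht, gt⟩ := A.good_long hx hγ h0 hxi'
      exact ⟨t, Subgroup.mem_sup_left ht, gt⟩
    · obtain ⟨j, hj, hjc⟩ := hgen (cls C γ) (cls_norm h0)
      have hj1 : 1 ≤ j := by
        rcases Nat.eq_zero_or_pos j with rfl | h
        · exact absurd (by rw [← hjc, pow_zero]) hc
        · exact h
      obtain ⟨t, ht, gt⟩ := loop j hj1 hj x hx a γ hv h0 hxi hjc.symm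
      exact ⟨_, mul_mem (pow_mem (Subgroup.mem_sup_right (Subgroup.mem_zpowers D)) j) (Subgroup.mem_sup_left ht), gt⟩

end QData

end CfsgLib.SUPres
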