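import Cfsg.Agent.SUPres.Q

/-!
# The rank one identity in the special unitary group
-/

set_option autoImplicit false
set_option linter.unusedSectionVars false
set_option linter.unusedSimpArgs false

namespace CfsgLib.SUPres

open Matrix CfsgLib.RepBounds.Unit CfsgLib.SUThreeUnipotent CfsgLib.SUTwoGen

variable {F : Type*} [Field F] [Fintype F] {C : ConjField F} {ι : Type*} [Fintype ι] [DecidableEq ι] {k : ℕ}
  {Φ : PFrame C (k + 2) ι}

/-- The ratio class of a parameter. -/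
def cls (C : ConjField F) (γ : F) : F := -C.σ γ / γ

theorem sigma_ne' {x : F} (h : x ≠ 0) : C.σ x ≠ 0 := (map_ne_zero C.σ).2 h

theorem cls_norm {γ : F} (h : γ ≠ 0) : cls C γ * C.σ (cls C γ) = 1 := by
  have := sigma_ne' (C := C) h
  simp only [cls, map_div₀, map_neg, C.invol]
  field_simp

theorem cls_inv {γ : F} (h : γ ≠ 0) : cls C (C.σ γ) * cls C γ = 1 := by
  have := sigma_ne' (C := C) h
  simp only [cls, C.invol]
  field_simp

theorem cls_eq_one {γ : F} (h : γ ≠ 0) : cls C γ = 1 ↔ C.σ γ = -γ := by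
  rw [cls, div_eq_one_iff_eq h, neg_eq_iff_eq_neg]

theorem QV.mul_sub_cls {a γ : F} (h : QV Φ a γ) (h0 : γ ≠ 0) : γ * (1 - cls C γ) = -(a * C.σ a * eps Φ) := by
  unfold QV at h
  rw [cls, mul_sub, mul_div_cancel₀ _ h0]
  linear_combination h

theorem QV.long {a γ : F} (h : QV Φ a γ) (h1 : cls C γ = 1) (h0 : γ ≠ 0) : a • Φ.x0 = 0 := by
  have := h.mul_sub_cls h0
  rw [h1, sub_self, mul_zero, eq_comm, neg_eq_zero] at this
  rcases mul_eq_zero.1 this with h' | h'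
  · rcases mul_eq_zero.1 h' with h'' | h''
    · rw [h'', zero_smul]
    · rw [(map_eq_zero C.σ).1 h'', zero_smul]
  · rw [← eps_smul Φ, h', zero_smul, smul_zero]

theorem QV.of_zero {a : F} (h : QV Φ a 0) : a • Φ.x0 = 0 := by
  have h' : a * C.σ a * eps Φ = 0 := by unfold QV at h; simpa using h
  rcases mul_eq_zero.1 h' with h' | h'
  · rcases mul_eq_zero.1 h' with h'' | h''
    · rw [h'', zero_smul]
    · rw [(map_eq_zero C.σ).1 h'', zero_smul]
  · rw [← eps_smul Φ, h', zero_smul, smul_zero]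

/-- The first parameters. -/
def rA (c a γ : F) : F := a / (c * γ)

/-- The second parameters. -/
def rA' (C : ConjField F) (c a γ : F) : F := a / (c * C.σ γ)

/-- The common second coordinate. -/
def rG (c γ : F) : F := -1 / (c ^ 2 * γ)

theorem qv_rA {c a γ : F} (hc : C.σ c = -c) (hc0 : c ≠ 0) (h : QV Φ a γ) (h0 : γ ≠ 0) :
    QV Φ (rA c a γ) (rG c γ) ∧ QV Φ (rA' C c a γ) (rG c γ) := by
  have := sigma_ne' (C := C) h0
  unfold QV at h
  constructor <;>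
  · simp only [QV, rA, rA', rG, map_div₀, map_neg, map_one, map_mul, map_pow, hc, C.invol]
    field_simp
    linear_combination -h

variable (Φ) in
/-- Coordinates at the index `0`. -/
def v3 (α β δ : F) : ι → F := α • Φ.v (.inl 0) + β • Φ.x0 + δ • Φ.v (.inr 0)

theorem qEl_v3 {a γ : F} (h : QV Φ a γ) (α β δ : F) :
    app C (qEl Φ (.inl 0) a γ) (v3 Φ α β δ) =
      v3 Φ (α + γ * δ - C.σ a * β * eps Φ) (β + a * δ) δ := by
  rw [app_qEl h, v3, v3]
  simp only [herm_add_left, herm_smul_left, Φ.self, Φ.xv, Φ.vx, herm_vv, Sum.swap_inl, Sum.swap_inr, if_true,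
    reduceCtorEq, if_false, mul_zero, add_zero, zero_add, mul_one]
  rw [← eps]
  module

theorem flip_v3 {c : F} (hc : C.σ c = -c) (hc0 : c ≠ 0) (α β δ : F) :
    app C (flipEl Φ c 0) (v3 Φ α β δ) = v3 Φ (-c⁻¹ * δ) β (c * α) := by
  obtain ⟨h1, h2, -, h4⟩ := flipEl_spec (Φ := Φ) hc hc0 0
  rw [v3, v3, app_add, app_add, app_smul, app_smul, app_smul, h1, h2, h4]
  module

theorem flip_inv_v3 {c : F} (hc : C.σ c = -c) (hc0 : c ≠ 0) (α β δ : F) :
    app C (flipEl Φ c 0)⁻¹ (v3 Φ α β δ) = v3 Φ (δ / c) β (-c * α) := by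
  refine app_inv_eq C ?_
  rw [flip_v3 hc hc0]
  congr 1 <;> field_simp

theorem v3_inl : Φ.v (.inl 0) = v3 Φ 1 0 0 := by rw [v3]; module
theorem v3_inr : Φ.v (.inr 0) = v3 Φ 0 0 1 := by rw [v3]; module
theorem v3_x0 : Φ.x0 = v3 Φ 0 1 0 := by rw [v3]; module

theorem qEl_fix {c : SI (k + 2)} {a γ : F} (h : QV Φ a γ) {d : SI (k + 2)} (hd : ix d ≠ ix c) :
    app C (qEl Φ c a γ) (Φ.v d) = Φ.v d := by
  rw [app_qEl h, herm_v0 Φ (fun e => hd (by rw [e, ix_swap])), Φ.vx]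
  simp

theorem rankOne_T {c a γ : F} (hc : C.σ c = -c) (hc0 : c ≠ 0) (h : QV Φ a γ) (h0 : γ ≠ 0) :
    let t := (flipEl Φ c 0)⁻¹ * (qEl Φ (.inl 0) (rA c a γ) (rG c γ))⁻¹ *
      (flipEl Φ c 0 * qEl Φ (.inl 0) a γ * (flipEl Φ c 0)⁻¹) * (qEl Φ (.inl 0) (rA' C c a γ) (rG c γ))⁻¹
    app C t (Φ.v (.inl 0)) = (-c * γ) • Φ.v (.inl 0) ∧
    app C t (Φ.v (.inr 0)) = (C.σ (-c * γ))⁻¹ • Φ.v (.inr 0) ∧
    app C t Φ.x0 = cls C γ • Φ.x0 ∧
    ∀ d : SI (k + 2), ix d ≠ 0 → app C t (Φ.v d) = Φ.v d := by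
  intro t
  obtain ⟨hA, hA'⟩ := qv_rA hc hc0 h h0
  have hσ := sigma_ne' (C := C) h0
  have hrel : C.σ γ = -γ - a * C.σ a * eps Φ := by unfold QV at h; linear_combination h
  have key : ∀ α β δ, app C t (v3 Φ α β δ) =
      v3 Φ (-c * γ * α) (cls C γ * β) ((C.σ (-c * γ))⁻¹ * δ) := by
    intro α β δ
    simp only [t, qEl_inv hA, qEl_inv hA', app_mul, qEl_v3 hA'.inv, flip_inv_v3 hc hc0, qEl_v3 h,
      flip_v3 hc hc0, qEl_v3 hA.inv]
    rcases Φ.x_cases with hx | hx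
    · have he : eps Φ = 0 := by rw [eps, hx, herm_zero_left]
      rw [he, mul_zero, sub_zero] at hrel
      simp only [v3, hx, smul_zero, add_zero]
      simp only [rA, rA', rG, he, map_div₀, map_neg, map_one, map_mul, map_pow, C.invol, hc, mul_zero,
        sub_zero, neg_neg]
      congr 1 <;> congr 1 <;> simp only [hrel] <;> field_simp <;> ring
    · have he : eps Φ = 1 := hx
      rw [he, mul_one] at hrel
      simp only [rA, rA', rG, he, cls, map_div₀, map_neg, map_one, map_mul, map_pow, C.invol, hc, mul_one,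
        neg_neg]
      have hne : -γ - a * C.σ a ≠ 0 := hrel ▸ hσ
      congr 1 <;> field_simp <;> simp only [hrel] <;> ring
  refine ⟨?_, ?_, ?_, fun d hd => ?_⟩
  · rw [v3_inl, key]; simp [v3]
  · rw [v3_inr, key]; simp [v3]
  · rw [v3_x0, key]; simp [v3]
  · have hp := (flipEl_spec (Φ := Φ) hc hc0 0).2.2.1 d hd
    simp only [t, qEl_inv hA, qEl_inv hA', app_mul, qEl_fix hA'.inv (show ix d ≠ ix (Sum.inl 0) from hd),
      app_inv_eq C hp, qEl_fix h (show ix d ≠ ix (Sum.inl 0) from hd), hp,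
      qEl_fix hA.inv (show ix d ≠ ix (Sum.inl 0) from hd)]

/-- Uniqueness of the decomposition. -/
theorem rankOne_unique {c : F} (hc : C.σ c = -c) (hc0 : c ≠ 0) {a γ a' γ' b δ b' δ' : F}
    (h1 : QV Φ a γ) (h2 : QV Φ a' γ') (h3 : QV Φ b δ) (h4 : QV Φ b' δ') {t s : suG C ι}
    (ht : ∀ d, Mv Φ t d d) (hs : ∀ d, Mv Φ s d d)
    (e : qEl Φ (.inl 0) a γ * flipEl Φ c 0 * t * qEl Φ (.inl 0) a' γ' =
      qEl Φ (.inl 0) b δ * flipEl Φ c 0 * s * qEl Φ (.inl 0) b' δ') :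
    qEl Φ (.inl 0) a γ = qEl Φ (.inl 0) b δ ∧ qEl Φ (.inl 0) a' γ' = qEl Φ (.inl 0) b' δ' := by
  obtain ⟨τ, hτ, et⟩ := ht (.inl 0)
  obtain ⟨τ', hτ', es⟩ := hs (.inl 0)
  have e1 := congrArg (fun g => app C g (Φ.v (.inl 0))) e
  simp only [app_mul] at e1
  have q0 : ∀ {x y : F}, QV Φ x y → app C (qEl Φ (.inl 0) x y) (Φ.v (.inl 0)) = Φ.v (.inl 0) := fun hxy => by
    rw [app_qEl hxy, Φ.self, Φ.vx]; simp
  rw [q0 h2, q0 h4, et, es] at e1
  simp only [app_smul, v3_inl, flip_v3 hc hc0, qEl_v3 h1, qEl_v3 h3] at e1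
  have eα := congrArg (fun x => herm C x (Φ.v (.inr 0))) e1
  have eβ := congrArg (fun x => herm C x Φ.x0) e1
  have eδ := congrArg (fun x => herm C x (Φ.v (.inl 0))) e1
  simp only [v3, herm_add_left, herm_smul_left, Φ.self, Φ.xv, Φ.vx, herm_vv, Sum.swap_inl, Sum.swap_inr,
    if_true, reduceCtorEq, if_false, mul_zero, add_zero, zero_add, mul_one, zero_mul, sub_zero] at eα eβ eδ
  have hττ : τ = τ' := mul_right_cancel₀ hc0 eδ
  subst hττ
  have hg : γ = δ := mul_right_cancel₀ hc0 (mul_left_cancel₀ hτ eα)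
  subst hg
  have hab : a * eps Φ = b * eps Φ := by
    rw [← eps] at eβ
    refine mul_right_cancel₀ hc0 (mul_left_cancel₀ hτ ?_)
    linear_combination eβ
  have hx : a • Φ.x0 = b • Φ.x0 := by
    rw [← eps_smul Φ, smul_smul, smul_smul, hab]
  have hfirst := (qEl_eq_iff (c := (Sum.inl 0 : SI (k + 2))) h1 h3).2 ⟨hx, rfl⟩
  refine ⟨hfirst, ?_⟩
  rw [hfirst, mul_assoc, mul_assoc, mul_assoc, mul_assoc, mul_left_cancel_iff, mul_left_cancel_iff] at e
  -- compare the images of `v (inr 0)`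
  have hdiff : Mv Φ (qEl Φ (.inl 0) a' γ' * (qEl Φ (.inl 0) b' δ')⁻¹) (.inr 0) (.inr 0) := by
    rw [show qEl Φ (.inl 0) a' γ' * (qEl Φ (.inl 0) b' δ')⁻¹ = t⁻¹ * s by
      rw [mul_inv_eq_iff_eq_mul, mul_assoc, ← e, inv_mul_cancel_left]]
    exact (ht _).inv.mul (hs _)
  rw [qEl_inv h4, qEl_mul h2 h4.inv] at hdiff
  obtain ⟨r, -, hr⟩ := hdiff
  have hv := h2.mul h4.inv
  rw [v3_inr, qEl_v3 hv, v3, v3] at hr
  have ea := congrArg (fun x => herm C x Φ.x0) hr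
  have eb := congrArg (fun x => herm C x (Φ.v (.inr 0))) hr
  simp only [herm_add_left, herm_smul_left, Φ.self, Φ.xv, Φ.vx, herm_vv, Sum.swap_inl, Sum.swap_inr, if_true,
    reduceCtorEq, if_false, mul_zero, add_zero, zero_add, mul_one, zero_mul, sub_zero] at ea eb
  refine (qEl_eq_iff h2 h4).2 ?_
  rw [← eps] at ea
  have hx' : a' • Φ.x0 = b' • Φ.x0 := by
    rw [← eps_smul Φ, smul_smul, smul_smul, show a' * eps Φ = b' * eps Φ by linear_combination ea]
  refine ⟨hx', ?_⟩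
  have hab' : a' * eps Φ = b' * eps Φ := by linear_combination ea
  unfold QV at h4
  have hσab : C.σ a' * eps Φ = C.σ b' * eps Φ := by simpa [map_mul, σ_eps] using congrArg C.σ hab'
  linear_combination eb - h4 - b' * hσab

end CfsgLib.SUPres
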