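import Cfsg.Agent.SUPres.Bruhat

/-!
# From the relations to the monomial data, rank at least three
-/

set_option autoImplicit false
set_option linter.unusedSectionVars false
set_option linter.unusedSimpArgs false

namespace CfsgLib.SUPres

open Matrix CfsgLib.RepBounds.Unit CfsgLib.SUThreeUnipotent CfsgLib.SUTwoGen CfsgLib.SL2Pres CfsgLib.SLnPres
open CfsgLib.SpnPres (IsMon monOf isMon_monOf)
open CfsgLib.DnPres (eA eA_xU eA_hD_mon mon_eA cu cD_hD)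
open scoped commutatorElement

variable {F : Type*} [Field F] [Fintype F] {C : ConjField F} {ι : Type*} [Fintype ι] [DecidableEq ι] {k : ℕ}

theorem mon_ext {κ : Type*} [Fintype κ] [DecidableEq κ] {M M' : Matrix.SpecialLinearGroup κ F} {π : Equiv.Perm κ}
    {c c' : κ → F} (h : IsMon M π c) (h' : IsMon M' π c') (e : ∀ b, c b = c' b) : M = M' := by
  apply Subtype.ext
  ext a b
  rw [h.eq, h'.eq, e]

theorem val2 : ((2 : Fin (k + 1 + 2)) : ℕ) = 2 := Nat.mod_eq_of_lt (show 2 < k + 1 + 2 by omega)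

theorem ne20 : (2 : Fin (k + 1 + 2)) ≠ 0 := by rw [Ne, Fin.ext_iff, val2]; simp

theorem ne21 : (2 : Fin (k + 1 + 2)) ≠ 1 := by rw [Ne, Fin.ext_iff, val2]; simp

/-- The torus element at `(i, j)`. -/
def hh {m : ℕ} (i j : Fin m) (a : Fˣ) : Matrix.SpecialLinearGroup (Fin m) F := eA i j (hD a)

theorem hh_mon {m : ℕ} {i j : Fin m} (h : i ≠ j) (a : Fˣ) :
    IsMon (hh i j a) 1 (fun b => if b = i then (a : F) else if b = j then ((a⁻¹ : Fˣ) : F) else 1) :=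
  eA_hD_mon i j h a

theorem hh_mem {m : ℕ} {i j : Fin m} (h : i ≠ j) (a : Fˣ) : hh i j a ∈ Dg (Fin m) F := ⟨_, hh_mon h a⟩

theorem hh_triv {m : ℕ} {i j l : Fin m} (h : i ≠ j) (hi : l ≠ i) (hj : l ≠ j) (a : Fˣ) : Triv l (hh i j a) :=
  triv_mon (hh_mon h a) rfl (by simp [hi, hj])

theorem hh_add {m : ℕ} {i j l : Fin m} (hij : i ≠ j) (hil : i ≠ l) (hlj : l ≠ j) (a : Fˣ) :
    hh i j a = hh i l a * hh l j a := by
  refine mon_ext (hh_mon hij a) (show IsMon (hh i l a * hh l j a) 1 _ by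
    simpa using (hh_mon hil a).mul (hh_mon hlj a)) fun b => ?_
  by_cases h1 : b = i
  · subst h1; simp [hij, hil, hlj]
  by_cases h2 : b = l
  · subst h2; simp [h1, hlj]
  by_cases h3 : b = j
  · subst h3; simp [h1, h2]
  simp [h1, h2, h3]

theorem hh_conj {m : ℕ} {M : Matrix.SpecialLinearGroup (Fin m) F} {π : Equiv.Perm (Fin m)} {c : Fin m → F}
    (h : IsMon M π c) (i j : Fin m) (a : Fˣ) : M * hh i j a * M⁻¹ = hh (π i) (π j) a := by
  rw [hh, mon_eA h, cD_hD]; rfl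

/-- The relations, as identities. -/
structure Rels (Φ : PFrame C (k + 1 + 2) ι) (G : Type*) [Group G] where
  ρ : Matrix.SpecialLinearGroup (Fin (k + 1 + 2)) F →* G
  p : G
  u : G
  φ : G →* suG C ι
  c : F
  hc : C.σ c = -c
  hc0 : c ≠ 0
  γ1 : F
  hv1 : QV Φ (eps Φ) γ1
  hφρ : ∀ M, φ (ρ M) = lev Φ M
  hφp : φ p = flipEl Φ c 0
  hφu : φ u = qEl Φ (.inl 0) (eps Φ) γ1
  hu0 : eps Φ = 0 → u = 1
  stab : ∀ M, Triv 0 M → Commute (ρ M) p ∧ Commute (ρ M) u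
  r5 : Commute p (ρ (w01 (k + 1)) * p * (ρ (w01 (k + 1)))⁻¹)
  tau : ∀ g, ∃ g', p * (ρ (w01 (k + 1)) * p * (ρ (w01 (k + 1)))⁻¹) * ρ (eA 0 1 g) *
    (p * (ρ (w01 (k + 1)) * p * (ρ (w01 (k + 1)))⁻¹))⁻¹ = ρ (eA 0 1 g')
  norm1 : ∀ a : Fˣ, (a : F) * C.σ a = 1 → Commute p (ρ (h01 (k + 1) a))
  psq : p * p ∈ (Dg (Fin (k + 1 + 2)) F).map ρ ⊔
    ((Dg (Fin (k + 1 + 2)) F).map ρ).map (MulAut.conj p).toMonoidHom

namespace Rels

variable {Φ : PFrame C (k + 1 + 2) ι} {G : Type*} [Group G] (R : Rels Φ G)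

/-- The exchange at `1`. -/
def q1 : G := R.ρ (w01 (k + 1)) * R.p * (R.ρ (w01 (k + 1)))⁻¹

/-- The short element at `1`. -/
def u1 : G := R.ρ (w01 (k + 1)) * R.u * (R.ρ (w01 (k + 1)))⁻¹

theorem w01_inv_triv {M : Matrix.SpecialLinearGroup (Fin (k + 1 + 2)) F} (h : Triv 1 M) :
    Triv 0 ((w01 (k + 1))⁻¹ * M * w01 (k + 1)) := by
  have hw := w01_mon (F := F) (k := k + 1)
  have hwi := hw.inv
  simp only [Equiv.swap_inv] at hwi
  intro a b hab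
  obtain ⟨a, rfl⟩ := (Equiv.swap (0 : Fin (k + 1 + 2)) 1).surjective a
  rw [Matrix.SpecialLinearGroup.coe_mul, CfsgLib.DnPres.mul_mon_apply hw, Matrix.SpecialLinearGroup.coe_mul,
    CfsgLib.DnPres.mon_mul_apply hwi]
  have key : a = 1 ∨ Equiv.swap (0 : Fin (k + 1 + 2)) 1 b = 1 := by
    rcases hab with e | e
    · left
      simpa using congrArg (Equiv.swap (0 : Fin (k + 1 + 2)) 1) e
    · right; rw [e, Equiv.swap_apply_left]
  rw [h a _ key, Matrix.one_apply, Matrix.one_apply]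
  by_cases hb : a = Equiv.swap 0 1 b
  · subst hb
    simp only [Equiv.swap_apply_self, if_true]
    split_ifs <;> norm_num
  · have hb' : Equiv.swap 0 1 a ≠ b := fun e => hb (by rw [← e, Equiv.swap_apply_self])
    rw [if_neg hb, if_neg hb']; ring

theorem stab1 {M : Matrix.SpecialLinearGroup (Fin (k + 1 + 2)) F} (h : Triv 1 M) :
    Commute (R.ρ M) R.q1 ∧ Commute (R.ρ M) R.u1 := by
  obtain ⟨hp, hu⟩ := R.stab _ (w01_inv_triv h)
  have key : ∀ x, Commute (R.ρ ((w01 (k + 1))⁻¹ * M * w01 (k + 1))) x →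
      Commute (R.ρ M) (R.ρ (w01 (k + 1)) * x * (R.ρ (w01 (k + 1)))⁻¹) := fun x hx => by
    have := hx.map (MulAut.conj (R.ρ (w01 (k + 1)))).toMonoidHom
    simp only [MulEquiv.coe_toMonoidHom, MulAut.conj_apply, map_mul, map_inv] at this
    convert this using 1
    group
  exact ⟨key _ hp, key _ hu⟩

theorem r5' : Commute R.p R.q1 := R.r5

theorem mv_p0' (d : SI (k + 1 + 2)) : Mv Φ (R.φ R.p) d (if ix d = 0 then d.swap else d) := by
  obtain ⟨h1, h2, h3, -⟩ := flipEl_spec (Φ := Φ) R.hc R.hc0 0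
  rw [← R.hφp] at h1 h2 h3
  by_cases hd : ix d = 0
  · rw [if_pos hd]
    rcases d with j | j <;> simp only [ix_inl, ix_inr] at hd <;> subst hd
    · exact Mv.intro h1
    · exact Mv.intro h2
  · rw [if_neg hd]; exact Mv.intro (a := 1) (by rw [one_smul]; exact h3 d hd)

theorem mv_ρ' {M : Matrix.SpecialLinearGroup (Fin (k + 1 + 2)) F} {π : Equiv.Perm (Fin (k + 1 + 2))}
    {c : Fin (k + 1 + 2) → F} (h : IsMon M π c) (d : SI (k + 1 + 2)) :
    Mv Φ (R.φ (R.ρ M)) d (Sum.map π π d) := by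
  rw [R.hφρ]
  rcases d with j | j
  · exact mv_lev_inl h j
  · exact mv_lev_inr h j

theorem mv_q1 (d : SI (k + 1 + 2)) : Mv Φ (R.φ R.q1) d (if ix d = 1 then d.swap else d) := by
  have hw := w01_mon (F := F) (k := k + 1)
  obtain ⟨b, rfl⟩ : ∃ b, Sum.map (Equiv.swap 0 1) (Equiv.swap 0 1) b = d :=
    ⟨Sum.map (Equiv.swap 0 1) (Equiv.swap 0 1) d, by rcases d with j | j <;> simp⟩
  have hb := R.mv_ρ' hw b
  have hix : ix (Sum.map (Equiv.swap (0 : Fin (k + 1 + 2)) 1) (Equiv.swap 0 1) b) = Equiv.swap 0 1 (ix b) := by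
    cases b <;> rfl
  have hiff : Equiv.swap (0 : Fin (k + 1 + 2)) 1 (ix b) = 1 ↔ ix b = 0 := by
    conv_lhs => arg 2; rw [show (1 : Fin (k + 1 + 2)) = Equiv.swap 0 1 0 by simp]
    exact (Equiv.swap _ _).injective.eq_iff
  have hp := R.mv_p0' b
  rw [q1, map_mul, map_mul, map_inv]
  by_cases h : ix b = 0
  · rw [if_pos (by rw [hix, hiff]; exact h)]
    rw [if_pos h] at hp
    refine Mv.mul (Mv.mul ?_ hp) hb.inv
    have := R.mv_ρ' hw b.swap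
    cases b <;> exact this
  · rw [if_neg (by rw [hix, hiff]; exact h)]
    rw [if_neg h] at hp
    exact (hb.mul hp).mul hb.inv

theorem pq_fix_eA (g : Matrix.SpecialLinearGroup (Fin 2) F) :
    ∃ g', R.ρ (eA 0 1 g) = R.p * R.q1 * R.ρ (eA 0 1 g') * (R.p * R.q1)⁻¹ := by
  set E := (R.ρ.comp (eA (0 : Fin (k + 1 + 2)) 1)).range with hE
  have : Finite E := Finite.of_surjective (R.ρ.comp (eA (0 : Fin (k + 1 + 2)) 1)).rangeRestrict
    (MonoidHom.rangeRestrict_surjective _)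
  have e := cnj_eq_of_finite (n := R.p * R.q1) (H := E) (by
    rintro _ ⟨x, rfl⟩
    obtain ⟨g', hg'⟩ := R.tau x
    exact ⟨g', hg'.symm⟩)
  have hm : R.ρ (eA 0 1 g) ∈ E := ⟨g, rfl⟩
  rw [← e] at hm
  obtain ⟨_, ⟨g', rfl⟩, h⟩ := hm
  exact ⟨g', h.symm⟩

theorem kcomm (a b : Fˣ) : Commute (R.ρ (h01 (k + 1) b)) (R.p * R.ρ (h01 (k + 1) a) * R.p⁻¹) := by
  obtain ⟨g', hg⟩ := R.tau (hD a)
  change R.p * R.q1 * R.ρ (h01 (k + 1) a) * (R.p * R.q1)⁻¹ = _ at hg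
  have hd : eA 0 1 g' ∈ Dg (Fin (k + 1 + 2)) F := by
    refine mem_Dg_of_lines (Φ := Φ) fun j => ?_
    rw [← R.hφρ, ← hg, map_mul, map_mul, map_inv, map_mul]
    have h1 := R.mv_p0' (.inl j)
    have h2 := R.mv_q1 (.inl j)
    have hh : ∀ d, Mv Φ (R.φ (R.ρ (h01 (k + 1) a))) d d := fun d => by
      simpa using R.mv_ρ' (h01_mon (k := k + 1) a) d
    obtain ⟨d, hd⟩ : ∃ d, Mv Φ (R.φ R.p * R.φ R.q1) d (Sum.inl j) := by
      have hp := fun d => R.mv_p0' d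
      have hq := fun d => R.mv_q1 d
      set e : SI (k + 1 + 2) := if ix (Sum.inl j : SI (k + 1 + 2)) = 0 then .inr j else .inl j with he
      set d : SI (k + 1 + 2) := if ix e = 1 then e.swap else e with hd
      refine ⟨d, ?_⟩
      have h3 : Mv Φ (R.φ R.q1) d e := by
        have := hq d
        have hix : ix d = ix e := by rw [hd]; split_ifs <;> simp
        rw [hix] at this
        rw [hd] at this ⊢
        split_ifs at this ⊢ with hh <;> simpa using this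
      have h4 : Mv Φ (R.φ R.p) e (Sum.inl j) := by
        have := hp e
        by_cases h0 : j = 0
        · simp [he, h0] at this ⊢; exact this
        · simp [he, h0] at this ⊢; exact this
      exact h4.mul h3
    exact (hd.mul (hh d)).mul hd.inv
  have ka : R.p * R.ρ (h01 (k + 1) a) * R.p⁻¹ = R.q1⁻¹ * R.ρ (eA 0 1 g') * R.q1 := by
    rw [← hg, R.r5'.eq]; group
  have h02b : h01 (k + 1) b = (hh 0 2 b * hh 2 1 b : Matrix.SpecialLinearGroup (Fin (k + 1 + 2)) F) :=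
    hh_add zero_ne_one' ne20.symm ne21 b
  rw [h02b, map_mul]
  refine Commute.mul_left ?_ ?_
  · rw [ka]
    have hc := (R.stab1 (hh_triv ne20.symm zero_ne_one'.symm ne21.symm b)).1
    exact ((hc.inv_right).mul_right ((Dg_comm (hh_mem ne20.symm b) hd).map R.ρ)).mul_right hc
  · have hc := (R.stab _ (hh_triv ne21 ne20.symm zero_ne_one' b)).1
    exact (hc.mul_right ((Dg_comm (hh_mem ne21 b) (h01_mem a)).map R.ρ)).mul_right hc.inv_right

theorem knorm (a : Fˣ) (r : F) : ∃ r', R.p * R.ρ (h01 (k + 1) a) * R.p⁻¹ * R.ρ (tv 0 1 r) *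
    (R.p * R.ρ (h01 (k + 1) a) * R.p⁻¹)⁻¹ = R.ρ (tv 0 1 r') := by
  set k2 := R.p * R.ρ (hh 0 2 a) * R.p⁻¹ with hk2
  have hka : R.p * R.ρ (h01 (k + 1) a) * R.p⁻¹ = k2 * R.ρ (hh 2 1 a) := by
    rw [show h01 (k + 1) a = (hh 0 2 a * hh 2 1 a : Matrix.SpecialLinearGroup (Fin (k + 1 + 2)) F) from
      hh_add zero_ne_one' ne20.symm ne21 a, map_mul, hk2,
      show R.p * (R.ρ (hh 0 2 a) * R.ρ (hh 2 1 a)) * R.p⁻¹ =
        R.p * R.ρ (hh 0 2 a) * (R.ρ (hh 2 1 a) * R.p⁻¹) by group,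
      ((R.stab _ (hh_triv ne21 ne20.symm zero_ne_one' a)).1.inv_right).eq]
    group
  obtain ⟨r1, hr1⟩ : ∃ r1, R.ρ (hh 2 1 a) * R.ρ (tv 0 1 r) * (R.ρ (hh 2 1 a))⁻¹ = R.ρ (tv 0 1 r1) := by
    have e := (hh_mon (i := (2 : Fin (k + 1 + 2))) ne21 a).mul_tv zero_ne_one' r
    simp only [Equiv.Perm.one_apply] at e
    exact ⟨_, by rw [← map_inv, ← map_mul, ← map_mul, e]⟩
  rw [hka, show k2 * R.ρ (hh 2 1 a) * R.ρ (tv 0 1 r) * (k2 * R.ρ (hh 2 1 a))⁻¹ =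
    k2 * (R.ρ (hh 2 1 a) * R.ρ (tv 0 1 r) * (R.ρ (hh 2 1 a))⁻¹) * k2⁻¹ by group, hr1]
  obtain ⟨g, hg⟩ := R.pq_fix_eA (xU r1)
  rw [eA_xU zero_ne_one'] at hg
  have hh2 := hh_mon (i := (0 : Fin (k + 1 + 2))) (j := 2) ne20.symm a
  have h1 : R.ρ (hh 0 2 a) * R.ρ (eA 0 1 g) * (R.ρ (hh 0 2 a))⁻¹ =
      R.ρ (eA 0 1 (CfsgLib.DnPres.cD (cu hh2 0 * (cu hh2 1)⁻¹) g)) := by
    rw [← map_inv, ← map_mul, ← map_mul, mon_eA hh2]; rfl
  obtain ⟨g', hg'⟩ := R.tau (CfsgLib.DnPres.cD (cu hh2 0 * (cu hh2 1)⁻¹) g)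
  change R.p * R.q1 * _ * (R.p * R.q1)⁻¹ = _ at hg'
  have hc := (R.stab1 (hh_triv (m := k + 1 + 2) ne20.symm zero_ne_one'.symm ne21.symm a)).1
  have e : k2 * R.ρ (tv 0 1 r1) * k2⁻¹ = R.ρ (eA 0 1 g') := by
    rw [← hg', ← h1, hg, hk2]
    calc R.p * R.ρ (hh 0 2 a) * R.p⁻¹ * (R.p * R.q1 * R.ρ (eA 0 1 g) * (R.p * R.q1)⁻¹) *
          (R.p * R.ρ (hh 0 2 a) * R.p⁻¹)⁻¹
        = R.p * (R.ρ (hh 0 2 a) * R.q1) * R.ρ (eA 0 1 g) * (R.ρ (hh 0 2 a) * R.q1)⁻¹ * R.p⁻¹ := by group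
      _ = _ := by rw [hc.eq]; group
  rw [e]
  have hdiag : ∀ d, Mv Φ (R.φ k2) d d := fun d => by
    have hp := R.mv_p0' d
    have hh : ∀ d, Mv Φ (R.φ (R.ρ (hh 0 2 a))) d d := fun d => by simpa using R.mv_ρ' hh2 d
    rw [hk2, map_mul, map_mul, map_inv]
    by_cases h0 : ix d = 0
    · have h1 := R.mv_p0' d.swap
      rw [ix_swap, if_pos h0, Sum.swap_swap] at h1
      exact (h1.mul (hh _)).mul h1.inv
    · rw [if_neg h0] at hp
      exact (hp.mul (hh d)).mul hp.inv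
  obtain ⟨x, -, hx⟩ := hdiag (.inr 1)
  obtain ⟨y, -, hy⟩ := hdiag (.inl 0)
  have himg := conj_pEl hx hy (show (Sum.inl (0 : Fin (k + 1 + 2)) : SI (k + 1 + 2)) ≠
    (Sum.inr 1 : SI (k + 1 + 2)).swap by simp) r1
  rw [← lev_tv zero_ne_one', ← R.hφρ, ← map_inv, ← map_mul, ← map_mul, e, R.hφρ, ← lev_tv zero_ne_one'] at himg
  exact ⟨_, by rw [lev_injective himg]⟩

/-- The monomial data. -/
def toBase : Base Φ G where
  ρ := R.ρ
  p := R.p
  φ := R.φ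
  c := R.c
  hc := R.hc
  hc0 := R.hc0
  hφρ := R.hφρ
  hφp := R.hφp
  stab_p := fun M hM => (R.stab M hM).1
  comm_p1 := R.r5
  tau := R.tau
  norm1 := R.norm1
  psq := R.psq
  kcomm := R.kcomm
  knorm := R.knorm

end Rels

end CfsgLib.SUPres
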