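import Cfsg.Agent.SUPres.RelZ

/-!
# The rank one root group from the relations, rank at least three
-/

set_option autoImplicit false
set_option linter.unusedSectionVars false
set_option linter.unusedSimpArgs false

namespace CfsgLib.SUPres

open Matrix CfsgLib.RepBounds.Unit CfsgLib.SUThreeUnipotent CfsgLib.SUTwoGen CfsgLib.SL2Pres CfsgLib.SLnPres
open CfsgLib.SpnPres (IsMon monOf isMon_monOf)
open scoped commutatorElement

theorem conj_commute {G : Type*} [Group G] {n u x : G} (hn : Commute n u) (hx : Commute u x) :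
    Commute u (n * x * n⁻¹) :=
  ((hn.symm.mul_right hx).mul_right hn.symm.inv_right)

theorem commute_conj {G : Type*} [Group G] {u x : G} (n : G) (h : Commute u x) :
    Commute (n * u * n⁻¹) (n * x * n⁻¹) := by
  simpa [MulAut.conj_apply] using h.map (MulAut.conj n).toMonoidHom

variable {F : Type*} [Field F] [Fintype F] {C : ConjField F} {ι : Type*} [Fintype ι] [DecidableEq ι] {k : ℕ}

theorem mono_eq_one {m : ℕ} {Φ : PFrame C m ι} {g : suG C ι} (hg : IsMono Φ g)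
    (h : ∀ j, app C g (Φ.v (.inl j)) = Φ.v (.inl j)) : g = 1 := by
  have hv : ∀ c, app C g (Φ.v c) = Φ.v c := by
    rintro (j | j)
    · exact h j
    · have hm : Mv Φ g (.inr j) (.inr j) :=
        hg.swap (c := .inl j) (d := .inl j) (Mv.intro (a := 1) (by rw [one_smul]; exact h j))
      obtain ⟨b, -, e⟩ := hm
      have := herm_app C g (Φ.v (.inr j)) (Φ.v (.inl j))
      rw [e, h, herm_smul_left, show herm C (Φ.v (.inr j)) (Φ.v (.inl j)) = 1 from herm_v1 Φ (.inr j), mul_one] at this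
      rw [e, this, one_smul]
  refine suG_ext C fun x => ?_
  rw [app_one]
  refine frame_ext Φ (fun c => ?_) ?_
  · conv_lhs => rw [← hv c]
    rw [herm_app]
  · conv_lhs => rw [← hg.2]
    rw [herm_app]

/-- The relations of rank at least three, as identities. -/
structure Rels3 (Φ : PFrame C (k + 1 + 2) ι) (G : Type*) [Group G] extends Rels Φ G where
  r7 : toRels.toBase.cc 1 1 1 = 1
  r8 : ∃ z ∈ toRels.toBase.Zs 1, p = p * z * p⁻¹ * z * (p * z * p⁻¹)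
  r9 : ∃ r : F, r ≠ 0 ∧ ⁅ρ (tv 0 1 r), toRels.u1⁆⁻¹ * u ∈ toRels.toBase.XP (.inl 0) (.inl 1)
  r10 : Commute u (ρ (tv 0 1 1))
  r12 : Commute u toRels.q1
  r13 : ⁅u, toRels.u1⁆ ∈ toRels.toBase.XP (.inl 0) (.inl 1)

namespace Rels3

variable {Φ : PFrame C (k + 1 + 2) ι} {G : Type*} [Group G] (R : Rels3 Φ G)

/-- The monomial data. -/
abbrev A : Base Φ G := R.toRels.toBase

theorem one_ne : (1 : Fin (k + 1 + 2)) ≠ 0 := (zero_ne_one' (k := k + 1)).symm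

theorem exists_third (l : Fin (k + 1 + 2)) : ∃ j : Fin (k + 1 + 2), j ≠ 0 ∧ j ≠ l := by
  by_cases h : l = 1
  · exact ⟨2, ne20, by rw [h]; exact ne21⟩
  · exact ⟨1, one_ne, Ne.symm h⟩

/-- The long root group at `+0`. -/
def Z : Subgroup G := R.A.Zs 1

theorem Zs_eq_Z {j : Fin (k + 1 + 2)} (hj : j ≠ 0) : R.A.Zs j = R.Z := by
  by_cases h : j = 1
  · subst h; rfl
  · exact R.A.Zs_eq hj one_ne h

theorem Z_inj : InjOn' R.φ R.Z := fun _ hx h => R.A.Zs_inj one_ne ne20 ne21.symm R.r7 hx h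

theorem Z_image : (∀ z ∈ R.Z, ∃ γ, QV Φ 0 γ ∧ R.φ z = qEl Φ (.inl 0) 0 γ) ∧
    ∀ γ, QV Φ 0 γ → ∃ z ∈ R.Z, R.φ z = qEl Φ (.inl 0) 0 γ := by
  refine ⟨fun z hz => ?_, fun γ hγ => ?_⟩
  · obtain ⟨v, rfl⟩ := R.A.Zs_form one_ne ne20 ne21.symm hz
    refine ⟨_, qv_zero_iff.2 ?_, R.A.φ_cc one_ne 1 v⟩
    simp [C.invol]
  · obtain ⟨θ, hθ⟩ := C.exists_trace_one
    refine ⟨R.A.cc 1 1 (-γ * θ), R.A.cc_mem one_ne _ _, ?_⟩
    show R.A.φ _ = _
    rw [R.A.φ_cc one_ne]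
    congr 1
    rw [map_one, map_mul, map_neg, qv_zero_iff.1 hγ]
    linear_combination γ * hθ

theorem mv_fix {n : G} (hn : n ∈ R.A.N) (h0 : Mv Φ (R.φ n) (.inl 0) (.inl 0)) : cnj n R.Z = R.Z := by
  obtain ⟨d, hd⟩ := (R.A.N_mono hn).1 (.inl 1)
  have hd' : Mv Φ (R.A.φ n) (.inr 1) d.swap := (R.A.N_mono hn).swap (c := .inl 1) hd
  have hdz : ix d ≠ 0 := fun e => ix_ne_of_mv (R.A.N_mono hn) h0 hd zero_ne_one' e.symm
  conv_lhs => rw [Z, Base.Zs, cnj_commutator, R.A.cnj_XP hn h0 hd', R.A.cnj_XP hn h0 hd]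
  rcases d with j | j
  · exact R.Zs_eq_Z hdz
  · rw [Subgroup.commutator_comm]; exact R.Zs_eq_Z hdz

theorem Z_XP {d : SI (k + 1 + 2)} (hd : ix d ≠ 0) {x z : G} (hx : x ∈ R.A.XP (.inl 0) d) (hz : z ∈ R.Z) :
    Commute x z := by
  obtain ⟨j, hj, hjl⟩ := exists_third (ix d)
  rw [← R.Zs_eq_Z hj] at hz
  exact (Subgroup.mem_centralizer_iff.1 (R.A.Zs_commutes hj hjl hd rfl hx) _ hz).symm

theorem Z_le {H : Subgroup G} (h1 : ∀ d : SI (k + 1 + 2), ix d ≠ 0 → R.A.XP (.inl 0) d ≤ H) : R.Z ≤ H :=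
  Subgroup.commutator_le.2 fun a ha b hb => by
    rw [commutatorElement_def]
    have ha' := h1 (.inr 1) one_ne ha
    have hb' := h1 (.inl 1) one_ne hb
    exact mul_mem (mul_mem (mul_mem ha' hb') (inv_mem ha')) (inv_mem hb')

theorem commute_Z_of {x : G} (h : ∀ d : SI (k + 1 + 2), ix d ≠ 0 → ∀ y ∈ R.A.XP (.inl 0) d, Commute x y) {z : G}
    (hz : z ∈ R.Z) : Commute x z :=
  (Subgroup.mem_centralizer_singleton_iff.1
    (R.Z_le (H := Subgroup.centralizer {x}) (fun d hd y hy => Subgroup.mem_centralizer_singleton_iff.2 (h d hd y hy).symm) hz)).symm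

theorem Z_comm {z z' : G} (hz : z ∈ R.Z) (hz' : z' ∈ R.Z) : Commute z z' :=
  R.commute_Z_of (fun _ hd _ hy => (R.Z_XP hd hy hz).symm) hz'

theorem Z_tv {i l : Fin (k + 1 + 2)} (hi : i ≠ 0) (hl : l ≠ 0) (hil : i ≠ l) (t : F) {z : G} (hz : z ∈ R.Z) :
    Commute (R.ρ (tv i l t)) z := by
  have hg := R.A.tv_mem_XP hil t
  rw [← R.Zs_eq_Z hi] at hz
  refine (Subgroup.mem_centralizer_singleton_iff.1 ((Subgroup.commutator_le.2 fun a ha b hb => ?_ :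
    R.A.Zs i ≤ Subgroup.centralizer {R.ρ (tv i l t)}) hz)).symm
  rw [Subgroup.mem_centralizer_singleton_iff]
  obtain ⟨r, rfl⟩ := R.A.el_surj (d := .inr i) hi ha
  obtain ⟨e, -⟩ := R.A.conj_tv_el hi hl hil t r
  have hb' : Commute (R.ρ (tv i l t)) b := by
    refine commute_of_bot (R.A.comm_share (c := .inl i) (d := .inr l) (e := .inl 0) hil hi hl) hg ?_
    rw [R.A.XP_symm]; exact hb
  set g := R.ρ (tv i l t)
  set U := R.A.el (.inr l) (-C.σ t * r)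
  set X := R.A.el (.inr i) r
  change g * X * g⁻¹ = U * X at e
  have hU : U ∈ R.A.XP (.inl 0) (.inr l) := R.A.el_mem (d := .inr l) hl _
  have hUb : Commute U b :=
    commute_of_bot (R.A.comm_share (c := .inl 0) (d := .inr l) (e := .inl i) hl.symm hi.symm (Ne.symm hil)) hU hb
  have hUz : Commute U ⁅X, b⁆ := R.Z_XP (d := .inr l) hl hU (by
    rw [← R.Zs_eq_Z hi]
    exact Subgroup.commutator_mem_commutator (R.A.el_mem (d := .inr i) hi r) hb)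
  have key : g * ⁅X, b⁆ * g⁻¹ = ⁅X, b⁆ := by
    calc g * ⁅X, b⁆ * g⁻¹ = ⁅g * X * g⁻¹, g * b * g⁻¹⁆ := by simp only [commutatorElement_def]; group
      _ = ⁅U * X, b⁆ := by rw [e, hb'.eq, mul_inv_cancel_right]
      _ = U * ⁅X, b⁆ * U⁻¹ * ⁅U, b⁆ := by simp only [commutatorElement_def]; group
      _ = _ := by rw [hUz.eq, mul_inv_cancel_right, commutatorElement_eq_one_iff_commute.2 hUb, mul_one]
  exact (mul_inv_eq_iff_eq_mul.1 key).symm

/-! ### The short elements -/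

open Classical in
/-- The short element with parameter `a`. -/
noncomputable def U (a : F) : G :=
  if h : a = 0 then 1
  else R.ρ (hh 0 2 (Units.mk0 (C.σ a) ((map_ne_zero C.σ).2 h))) * R.u *
    (R.ρ (hh 0 2 (Units.mk0 (C.σ a) ((map_ne_zero C.σ).2 h))))⁻¹

theorem U_zero : R.U 0 = 1 := by rw [U, dif_pos rfl]

theorem hh02_mem (b : Fˣ) : R.ρ (hh 0 2 b) ∈ R.A.N :=
  R.A.ρ_mem_N (Dg_le_Mn (hh_mem ne20.symm b))

theorem U_cases (a : F) : R.U a = 1 ∨ ∃ b : Fˣ, (b : F) = C.σ a ∧ R.U a = R.ρ (hh 0 2 b) * R.u * (R.ρ (hh 0 2 b))⁻¹ := by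
  by_cases h : a = 0
  · left; rw [h, U_zero]
  · exact Or.inr ⟨_, rfl, by rw [U, dif_neg h]⟩

theorem U_ne {a : F} (ha : a ≠ 0) :
    ∃ b : Fˣ, (b : F) = C.σ a ∧ R.U a = R.ρ (hh 0 2 b) * R.u * (R.ρ (hh 0 2 b))⁻¹ :=
  ⟨_, rfl, by rw [U, dif_neg ha]⟩

theorem U_of_unit (b : Fˣ) : R.U (C.σ b) = R.ρ (hh 0 2 b) * R.u * (R.ρ (hh 0 2 b))⁻¹ := by
  rw [U, dif_neg ((map_ne_zero C.σ).2 b.ne_zero)]
  have e : Units.mk0 (C.σ (C.σ (b : F))) ((map_ne_zero C.σ).2 ((map_ne_zero C.σ).2 b.ne_zero)) = b :=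
    Units.ext (C.invol _)
  simp only [e]

theorem U_one : R.U 1 = R.u := by
  have h := R.U_of_unit 1
  rw [Units.val_one, map_one] at h
  rw [h, show hh (m := k + 1 + 2) (F := F) 0 2 1 = 1 by rw [hh, hD_one, map_one], map_one]
  simp

/-- Conjugation of `u` by monomial matrices fixing `0`. -/
theorem conj_u {M : Matrix.SpecialLinearGroup (Fin (k + 1 + 2)) F} {π : Equiv.Perm (Fin (k + 1 + 2))}
    {c : Fin (k + 1 + 2) → F} (h : IsMon M π c) (h0 : π 0 = 0) :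
    R.ρ M * R.u * (R.ρ M)⁻¹ = R.U (C.σ (c 0)) := by
  set b := Units.mk0 (c 0) (h.ne 0) with hb
  have hm := hh_mon (F := F) (i := (0 : Fin (k + 1 + 2))) (j := 2) ne20.symm b
  have hT : Triv 0 ((hh 0 2 b)⁻¹ * M) := by
    refine triv_mon (hm.inv.mul h) (by simp [h0]) ?_
    simp [h0, hb]
    field_simp [h.ne 0]
  have hU := R.U_of_unit b
  rw [show ((b : Fˣ) : F) = c 0 from rfl] at hU
  rw [hU, show M = hh 0 2 b * ((hh 0 2 b)⁻¹ * M) by group, map_mul, mul_assoc (R.ρ (hh 0 2 b)) _ R.u,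
    (R.stab _ hT).2.eq]
  group

theorem conj_U {M : Matrix.SpecialLinearGroup (Fin (k + 1 + 2)) F} {π : Equiv.Perm (Fin (k + 1 + 2))}
    {c : Fin (k + 1 + 2) → F} (h : IsMon M π c) (h0 : π 0 = 0) (a : F) :
    R.ρ M * R.U a * (R.ρ M)⁻¹ = R.U (C.σ (c 0) * a) := by
  by_cases ha : a = 0
  · rw [ha, mul_zero, U_zero]; simp
  · set b := Units.mk0 (C.σ a) ((map_ne_zero C.σ).2 ha) with hb
    have e : R.U a = R.ρ (hh 0 2 b) * R.u * (R.ρ (hh 0 2 b))⁻¹ := by rw [U, dif_neg ha]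
    have hm := h.mul (hh_mon (F := F) (i := (0 : Fin (k + 1 + 2))) (j := 2) ne20.symm b)
    rw [e, show R.ρ M * (R.ρ (hh 0 2 b) * R.u * (R.ρ (hh 0 2 b))⁻¹) * (R.ρ M)⁻¹ =
      R.ρ (M * hh 0 2 b) * R.u * (R.ρ (M * hh 0 2 b))⁻¹ by rw [map_mul]; group,
      R.conj_u hm (by simp [h0])]
    simp [hb, C.invol, mul_comm]

theorem u_tv {j : Fin (k + 1 + 2)} (hj : j ≠ 0) (t : F) : Commute R.u (R.ρ (tv 0 j t)) := by
  have h1 : ∀ t : F, Commute R.u (R.ρ (tv 0 1 t)) := by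
    intro t
    by_cases ht : t = 0
    · rw [ht, tv_zero, map_one]; exact Commute.one_right _
    have hm := hh_mon (F := F) (i := (2 : Fin (k + 1 + 2))) (j := 1) ne21 (Units.mk0 t ht)
    have e : R.ρ (hh 2 1 (Units.mk0 t ht)) * R.ρ (tv 0 1 1) * (R.ρ (hh 2 1 (Units.mk0 t ht)))⁻¹ = R.ρ (tv 0 1 t) := by
      rw [← map_inv, ← map_mul, ← map_mul, hm.mul_tv zero_ne_one']
      congr 2
      simp [ne20.symm, ne21.symm, one_ne, (one_ne (k := k)).symm]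
    rw [← e]
    exact conj_commute (R.stab _ (hh_triv ne21 ne20.symm zero_ne_one' _)).2 R.r10
  by_cases h : j = 1
  · subst h; exact h1 t
  have hM := isMon_monOf (F := F) (Equiv.swap (1 : Fin (k + 1 + 2)) j) 1
  have hπ : Equiv.swap (1 : Fin (k + 1 + 2)) j 0 = 0 := Equiv.swap_apply_of_ne_of_ne zero_ne_one' hj.symm
  set M : Matrix.SpecialLinearGroup (Fin (k + 1 + 2)) F := monOf (Equiv.swap 1 j) 1 with hMd
  set d := CfsgLib.SpnPres.dOne (1 : Fin (k + 1 + 2)) ((Equiv.Perm.sign (Equiv.swap (1 : Fin (k + 1 + 2)) j) : ℤ) : F) with hd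
  have e : R.ρ M * R.ρ (tv 0 1 (t * d 1 / d 0)) * (R.ρ M)⁻¹ = R.ρ (tv 0 j t) := by
    rw [← map_inv, ← map_mul, ← map_mul, hM.mul_tv zero_ne_one', hπ, Equiv.swap_apply_left]
    congr 2
    have n0 := hM.ne 0
    have n1 := hM.ne 1
    field_simp
  rw [← e]
  exact conj_commute (R.stab _ (triv_mon hM hπ (by simp [hd, CfsgLib.SpnPres.dOne_apply, one_ne.symm]))).2 (h1 _)

/-- A monomial matrix with `1 ↦ j`. -/
def Mj (j : Fin (k + 1 + 2)) : Matrix.SpecialLinearGroup (Fin (k + 1 + 2)) F := monOf (Equiv.swap 1 j) 1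

/-- The exchange at `j`. -/
def qq (j : Fin (k + 1 + 2)) : G := R.ρ (Mj j) * R.q1 * (R.ρ (Mj j))⁻¹

theorem swap_fix {j : Fin (k + 1 + 2)} (hj : j ≠ 0) : Equiv.swap (1 : Fin (k + 1 + 2)) j 0 = 0 :=
  Equiv.swap_apply_of_ne_of_ne zero_ne_one' hj.symm

theorem Mj_triv {j : Fin (k + 1 + 2)} (hj : j ≠ 0) :
    Triv 0 (Mj j : Matrix.SpecialLinearGroup (Fin (k + 1 + 2)) F) :=
  triv_mon (isMon_monOf _ _) (swap_fix hj) (by simp [CfsgLib.SpnPres.dOne_apply, one_ne.symm])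

theorem qq_u {j : Fin (k + 1 + 2)} (hj : j ≠ 0) : Commute (R.qq j) R.u :=
  (conj_commute (R.stab _ (Mj_triv hj)).2 R.r12).symm

theorem qq_mem (j : Fin (k + 1 + 2)) : R.qq j ∈ R.A.N :=
  mul_mem (mul_mem (R.A.ρ_mem_N ⟨_, _, isMon_monOf _ _⟩) R.A.p1_mem_N)
    (inv_mem (R.A.ρ_mem_N ⟨_, _, isMon_monOf _ _⟩))

theorem qq_cong {j : Fin (k + 1 + 2)} : R.A.Cong (R.qq j) (R.A.pp j) := by
  have hM := isMon_monOf (F := F) (Equiv.swap (1 : Fin (k + 1 + 2)) j) 1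
  have h := R.A.conj_pp hM 1
  rw [Equiv.swap_apply_left] at h
  exact R.A.cong_trans (R.A.cong_conj (R.A.ρ_normalizer ⟨_, _, hM⟩) R.A.p1_cong) h

theorem mv_qq (j : Fin (k + 1 + 2)) (d : SI (k + 1 + 2)) :
    Mv Φ (R.φ (R.qq j)) d (if ix d = j then d.swap else d) := by
  have h1 : R.qq j * (R.A.pp j)⁻¹ ∈ R.A.TP := R.qq_cong
  rw [show R.qq j = R.qq j * (R.A.pp j)⁻¹ * R.A.pp j by group, map_mul]
  exact ((R.A.TP_diag h1).2 _).mul (R.A.mv_pp j d)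

theorem mv_qq0 {j : Fin (k + 1 + 2)} (hj : j ≠ 0) : Mv Φ (R.φ (R.qq j)) (.inl 0) (.inl 0) := by
  have := R.mv_qq j (.inl 0)
  rwa [ix_inl, if_neg hj.symm] at this

theorem u_el {d : SI (k + 1 + 2)} (hd : ix d ≠ 0) {x : G} (hx : x ∈ R.A.XP (.inl 0) d) : Commute R.u x := by
  have hneg : ∀ j : Fin (k + 1 + 2), j ≠ 0 → ∀ x ∈ R.A.XP (.inl 0) (.inr j), Commute R.u x := fun j hj x hx => by
    obtain ⟨t, rfl⟩ := R.A.XP_levi hj.symm hx
    exact R.u_tv hj t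
  rcases d with j | j
  · have h1 : Mv Φ (R.A.φ (R.qq j)) (.inr j) (.inl j) := by
      have := R.mv_qq j (.inr j)
      rwa [ix_inr, if_pos rfl, Sum.swap_inr] at this
    rw [← R.A.cnj_XP (R.qq_mem j) (R.mv_qq0 hd) h1] at hx
    obtain ⟨y, hy, rfl⟩ := hx
    exact conj_commute (R.qq_u hd) (hneg j hd y hy)
  · exact hneg j hd x hx

theorem u_Z {z : G} (hz : z ∈ R.Z) : Commute R.u z := R.commute_Z_of (fun _ hd _ hy => R.u_el hd hy) hz

theorem mv_hh02 (b : Fˣ) (d : SI (k + 1 + 2)) : Mv Φ (R.φ (R.ρ (hh 0 2 b))) d d := by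
  show Mv Φ (R.A.φ (R.A.ρ (hh 0 2 b))) d d
  simpa using R.A.mv_ρ (hh_mon (F := F) (i := (0 : Fin (k + 1 + 2))) (j := 2) ne20.symm b) d

theorem U_el {d : SI (k + 1 + 2)} (hd : ix d ≠ 0) {x : G} (hx : x ∈ R.A.XP (.inl 0) d) (a : F) :
    Commute (R.U a) x := by
  rcases R.U_cases a with e | ⟨b, -, e⟩ <;> rw [e]
  · exact Commute.one_left _
  · rw [← R.A.cnj_XP (R.hh02_mem b) (R.mv_hh02 b _) (R.mv_hh02 b d)] at hx
    obtain ⟨y, hy, rfl⟩ := hx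
    exact commute_conj _ (R.u_el hd hy)

theorem U_Z {z : G} (hz : z ∈ R.Z) (a : F) : Commute (R.U a) z :=
  R.commute_Z_of (fun _ hd _ hy => R.U_el hd hy a) hz

theorem U_img (a : F) : QV Φ (a * eps Φ) (R.γ1 * (a * C.σ a)) ∧
    R.φ (R.U a) = qEl Φ (.inl 0) (a * eps Φ) (R.γ1 * (a * C.σ a)) := by
  have hξ : (1 : F) * C.σ 1 * eps Φ = eps Φ := by simp
  have hv : QV Φ (a * eps Φ) (R.γ1 * (a * C.σ a)) := by
    have := R.hv1.scale (s := C.σ a) hξ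
    simpa [C.invol, mul_comm, mul_assoc] using this
  refine ⟨hv, ?_⟩
  by_cases ha : a = 0
  · subst ha; rw [U_zero, map_one]; simp [qEl_zero]
  · obtain ⟨b, hb, e⟩ := R.U_ne ha
    have hm := hh_mon (F := F) (i := (0 : Fin (k + 1 + 2))) (j := 2) ne20.symm b
    have hc : app C (R.φ (R.ρ (hh 0 2 b))) (Φ.v (.inl 0)) = C.σ a • Φ.v (.inl 0) := by
      rw [R.hφρ, lev_mon_inl hm]; simp [hb]
    rw [e, map_mul, map_mul, map_inv, R.hφu,
      conj_qEl' (show IsMono Φ (R.φ (R.ρ (hh 0 2 b))) from R.A.isMono_ρ (Dg_le_Mn (hh_mem ne20.symm b))) hc R.hv1,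
      C.invol]
    congr 1
    ring

theorem x_hh02 (b : Fˣ) (r : F) :
    R.ρ (hh 0 2 b) * R.ρ (tv 0 1 r) * (R.ρ (hh 0 2 b))⁻¹ = R.ρ (tv 0 1 (b * r)) := by
  rw [← map_inv, ← map_mul, ← map_mul,
    (hh_mon (F := F) (i := (0 : Fin (k + 1 + 2))) (j := 2) ne20.symm b).mul_tv zero_ne_one']
  congr 2
  simp [one_ne, ne21.symm, (one_ne (k := k)).symm]

theorem u1_hh02 (b : Fˣ) : Commute (R.ρ (hh 0 2 b)) R.u1 :=
  (R.stab1 (hh_triv (m := k + 1 + 2) ne20.symm zero_ne_one'.symm ne21.symm b)).2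

theorem r9_family : ∃ r : F, r ≠ 0 ∧ ∀ a, ∃ w ∈ R.A.XP (.inl 0) (.inl 1),
    ⁅R.ρ (tv 0 1 (C.σ a * r)), R.u1⁆ = R.U a * w := by
  obtain ⟨r, hr, hw⟩ := R.r9
  refine ⟨r, hr, fun a => ?_⟩
  by_cases ha : a = 0
  · exact ⟨1, one_mem _, by simp [ha, U_zero, tv_zero]⟩
  obtain ⟨b, hb, e⟩ := R.U_ne ha
  set w := ⁅R.ρ (tv 0 1 r), R.u1⁆⁻¹ * R.u with hwd
  have hU : ⁅R.ρ (tv 0 1 r), R.u1⁆ = R.u * w⁻¹ := by rw [hwd]; group
  refine ⟨R.ρ (hh 0 2 b) * w⁻¹ * (R.ρ (hh 0 2 b))⁻¹, ?_, ?_⟩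
  · exact (R.A.cnj_XP (R.hh02_mem b) (R.mv_hh02 b (.inl 0)) (R.mv_hh02 b (.inl 1))).le (conj_mem_cnj (inv_mem hw))
  · rw [← hb, ← R.x_hh02, e, show R.ρ (hh 0 2 b) * R.u * (R.ρ (hh 0 2 b))⁻¹ *
      (R.ρ (hh 0 2 b) * w⁻¹ * (R.ρ (hh 0 2 b))⁻¹) = R.ρ (hh 0 2 b) * (R.u * w⁻¹) * (R.ρ (hh 0 2 b))⁻¹ by group, ← hU]
    conv_lhs => arg 2; rw [show R.u1 = R.ρ (hh 0 2 b) * R.u1 * (R.ρ (hh 0 2 b))⁻¹ by
      rw [(R.u1_hh02 b).eq, mul_inv_cancel_right]]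
    simp only [commutatorElement_def]; group

/-- The root group of `+0, +1`. -/
def P : Subgroup G := R.A.XP (.inl 0) (.inl 1)

theorem P_Z {w z : G} (hw : w ∈ R.P) (hz : z ∈ R.Z) : Commute w z := R.Z_XP (d := .inl 1) one_ne hw hz

theorem P_U {w : G} (hw : w ∈ R.P) (a : F) : Commute (R.U a) w := R.U_el (d := .inl 1) one_ne hw a

theorem ZP_inj : InjOn' R.φ (R.Z ⊔ R.P) := by
  refine injOn_sup (normalizer_of_commutator_le (Subgroup.commutator_le.2 fun a ha b hb => ?_))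
    R.Z_inj (fun _ hx h => R.A.XP_inj hx h) fun a ha b hb e => ?_
  · rw [commutatorElement_eq_one_iff_commute.2 (R.P_Z hb ha).symm]
    exact one_mem _
  · obtain ⟨γ, hv, ea⟩ := R.Z_image.1 a ha
    obtain ⟨r, er⟩ := (R.A.XP_image (c := .inl 0) (d := .inl 1) zero_ne_one').1 b hb
    rw [e]
    exact er.trans (pEl_ne_qEl (c := .inl 0) (e := .inl 1) zero_ne_one' hv (er.symm.trans (e.symm.trans ea)))

theorem U_mul (a b : F) : (R.U (a + b))⁻¹ * (R.U a * R.U b) ∈ R.Z := by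
  obtain ⟨r, hr, hw⟩ := R.r9_family
  obtain ⟨w', hw', e'⟩ := hw a
  obtain ⟨wb, hwb, eb⟩ := hw b
  obtain ⟨w, hwab, e⟩ := hw (a + b)
  set x := R.ρ (tv 0 1 (C.σ b * r)) with hx
  have hxm : x ∈ R.A.XP (.inl 0) (.inr 1) := R.A.tv_mem_XP zero_ne_one' _
  have hxU : Commute x (R.U a) := (R.U_el (d := .inr 1) one_ne hxm a).symm
  set z := ⁅x, w'⁆ with hz
  have hzZ : z ∈ R.Z := Subgroup.commutator_mem_commutator hxm hw'
  rw [map_add, show (C.σ a + C.σ b) * r = C.σ b * r + C.σ a * r by ring, tv_add' zero_ne_one', map_mul, ← hx] at e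
  have e2 : R.U (a + b) * w = R.U a * R.U b * (z * w' * wb) := by
    rw [← e]
    have e3 : ∀ y v : G, ⁅x * y, v⁆ = x * ⁅y, v⁆ * x⁻¹ * ⁅x, v⁆ := fun y v => by
      simp only [commutatorElement_def]; group
    rw [e3, e', eb]
    calc x * (R.U a * w') * x⁻¹ * (R.U b * wb) = x * R.U a * x⁻¹ * (x * w' * x⁻¹) * (R.U b * wb) := by group
      _ = R.U a * (z * w') * (R.U b * wb) := by
        rw [hxU.eq, mul_inv_cancel_right, hz, commutatorElement_def]; group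
      _ = R.U a * ((z * w') * R.U b) * wb := by group
      _ = _ := by rw [((R.U_Z hzZ b).mul_right (R.P_U hw' b)).eq.symm]; group
  have e4 : (R.U (a + b))⁻¹ * (R.U a * R.U b) = w * (z * w' * wb)⁻¹ := by
    rw [inv_mul_eq_iff_eq_mul, ← mul_assoc (R.U (a + b)), e2, mul_inv_cancel_right]
  refine R.ZP_inj.mem le_sup_left ?_ ?_
  · rw [e4]
    exact mul_mem (Subgroup.mem_sup_right hwab) (inv_mem (mul_mem (mul_mem (Subgroup.mem_sup_left hzZ)
      (Subgroup.mem_sup_right hw')) (Subgroup.mem_sup_right hwb)))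
  · obtain ⟨ha, ea⟩ := R.U_img a
    obtain ⟨hb, ebb⟩ := R.U_img b
    obtain ⟨hab, eab⟩ := R.U_img (a + b)
    have hq := hab.inv.mul (ha.mul hb)
    rw [map_mul, map_mul, map_inv, ea, ebb, eab, qEl_inv hab, qEl_mul ha hb, qEl_mul hab.inv (ha.mul hb)]
    rw [show -((a + b) * eps Φ) + (a * eps Φ + b * eps Φ) = 0 by ring] at hq ⊢
    obtain ⟨z', hz', ez'⟩ := R.Z_image.2 _ hq
    exact ⟨z', hz', ez'⟩

/-- The root group of one index. -/
def Ys : Subgroup G where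
  carrier := {x | ∃ a, ∃ z ∈ R.Z, x = R.U a * z}
  one_mem' := ⟨0, 1, one_mem _, by rw [U_zero, one_mul]⟩
  mul_mem' := by
    rintro _ _ ⟨a, z, hz, rfl⟩ ⟨b, z', hz', rfl⟩
    refine ⟨a + b, (R.U (a + b))⁻¹ * (R.U a * R.U b) * (z * z'),
      mul_mem (R.U_mul a b) (mul_mem hz hz'), ?_⟩
    calc R.U a * z * (R.U b * z') = R.U a * (z * R.U b) * z' := by group
      _ = _ := by rw [← (R.U_Z hz b).eq]; group
  inv_mem' := by
    rintro _ ⟨a, z, hz, rfl⟩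
    have h := R.U_mul a (-a)
    rw [add_neg_cancel, U_zero, inv_one, one_mul] at h
    refine ⟨-a, (R.U a * R.U (-a))⁻¹ * z⁻¹, mul_mem (inv_mem h) (inv_mem hz), ?_⟩
    rw [_root_.mul_inv_rev, ((R.U_Z hz a).inv_left.inv_right).eq.symm]
    group

theorem U_mem (a : F) : R.U a ∈ R.Ys := ⟨a, 1, one_mem _, (mul_one _).symm⟩

theorem Z_le_Ys : R.Z ≤ R.Ys := fun z hz => ⟨0, z, hz, by rw [U_zero, one_mul]⟩

theorem u_mem : R.u ∈ R.Ys := by rw [← R.U_one]; exact R.U_mem 1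

theorem Ys_img : ∀ x ∈ R.Ys, ∃ a γ, QV Φ a γ ∧ R.φ x = qEl Φ (.inl 0) a γ := by
  rintro _ ⟨a, z, hz, rfl⟩
  obtain ⟨h1, e1⟩ := R.U_img a
  obtain ⟨γ, h2, e2⟩ := R.Z_image.1 z hz
  exact ⟨_, _, h1.mul h2, by rw [map_mul, e1, e2, qEl_mul h1 h2]⟩

theorem U_eps (h : eps Φ = 0) (a : F) : R.U a = 1 := by
  rcases R.U_cases a with e | ⟨b, -, e⟩
  · exact e
  · rw [e, R.hu0 h, mul_one, mul_inv_cancel]

theorem Ys_inj : InjOn' R.φ R.Ys := by
  rintro _ ⟨a, z, hz, rfl⟩ h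
  obtain ⟨h1, e1⟩ := R.U_img a
  obtain ⟨γ, h2, e2⟩ := R.Z_image.1 z hz
  rw [map_mul, e1, e2, qEl_mul h1 h2, ← qEl_zero (Φ := Φ) (.inl 0), qEl_eq_iff (h1.mul h2) QV.zero] at h
  have hU : R.U a = 1 := by
    rcases eps_cases Φ with h0 | h0
    · exact R.U_eps h0 a
    · have := congrArg (fun x => herm C x Φ.x0) h.1
      simp only [herm_smul_left, add_zero, zero_mul] at this
      rw [show herm C Φ.x0 Φ.x0 = 1 from h0, mul_one, h0, mul_one] at this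
      rw [this, U_zero]
  rw [hU, one_mul]
  refine R.Z_inj z hz ?_
  have h3 := h.2
  rw [e2, ← qEl_zero (Φ := Φ) (.inl 0), qEl_eq_iff h2 QV.zero]
  refine ⟨rfl, ?_⟩
  have e0 : R.φ (R.U a) = 1 := by rw [hU, map_one]
  rw [e1, ← qEl_zero (Φ := Φ) (.inl 0), qEl_eq_iff h1 QV.zero] at e0
  rw [e0.2] at h3
  simpa using h3

theorem Ys_surj (a γ : F) (h : QV Φ a γ) : ∃ x ∈ R.Ys, R.φ x = qEl Φ (.inl 0) a γ := by
  obtain ⟨h1, e1⟩ := R.U_img a
  have h' : QV Φ (a * eps Φ) γ := by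
    unfold QV at *
    rw [map_mul, σ_eps]
    linear_combination h + (a * C.σ a) * (eps Φ + 1) * eps_sq Φ
  obtain ⟨z, hz, ez⟩ := R.Z_image.2 _ (h1.split h')
  refine ⟨_, ⟨a, z, hz, rfl⟩, ?_⟩
  rw [map_mul, e1, ez, qEl_mul h1 (h1.split h'), qEl_eq_iff (h1.mul (h1.split h')) h]
  refine ⟨?_, by ring⟩
  rw [add_zero, mul_smul, eps_smul]

/-- The elements normalising the root group of one index. -/
theorem norm_Ys {n : G} (hn : n ∈ R.A.N) (h0 : Mv Φ (R.φ n) (.inl 0) (.inl 0))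
    (h : ∀ a, n * R.U a * n⁻¹ ∈ R.Ys) : n ∈ Subgroup.normalizer (R.Ys : Set G) := by
  have : Finite R.Ys := Finite.of_injective (fun x : R.Ys => R.φ x) fun x y e =>
    Subtype.ext (R.Ys_inj.ext x.2 y.2 e)
  rw [Subgroup.mem_normalizer_iff]
  refine fun y => (mem_normalizer_fin (y := n) ?_).symm
  rintro _ ⟨a, z, hz, rfl⟩
  rw [show n * (R.U a * z) * n⁻¹ = n * R.U a * n⁻¹ * (n * z * n⁻¹) by group]
  exact mul_mem (h a) (R.Z_le_Ys ((R.mv_fix hn h0).le (conj_mem_cnj hz)))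

theorem qq_U {j : Fin (k + 1 + 2)} (hj : j ≠ 0) (a : F) : R.qq j * R.U a * (R.qq j)⁻¹ ∈ R.Ys := by
  have hS := isMon_monOf (F := F) (Equiv.swap (1 : Fin (k + 1 + 2)) j) 1
  set M : Matrix.SpecialLinearGroup (Fin (k + 1 + 2)) F := monOf (Equiv.swap 1 j) 1 with hMd
  have h1 : (R.ρ M)⁻¹ * R.U a * R.ρ M = R.U a := by
    have := R.conj_U hS.inv (by simp [Equiv.swap_apply_of_ne_of_ne zero_ne_one' hj.symm]) a
    rw [map_inv, inv_inv] at this
    refine this.trans ?_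
    simp [CfsgLib.SpnPres.dOne_apply, Equiv.swap_apply_of_ne_of_ne zero_ne_one' hj.symm, one_ne.symm]
  have h2 : Commute R.q1 (R.U a) := by
    rcases R.U_cases a with e | ⟨b, -, e⟩ <;> rw [e]
    · exact Commute.one_right _
    · exact ((R.stab1 (hh_triv (m := k + 1 + 2) ne20.symm zero_ne_one'.symm ne21.symm b)).1.symm.mul_right
        R.r12.symm).mul_right (R.stab1 (hh_triv (m := k + 1 + 2) ne20.symm zero_ne_one'.symm ne21.symm b)).1.symm.inv_right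
  have e : R.qq j * R.U a * (R.qq j)⁻¹ = R.ρ M * (R.q1 * ((R.ρ M)⁻¹ * R.U a * R.ρ M) * R.q1⁻¹) * (R.ρ M)⁻¹ := by
    simp only [qq, Mj, ← hMd]; group
  rw [e, h1, h2.eq, mul_inv_cancel_right, R.conj_U hS (swap_fix hj)]
  exact R.U_mem _

theorem ρ_norm {M : Matrix.SpecialLinearGroup (Fin (k + 1 + 2)) F} {π : Equiv.Perm (Fin (k + 1 + 2))}
    {c : Fin (k + 1 + 2) → F} (h : IsMon M π c) (h0 : π 0 = 0) :
    R.ρ M ∈ Subgroup.normalizer (R.Ys : Set G) := by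
  refine R.norm_Ys (R.A.ρ_mem_N ⟨_, _, h⟩) ?_ fun a => by rw [R.conj_U h h0]; exact R.U_mem _
  have := R.A.mv_ρ h (.inl 0)
  rwa [Sum.map_inl, h0] at this

theorem qq_norm {j : Fin (k + 1 + 2)} (hj : j ≠ 0) : R.qq j ∈ Subgroup.normalizer (R.Ys : Set G) :=
  R.norm_Ys (R.qq_mem j) (R.mv_qq0 hj) fun a => R.qq_U hj a

theorem kk_norm (a : Fˣ) : R.A.kk a ∈ Subgroup.normalizer (R.Ys : Set G) := by
  set s : Fˣ := Units.mk0 (C.σ (a : F)) ((map_ne_zero C.σ).2 a.ne_zero) with hs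
  set D : Matrix.SpecialLinearGroup (Fin (k + 1 + 2)) F := h01 (k + 1) s⁻¹ * hh 2 1 a with hD
  set K := R.A.p1 * R.ρ (hh 1 2 a) * R.A.p1⁻¹ with hK
  have hm12 := hh_mon (F := F) (i := (1 : Fin (k + 1 + 2))) (j := 2) ne21.symm a
  have hm21 := hh_mon (F := F) (i := (2 : Fin (k + 1 + 2))) (j := 1) ne21 a
  have hDm := (h01_mon (k := k + 1) s⁻¹).mul hm21
  have hKT : K ∈ R.A.TP := by
    have hn : R.A.p1 ∈ Subgroup.normalizer (R.A.TP : Set G) :=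
      mul_mem (mul_mem (R.A.ρ_normalizer w01_mem) R.A.p_normalizer) (inv_mem (R.A.ρ_normalizer w01_mem))
    exact (Subgroup.mem_normalizer_iff.1 hn _).1 (R.A.ρ_mem_TP (hh_mem ne21.symm a))
  have hDT : D ∈ Dg (Fin (k + 1 + 2)) F := mul_mem (h01_mem _) (hh_mem ne21 a)
  have hscal : ∀ (g h : suG C ι) (c d : SI (k + 1 + 2)) (t : F), Mv Φ g c d → app C h (Φ.v c) = t • Φ.v c →
      app C (g * h * g⁻¹) (Φ.v d) = t • Φ.v d := by
    rintro g h c d t ⟨s, hs, e⟩ eh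
    have e' : app C g⁻¹ (Φ.v d) = s⁻¹ • Φ.v c := app_inv_eq C (by
      rw [app_smul, e, smul_smul, inv_mul_cancel₀ hs, one_smul])
    rw [app_mul, app_mul, e', app_smul, eh, app_smul, app_smul, e, smul_smul, smul_smul]
    congr 1
    field_simp
  have hkey : R.A.kk a = R.ρ D * K := by
    rw [← mul_inv_eq_one]
    have hmem : R.A.kk a * (R.ρ D * K)⁻¹ ∈ R.A.TP :=
      mul_mem (R.A.kk_mem_TP a) (inv_mem (mul_mem (R.A.ρ_mem_TP hDT) hKT))
    refine R.A.TP_inj hmem ?_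
    rw [map_mul, map_inv, mul_inv_eq_one, ← inv_mul_eq_one]
    refine mono_eq_one ((R.A.TP_diag (R.A.kk_mem_TP a)).1.inv.mul
      (R.A.TP_diag (mul_mem (R.A.ρ_mem_TP hDT) hKT)).1) fun j => ?_
    rw [app_mul]
    refine app_inv_eq C ?_
    -- the scalars at `+j`
    have hk : app C (R.A.φ (R.A.kk a)) (Φ.v (.inl j)) =
        (if j = 0 then (C.σ (a : F))⁻¹ else if j = 1 then (a : F)⁻¹ else 1) • Φ.v (.inl j) := by
      rw [R.A.kk_apply, map_mul, map_mul, map_inv]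
      by_cases hj : j = 0
      · subst hj
        refine hscal _ _ (.inr 0) _ _ (R.A.mv_p0 (.inr 0) rfl) ?_
        rw [R.A.hφρ, lev_mon_inr (h01_mon (k := k + 1) a)]; simp
      · refine hscal _ _ (.inl j) _ _ (R.A.mv_p (.inl j) hj) ?_
        rw [R.A.hφρ, lev_mon_inl (h01_mon (k := k + 1) a)]; simp [hj]
    have hK' : app C (R.A.φ K) (Φ.v (.inl j)) =
        (if j = 1 then (C.σ (a : F))⁻¹ else if j = 2 then (a : F)⁻¹ else 1) • Φ.v (.inl j) := by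
      rw [hK, map_mul, map_mul, map_inv]
      by_cases hj : j = 1
      · subst hj
        have hp := R.A.mv_p1 (.inr 1)
        rw [ix_inr, if_pos rfl, Sum.swap_inr] at hp
        refine hscal _ _ (.inr 1) _ _ hp ?_
        show app C (R.A.φ (R.A.ρ (hh 1 2 a))) _ = _
        rw [R.A.hφρ, lev_mon_inr hm12]; simp
      · have hp := R.A.mv_p1 (.inl j)
        rw [ix_inl, if_neg hj] at hp
        refine hscal _ _ (.inl j) _ _ hp ?_
        show app C (R.A.φ (R.A.ρ (hh 1 2 a))) _ = _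
        rw [R.A.hφρ, lev_mon_inl hm12]; simp [hj]
    rw [map_mul, app_mul, hK', app_smul]
    show app C (R.A.φ (R.A.kk a)) _ = _ • app C (R.A.φ (R.A.ρ D)) _
    rw [hk, R.A.hφρ, lev_mon_inl hDm, smul_smul]
    simp only [Equiv.Perm.one_apply]
    congr 1
    have n1 := (map_ne_zero C.σ).2 a.ne_zero
    have n2 := a.ne_zero
    by_cases e0 : j = 0
    · subst e0; simp [hs, ne20.symm, (one_ne (k := k)).symm]
    by_cases e1 : j = 1
    · subst e1; simp [hs, ne21.symm, one_ne]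
    by_cases e2 : j = 2
    · subst e2; simp [ne20, ne21]
    simp [e0, e1, e2]
  refine R.norm_Ys (R.A.TP_le_N (R.A.kk_mem_TP a)) ((R.A.TP_diag (R.A.kk_mem_TP a)).2 _) fun b => ?_
  have hKU : Commute K (R.U b) := by
    rcases R.U_cases b with e | ⟨b', -, e⟩ <;> rw [e]
    · exact Commute.one_right _
    · have h1 : Commute K R.u := by
        have hq : Commute R.u R.A.p1 := R.r12
        exact ((hq.mul_right (R.stab _ (hh_triv ne21.symm zero_ne_one' ne20.symm a)).2.symm).mul_right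
          hq.inv_right).symm
      have h2 : Commute K (R.ρ (hh 0 2 b')) := R.A.TP_comm hKT (R.A.ρ_mem_TP (hh_mem ne20.symm b'))
      exact (h2.mul_right h1).mul_right h2.inv_right
  rw [hkey, show R.ρ D * K * R.U b * (R.ρ D * K)⁻¹ = R.ρ D * (K * R.U b * K⁻¹) * (R.ρ D)⁻¹ by group, hKU.eq,
    mul_inv_cancel_right, R.conj_U hDm (by simp)]
  exact R.U_mem _

theorem N_norm {n : G} (hn : n ∈ R.A.N) (h0 : Mv Φ (R.φ n) (.inl 0) (.inl 0)) :
    n ∈ Subgroup.normalizer (R.Ys : Set G) := by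
  obtain ⟨M, π, c, hM, hπ, x, hx, rfl⟩ := R.A.N_fix hn (T := {0}) (fun i hi => by
    rw [Finset.mem_singleton.1 hi]; exact h0)
  have hTP : R.A.TP ≤ Subgroup.normalizer (R.Ys : Set G) := by
    rintro _ ⟨D, ⟨e, hD⟩, a, rfl⟩
    exact mul_mem (R.ρ_norm hD rfl) (R.kk_norm a)
  refine mul_mem (R.ρ_norm hM (hπ 0 (by simp))) ((sup_le hTP ((Subgroup.closure_le _).2 ?_) : _ ≤ _) hx)
  rintro _ ⟨i, hi, rfl⟩
  have hi0 : i ≠ 0 := by simpa using hi
  have h := R.A.cong_symm (R.qq_cong (j := i))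
  rw [SetLike.mem_coe, show R.A.pp i = R.A.pp i * (R.qq i)⁻¹ * R.qq i by group]
  exact mul_mem (hTP h) (R.qq_norm hi0)

theorem neg_Y {i l : Fin (k + 1 + 2)} (hi : i ≠ 0) (hl : l ≠ 0) (hil : i ≠ l) (t : F) {y : G} (hy : y ∈ R.Ys) :
    Commute (R.ρ (tv i l t)) y := by
  obtain ⟨a, z, hz, rfl⟩ := hy
  refine Commute.mul_right ?_ (R.Z_tv hi hl hil t hz)
  rcases R.U_cases a with e | ⟨b, -, e⟩ <;> rw [e]
  · exact Commute.one_right _
  have hm := (hh_mon (F := F) (i := (0 : Fin (k + 1 + 2))) (j := 2) ne20.symm b)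
  set n := R.ρ (hh 0 2 b) with hn
  obtain ⟨t', ht⟩ : ∃ t', n⁻¹ * R.ρ (tv i l t) * n = R.ρ (tv i l t') := by
    have e := hm.inv.mul_tv hil t
    simp only [inv_inv, inv_one, Equiv.Perm.one_apply] at e
    exact ⟨_, by rw [hn, ← map_inv, ← map_mul, ← map_mul, e]⟩
  have h := commute_conj n (R.stab _ (triv_tv hil hi hl t')).2.symm
  rw [← ht, show n * (n⁻¹ * R.ρ (tv i l t) * n) * n⁻¹ = R.ρ (tv i l t) by group] at h
  exact h.symm

/-- The sign change at one index, centralising the short elements. -/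
theorem flip_Y {j : Fin (k + 1 + 2)} (hj : j ≠ 0) {x : G} (hx : x ∈ Subgroup.centralizer (R.Ys : Set G)) :
    R.qq j * x * (R.qq j)⁻¹ ∈ Subgroup.centralizer (R.Ys : Set G) := by
  rw [Subgroup.mem_centralizer_iff] at *
  intro y hy
  have hy' : (R.qq j)⁻¹ * y * R.qq j ∈ R.Ys := (Subgroup.mem_normalizer_iff''.1 (R.qq_norm hj) y).1 hy
  have := hx _ hy'
  calc y * (R.qq j * x * (R.qq j)⁻¹) = R.qq j * ((R.qq j)⁻¹ * y * R.qq j * x) * (R.qq j)⁻¹ := by group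
    _ = _ := by rw [this]; group

theorem XP_Y {c d : SI (k + 1 + 2)} (hc : ix c ≠ 0) (hd : ix d ≠ 0) (hcd : ix c ≠ ix d) :
    R.A.XP c d ≤ Subgroup.centralizer (R.Ys : Set G) := by
  have h0 : ∀ i l : Fin (k + 1 + 2), i ≠ 0 → l ≠ 0 → i ≠ l →
      R.A.XP (.inl i) (.inr l) ≤ Subgroup.centralizer (R.Ys : Set G) := fun i l hi hl hil x hx => by
    obtain ⟨t, rfl⟩ := R.A.XP_levi hil hx
    rw [Subgroup.mem_centralizer_iff]
    exact fun y hy => (R.neg_Y hi hl hil t hy).eq.symm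
  have step : ∀ c d : SI (k + 1 + 2), ix c ≠ 0 → ix c ≠ ix d →
      R.A.XP c d ≤ Subgroup.centralizer (R.Ys : Set G) →
      R.A.XP c.swap d ≤ Subgroup.centralizer (R.Ys : Set G) := fun c d hc hcd h x hx => by
    have h1 : Mv Φ (R.A.φ (R.qq (ix c))) c c.swap := by
      have := R.mv_qq (ix c) c
      rwa [if_pos rfl] at this
    have h2 : Mv Φ (R.A.φ (R.qq (ix c))) d d := by
      have := R.mv_qq (ix c) d
      rwa [if_neg (Ne.symm hcd)] at this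
    rw [← R.A.cnj_XP (R.qq_mem _) h1 h2] at hx
    obtain ⟨y, hy, rfl⟩ := hx
    exact R.flip_Y hc (h hy)
  have h1 : ∀ (i : Fin (k + 1 + 2)) (d : SI (k + 1 + 2)), i ≠ 0 → ix d ≠ 0 → i ≠ ix d →
      R.A.XP (.inl i) d ≤ Subgroup.centralizer (R.Ys : Set G) := fun i d hi hd hid => by
    rcases d with l | l
    · rw [R.A.XP_symm]
      exact step (.inr l) (.inl i) hd (Ne.symm hid) (by rw [R.A.XP_symm]; exact h0 i l hi hd hid)
    · exact h0 i l hi hd hid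
  rcases c with i | i
  · exact h1 i d hc hd hcd
  · exact step (.inl i) d hc hcd (h1 i d hc hd hcd)

/-- The conjugate of the root group of one index. -/
def Y1 : Subgroup G := cnj (R.ρ (w01 (k + 1))) R.Ys

theorem mv_w (d : SI (k + 1 + 2)) :
    Mv Φ (R.A.φ (R.ρ (w01 (k + 1)))) d (Sum.map (Equiv.swap 0 1) (Equiv.swap 0 1) d) :=
  R.A.mv_ρ w01_mon d

theorem cnj_w (c d : SI (k + 1 + 2)) : cnj (R.ρ (w01 (k + 1))) (R.A.XP c d) =
    R.A.XP (Sum.map (Equiv.swap 0 1) (Equiv.swap 0 1) c) (Sum.map (Equiv.swap 0 1) (Equiv.swap 0 1) d) :=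
  R.A.cnj_XP (R.A.ρ_mem_N w01_mem) (R.mv_w c) (R.mv_w d)

theorem XP_Y1 {c d : SI (k + 1 + 2)} (hc : ix c ≠ 1) (hd : ix d ≠ 1) (hcd : ix c ≠ ix d) :
    R.A.XP c d ≤ Subgroup.centralizer (R.Y1 : Set G) := by
  set s := fun d : SI (k + 1 + 2) => Sum.map (Equiv.swap (0 : Fin (k + 1 + 2)) 1) (Equiv.swap 0 1) d with hs
  have hss : ∀ d, s (s d) = d := fun d => by rcases d with i | i <;> simp [hs]
  have hix : ∀ d, ix (s d) = Equiv.swap 0 1 (ix d) := fun d => by cases d <;> rfl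
  have h0 : ∀ e : SI (k + 1 + 2), ix e ≠ 1 → ix (s e) ≠ 0 := fun e he h => by
    rw [hix] at h
    exact he (by rw [← Equiv.swap_apply_self (0 : Fin (k + 1 + 2)) 1 (ix e), h, Equiv.swap_apply_left])
  have hne : ix (s c) ≠ ix (s d) := by rw [hix, hix]; exact fun h => hcd ((Equiv.swap _ _).injective h)
  intro x hx
  rw [← hss c, ← hss d, ← R.A.cnj_XP (R.A.ρ_mem_N w01_mem) (R.mv_w (s c)) (R.mv_w (s d))] at hx
  obtain ⟨y, hy, rfl⟩ := hx
  rw [Subgroup.mem_centralizer_iff]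
  rintro _ ⟨z, hz, rfl⟩
  exact (commute_conj _ (Subgroup.mem_centralizer_iff.1 (R.XP_Y (h0 c hc) (h0 d hd) hne hy) z hz)).eq

theorem u1_mem : R.u1 ∈ R.Y1 := conj_mem_cnj R.u_mem

/-- `W` is the product of `Y` and the root group of `+0, +1`. -/
def W : Subgroup G := R.Ys ⊔ R.P

theorem P_Y {w y : G} (hw : w ∈ R.P) (hy : y ∈ R.Ys) : Commute w y := by
  obtain ⟨a, z, hz, rfl⟩ := hy
  exact (R.P_U hw a).symm.mul_right (R.P_Z hw hz)

instance W_finite : Finite R.W := by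
  have hi : InjOn' R.φ R.W := by
    refine injOn_sup (normalizer_of_commutator_le (Subgroup.commutator_le.2 fun a ha b hb => ?_)) R.Ys_inj
      (fun _ hx h => R.A.XP_inj hx h) fun a ha b hb e => ?_
    · rw [commutatorElement_eq_one_iff_commute.2 (R.P_Y hb ha).symm]
      exact one_mem _
    · obtain ⟨x, γ, hv, ea⟩ := R.Ys_img a ha
      obtain ⟨r, er⟩ := (R.A.XP_image (c := .inl 0) (d := .inl 1) zero_ne_one').1 b hb
      rw [e]
      exact er.trans (pEl_ne_qEl (c := .inl 0) (e := .inl 1) zero_ne_one' hv (er.symm.trans (e.symm.trans ea)))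
  exact Finite.of_injective (fun x : R.W => R.φ x) fun x y e => Subtype.ext (hi.ext x.2 y.2 e)

theorem Z_u1 {z : G} (hz : z ∈ R.Z) : Commute R.u1 z := by
  rw [← R.Zs_eq_Z (ne20 (k := k))] at hz
  refine (Subgroup.mem_centralizer_singleton_iff.1 ((Subgroup.commutator_le.2 fun a ha b hb => ?_ :
    R.A.Zs 2 ≤ Subgroup.centralizer {R.u1}) hz)).symm
  have ha' : Commute R.u1 a :=
    Subgroup.mem_centralizer_iff.1 (R.XP_Y1 (c := .inl 0) (d := .inr 2) zero_ne_one' ne21 ne20.symm ha) _ R.u1_mem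
  have hb' : Commute R.u1 b :=
    Subgroup.mem_centralizer_iff.1 (R.XP_Y1 (c := .inl 0) (d := .inl 2) zero_ne_one' ne21 ne20.symm hb) _ R.u1_mem
  rw [Subgroup.mem_centralizer_singleton_iff, commutatorElement_def]
  exact (((ha'.mul_right hb').mul_right ha'.inv_right).mul_right hb'.inv_right).eq.symm

theorem P_u1 {w : G} (hw : w ∈ R.P) : Commute R.u1 w := by
  have e : cnj (R.ρ (w01 (k + 1))) (R.A.XP (.inl 0) (.inl 1)) = R.P := by
    rw [R.cnj_w, R.A.XP_symm]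
    simp [P]
  rw [← e] at hw
  obtain ⟨y, hy, rfl⟩ := hw
  exact commute_conj _ (R.u_el (d := .inl 1) one_ne hy)

theorem norm_W {n : G} (hn : n ∈ Subgroup.normalizer (R.Ys : Set G)) (hP : cnj n R.P = R.P) :
    n ∈ Subgroup.normalizer (R.W : Set G) := by
  rw [Subgroup.mem_normalizer_iff]
  refine fun y => (mem_normalizer_fin (y := n) fun x hx => ?_).symm
  have h : cnj n R.W = R.W := by rw [W, cnj_sup, cnj_normalizer hn, hP]
  exact h.le (conj_mem_cnj hx)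

theorem hh_W {i j : Fin (k + 1 + 2)} (h : i ≠ j) (b : Fˣ) :
    R.ρ (hh i j b) ∈ Subgroup.normalizer (R.W : Set G) :=
  R.norm_W (R.ρ_norm (hh_mon h b) rfl)
    (R.A.cnj_XP (R.A.ρ_mem_N (Dg_le_Mn (hh_mem h b))) (R.A.mv_ρ (hh_mon h b) (.inl 0)) (R.A.mv_ρ (hh_mon h b) (.inl 1)))

theorem u1_U (a : F) : R.u1 * R.U a * R.u1⁻¹ * (R.U a)⁻¹ ∈ R.P := by
  rcases R.U_cases a with e | ⟨b, -, e⟩
  · simp [e, one_mem]
  · have h13 : ⁅R.u, R.u1⁆ ∈ R.P := R.r13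
    have hc := R.u1_hh02 b
    have : R.u1 * R.U a * R.u1⁻¹ * (R.U a)⁻¹ = R.ρ (hh 0 2 b) * ⁅R.u, R.u1⁆⁻¹ * (R.ρ (hh 0 2 b))⁻¹ := by
      rw [e, commutatorElement_inv, commutatorElement_def,
        show R.u1 * (R.ρ (hh 0 2 b) * R.u * (R.ρ (hh 0 2 b))⁻¹) * R.u1⁻¹ *
          (R.ρ (hh 0 2 b) * R.u * (R.ρ (hh 0 2 b))⁻¹)⁻¹ =
          (R.u1 * R.ρ (hh 0 2 b)) * R.u * (R.u1 * R.ρ (hh 0 2 b))⁻¹ *
          (R.ρ (hh 0 2 b) * R.u * (R.ρ (hh 0 2 b))⁻¹)⁻¹ by group, ← hc.eq]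
      group
    rw [this]
    exact (R.A.cnj_XP (R.hh02_mem b) (R.mv_hh02 b (.inl 0)) (R.mv_hh02 b (.inl 1))).le (conj_mem_cnj (inv_mem h13))

theorem u1_W : R.u1 ∈ Subgroup.normalizer (R.W : Set G) := by
  have hle : R.W ≤ R.W.comap (MulAut.conj R.u1).toMonoidHom := by
    refine sup_le ?_ fun w hw => ?_
    · rintro _ ⟨a, z, hz, rfl⟩
      show R.u1 * (R.U a * z) * R.u1⁻¹ ∈ R.W
      rw [show R.u1 * (R.U a * z) * R.u1⁻¹ = R.u1 * R.U a * R.u1⁻¹ * (R.U a)⁻¹ * R.U a * (R.u1 * z * R.u1⁻¹) by group,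
        (R.Z_u1 hz).eq, mul_inv_cancel_right]
      exact mul_mem (mul_mem (Subgroup.mem_sup_right (R.u1_U a)) (Subgroup.mem_sup_left (R.U_mem a)))
        (Subgroup.mem_sup_left (R.Z_le_Ys hz))
    · show R.u1 * w * R.u1⁻¹ ∈ R.W
      rw [(R.P_u1 hw).eq, mul_inv_cancel_right]
      exact Subgroup.mem_sup_right hw
  rw [Subgroup.mem_normalizer_iff]
  exact fun y => (mem_normalizer_fin (H := R.W) (y := R.u1) fun x hx => hle hx).symm

/-- The short element at `1` with parameter `a`. -/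
noncomputable def U1 (a : F) : G := R.ρ (w01 (k + 1)) * R.U a * (R.ρ (w01 (k + 1)))⁻¹

theorem U1_cases (a : F) :
    R.U1 a = 1 ∨ ∃ b, R.U1 a = R.ρ (hh 1 2 b) * R.u1 * (R.ρ (hh 1 2 b))⁻¹ := by
  rcases R.U_cases a with e | ⟨b, -, e⟩
  · left; rw [U1, e]; simp
  · refine Or.inr ⟨b, ?_⟩
    have hw := hh_conj (w01_mon (F := F) (k := k + 1)) 0 2 b
    rw [Equiv.swap_apply_left, Equiv.swap_apply_of_ne_of_ne ne20 ne21] at hw
    rw [U1, e, ← hw, Rels.u1, map_mul, map_mul, map_inv]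
    group

/-- The long root group at `+1`. -/
theorem Z1_spec {z : G} (hz : z ∈ cnj (R.ρ (w01 (k + 1))) R.Z) :
    (∀ y ∈ R.W, Commute z y) ∧ ∀ x ∈ R.A.XP (.inl 0) (.inr 1), ⁅x, z⁆ ∈ R.W := by
  have hZl : cnj (R.ρ (w01 (k + 1))) R.Z = ⁅R.A.XP (.inl 1) (.inr 2), R.A.XP (.inl 1) (.inl 2)⁆ := by
    rw [← R.Zs_eq_Z (ne20 (k := k)), Base.Zs, cnj_commutator,
      R.cnj_w, R.cnj_w]
    simp [Equiv.swap_apply_of_ne_of_ne (ne20 (k := k)) ne21]
  have hcW : ∀ e : SI (k + 1 + 2), ix e = 2 → ∀ a ∈ R.A.XP (.inl 1) e, ∀ y ∈ R.W, Commute a y := by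
    intro e he a ha y hy
    refine (Subgroup.mem_centralizer_singleton_iff.1 ((sup_le (fun y hy => ?_) (fun y hy => ?_) :
      R.W ≤ Subgroup.centralizer {a}) hy)).symm
    · rw [Subgroup.mem_centralizer_singleton_iff]
      exact Subgroup.mem_centralizer_iff.1 (R.XP_Y (c := .inl 1) one_ne (by rw [he]; exact ne20)
        (by rw [he]; exact ne21.symm) ha) y hy
    · rw [Subgroup.mem_centralizer_singleton_iff]
      rw [P, R.A.XP_symm] at hy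
      exact (commute_of_bot (R.A.comm_share (c := .inl 1) (d := e) (e := .inl 0) (by rw [he]; exact ne21.symm)
        one_ne (by rw [he]; exact ne20)) ha hy).symm.eq
  have hcen : ∀ z ∈ cnj (R.ρ (w01 (k + 1))) R.Z, ∀ y ∈ R.W, Commute z y := by
    intro z hz y hy
    rw [hZl] at hz
    refine (Subgroup.mem_centralizer_singleton_iff.1 ((Subgroup.commutator_le.2 fun a ha b hb => ?_ :
      _ ≤ Subgroup.centralizer {y}) hz))
    rw [Subgroup.mem_centralizer_singleton_iff, commutatorElement_def]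
    have ha' := hcW (.inr 2) rfl a ha y hy
    have hb' := hcW (.inl 2) rfl b hb y hy
    exact (((ha'.mul_left hb').mul_left ha'.inv_left).mul_left hb'.inv_left).eq
  refine ⟨hcen z hz, fun x hx => ?_⟩
  let S : Subgroup G :=
    { carrier := {z | z ∈ cnj (R.ρ (w01 (k + 1))) R.Z ∧ ⁅x, z⁆ ∈ R.W}
      one_mem' := ⟨one_mem _, by simp [one_mem]⟩
      mul_mem' := by
        rintro a b ⟨ha, ha'⟩ ⟨hb, hb'⟩
        refine ⟨mul_mem ha hb, ?_⟩
        rw [show ⁅x, a * b⁆ = ⁅x, a⁆ * (a * ⁅x, b⁆ * a⁻¹) by simp only [commutatorElement_def]; group,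
          (hcen a ha _ hb').eq, mul_inv_cancel_right]
        exact mul_mem ha' hb'
      inv_mem' := by
        rintro a ⟨ha, ha'⟩
        refine ⟨inv_mem ha, ?_⟩
        rw [show ⁅x, a⁻¹⁆ = a⁻¹ * ⁅x, a⁆⁻¹ * a⁻¹⁻¹ by simp only [commutatorElement_def]; group,
          (hcen a⁻¹ (inv_mem ha) _ (inv_mem ha')).eq, mul_inv_cancel_right]
        exact inv_mem ha' }
  refine ((?_ : cnj (R.ρ (w01 (k + 1))) R.Z ≤ S) hz).2
  conv_lhs => rw [hZl]
  refine Subgroup.commutator_le.2 fun a ha b hb => ⟨?_, ?_⟩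
  · rw [hZl]; exact Subgroup.commutator_mem_commutator ha hb
  set α := ⁅x, a⁆ with hα
  set β := ⁅x, b⁆ with hβ
  have hαm : α ∈ R.A.XP (.inl 0) (.inr 2) :=
    R.A.comm_chain (c := .inl 0) (d := .inr 1) (e := .inr 2) zero_ne_one' ne20.symm ne21.symm
      (Subgroup.commutator_mem_commutator hx ha)
  have hβm : β ∈ R.A.XP (.inl 0) (.inl 2) :=
    R.A.comm_chain (c := .inl 0) (d := .inr 1) (e := .inl 2) zero_ne_one' ne20.symm ne21.symm
      (Subgroup.commutator_mem_commutator hx hb)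
  set w1 := ⁅α, b⁆ with hw1
  have hw1m : w1 ∈ R.P := by
    refine R.A.comm_chain (c := .inl 0) (d := .inr 2) (e := .inl 1) ne20.symm zero_ne_one' ne21
      (Subgroup.commutator_mem_commutator hαm ?_)
    rw [R.A.XP_symm]; exact hb
  set w2 := ⁅a, β⁆ with hw2
  have hw2m : w2 ∈ R.P := by
    have := R.A.comm_chain (c := .inl 1) (d := .inr 2) (e := .inl 0) ne21.symm one_ne ne20
    rw [R.A.XP_symm (Sum.swap (.inr 2)) (.inl 0), R.A.XP_symm (.inl 1) (.inl 0)] at this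
    exact this (Subgroup.commutator_mem_commutator ha hβm)
  set z0 := ⁅a, b⁆ with hz0
  have hz0m : z0 ∈ cnj (R.ρ (w01 (k + 1))) R.Z := by rw [hZl]; exact Subgroup.commutator_mem_commutator ha hb
  set z1 := ⁅α, β⁆ with hz1
  have hz1m : z1 ∈ R.Z := by
    rw [← R.Zs_eq_Z (ne20 (k := k))]; exact Subgroup.commutator_mem_commutator hαm hβm
  have hY1 : ∀ (d : SI (k + 1 + 2)), ix d = 2 → ∀ g ∈ R.A.XP (.inl 0) d, Commute g z0 := fun d hd g hg =>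
    (Subgroup.mem_centralizer_iff.1 (R.XP_Y1 (c := .inl 0) zero_ne_one' (by rw [hd]; exact ne21)
      (by rw [hd]; exact ne20.symm) hg) _ (cnj_mono R.Z_le_Ys hz0m)).symm
  have cβz0 : Commute β z0 := hY1 _ rfl β hβm
  have cαz0 : Commute α z0 := hY1 _ rfl α hαm
  have cαw2 : Commute α w2 :=
    commute_of_bot (R.A.comm_share (c := .inl 0) (d := .inr 2) (e := .inl 1) ne20.symm zero_ne_one' ne21) hαm hw2m
  have cβw1 : Commute β w1 :=
    commute_of_bot (R.A.comm_share (c := .inl 0) (d := .inl 2) (e := .inl 1) ne20.symm zero_ne_one' ne21) hβm hw1m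
  have e : x * z0 * x⁻¹ = w2 * z0 * (z1 * w1) := by
    calc x * z0 * x⁻¹ = ⁅α * a, β * b⁆ := by
          simp only [hz0, hα, hβ, commutatorElement_def]; group
      _ = α * (w2 * (β * z0 * β⁻¹)) * α⁻¹ * (z1 * (β * w1 * β⁻¹)) := by
          simp only [hw1, hw2, hz0, hz1, commutatorElement_def]; group
      _ = _ := by
          rw [cβz0.eq, mul_inv_cancel_right, cβw1.eq, mul_inv_cancel_right, (cαw2.mul_right cαz0).eq,
            mul_inv_cancel_right]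
  have hW : z1 * w1 ∈ R.W :=
    mul_mem (Subgroup.mem_sup_left (R.Z_le_Ys hz1m)) (Subgroup.mem_sup_right hw1m)
  rw [commutatorElement_def, e, show w2 * z0 * (z1 * w1) * z0⁻¹ = w2 * (z0 * (z1 * w1) * z0⁻¹) by group,
    (hcen z0 hz0m _ hW).eq, mul_inv_cancel_right]
  exact mul_mem (Subgroup.mem_sup_right hw2m) hW

theorem cPQc : ⁅R.A.XP (.inl 0) (.inr 1), R.Y1⁆ ≤ R.W := by
  obtain ⟨r, hr, hw⟩ := R.r9_family
  have h1 : ∀ x ∈ R.A.XP (.inl 0) (.inr 1), ⁅x, R.u1⁆ ∈ R.W := fun x hx => by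
    obtain ⟨t, rfl⟩ := R.A.XP_levi (i := 0) (j := 1) zero_ne_one' hx
    obtain ⟨w, hw1, e⟩ := hw (C.σ (t / r))
    rw [C.invol, div_mul_cancel₀ t hr] at e
    exact (congrArg (· ∈ R.W) e).mpr (mul_mem (Subgroup.mem_sup_left (R.U_mem _)) (Subgroup.mem_sup_right hw1))
  refine Subgroup.commutator_le.2 fun x hx y hy => ?_
  obtain ⟨_, ⟨a, z, hz, rfl⟩, rfl⟩ := hy
  have hz' := R.Z1_spec (conj_mem_cnj (n := R.ρ (w01 (k + 1))) hz)
  set z' := R.ρ (w01 (k + 1)) * z * (R.ρ (w01 (k + 1)))⁻¹ with hz'd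
  have hU : ⁅x, R.U1 a⁆ ∈ R.W ∧ R.U1 a ∈ Subgroup.normalizer (R.W : Set G) := by
    rcases R.U1_cases a with e | ⟨b, e⟩
    · rw [e]; exact ⟨by simp [one_mem], one_mem _⟩
    · have hn := R.hh_W (i := (1 : Fin (k + 1 + 2))) (j := 2) ne21.symm b
      refine ⟨?_, by rw [e]; exact mul_mem (mul_mem hn R.u1_W) (inv_mem hn)⟩
      have hm := hh_mon (F := F) (i := (1 : Fin (k + 1 + 2))) (j := 2) ne21.symm b
      set n := R.ρ (hh 1 2 b)
      have hxn : n⁻¹ * x * n ∈ R.A.XP (.inl 0) (.inr 1) := by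
        have h' := R.A.cnj_XP (inv_mem (R.A.ρ_mem_N (Dg_le_Mn (hh_mem (F := F) (i := (1 : Fin (k + 1 + 2))) (j := 2) ne21.symm b))))
          (c := .inl 0) (d := .inr 1) (c' := .inl 0) (d' := .inr 1)
          (by rw [map_inv]; exact (R.A.mv_ρ hm (.inl 0)).inv) (by rw [map_inv]; exact (R.A.mv_ρ hm (.inr 1)).inv)
        have := h'.le (conj_mem_cnj (n := n⁻¹) hx)
        rwa [inv_inv] at this
      rw [e, show ⁅x, n * R.u1 * n⁻¹⁆ = n * ⁅n⁻¹ * x * n, R.u1⁆ * n⁻¹ by simp only [commutatorElement_def]; group]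
      exact (Subgroup.mem_normalizer_iff.1 hn _).1 (h1 _ hxn)
  have e : ⁅x, R.U1 a * z'⁆ = ⁅x, R.U1 a⁆ * (R.U1 a * ⁅x, z'⁆ * (R.U1 a)⁻¹) := by
    simp only [commutatorElement_def]; group
  simp only [MulEquiv.coe_toMonoidHom, MulAut.conj_apply]
  rw [show R.ρ (w01 (k + 1)) * (R.U a * z) * (R.ρ (w01 (k + 1)))⁻¹ = R.U1 a * z' by rw [hz'd, U1]; group, e]
  exact mul_mem hU.1 ((Subgroup.mem_normalizer_iff.1 hU.2 _).1 (hz'.2 x hx))

theorem cQQ : ⁅R.Ys, R.Y1⁆ ≤ R.P := by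
  refine Subgroup.commutator_le.2 fun y hy y1 hy1 => ?_
  obtain ⟨a, z, hz, rfl⟩ := hy
  obtain ⟨_, ⟨b, z', hz', rfl⟩, rfl⟩ := hy1
  have hs := R.Z1_spec (conj_mem_cnj (n := R.ρ (w01 (k + 1))) hz')
  simp only [MulEquiv.coe_toMonoidHom, MulAut.conj_apply]
  set z1 := R.ρ (w01 (k + 1)) * z' * (R.ρ (w01 (k + 1)))⁻¹ with hz1
  rw [show R.ρ (w01 (k + 1)) * (R.U b * z') * (R.ρ (w01 (k + 1)))⁻¹ = R.U1 b * z1 by rw [hz1, U1]; group]
  have hzU : Commute z (R.U1 b) := by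
    rcases R.U1_cases b with e | ⟨c, e⟩ <;> rw [e]
    · exact Commute.one_right _
    · have hn := R.A.ρ_mem_N (Dg_le_Mn (hh_mem (F := F) (i := (1 : Fin (k + 1 + 2))) (j := 2) ne21.symm c))
      have hm := hh_mon (F := F) (i := (1 : Fin (k + 1 + 2))) (j := 2) ne21.symm c
      rw [← R.mv_fix hn (R.A.mv_ρ hm (.inl 0))] at hz
      obtain ⟨z₀, hz₀, rfl⟩ := hz
      exact (commute_conj _ (R.Z_u1 hz₀)).symm
  have c1 : Commute z (R.U1 b * z1) :=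
    hzU.mul_right (hs.1 z (Subgroup.mem_sup_left (R.Z_le_Ys hz))).symm
  have c2 : Commute z1 (R.U a) := hs.1 _ (Subgroup.mem_sup_left (R.U_mem a))
  have e : ⁅R.U a * z, R.U1 b * z1⁆ = ⁅R.U a, R.U1 b⁆ := by
    rw [commutatorElement_def]
    calc R.U a * z * (R.U1 b * z1) * (R.U a * z)⁻¹ * (R.U1 b * z1)⁻¹
        = R.U a * (z * (R.U1 b * z1)) * z⁻¹ * (R.U a)⁻¹ * (R.U1 b * z1)⁻¹ := by group
      _ = R.U a * R.U1 b * (z1 * (R.U a)⁻¹) * (R.U1 b * z1)⁻¹ := by rw [c1.eq]; group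
      _ = _ := by rw [c2.inv_right.eq, commutatorElement_def]; group
  rw [e]
  rcases R.U1_cases b with eb | ⟨c, eb⟩
  · simp [eb, one_mem]
  rcases R.U_cases a with ea | ⟨d, -, ea⟩
  · simp [ea, one_mem]
  set m := R.ρ (hh 0 2 d)
  set n := R.ρ (hh 1 2 c)
  have hn2 : n ∈ R.A.N := R.A.ρ_mem_N (Dg_le_Mn (hh_mem ne21.symm c))
  have hm := hh_mon (F := F) (i := (1 : Fin (k + 1 + 2))) (j := 2) ne21.symm c
  have hmn : Commute m n := (Dg_comm (hh_mem ne20.symm d) (hh_mem ne21.symm c)).map R.ρ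
  have c3 : Commute n R.u := (R.stab _ (hh_triv ne21.symm zero_ne_one' ne20.symm c)).2
  have c4 : Commute m R.u1 := R.u1_hh02 d
  have eU : R.U a = m * n * R.u * (m * n)⁻¹ := by
    rw [ea, show m * n * R.u * (m * n)⁻¹ = m * (n * R.u * n⁻¹) * m⁻¹ by group, c3.eq, mul_inv_cancel_right]
  have eV : R.U1 b = m * n * R.u1 * (m * n)⁻¹ := by
    rw [eb, hmn.eq, show n * m * R.u1 * (n * m)⁻¹ = n * (m * R.u1 * m⁻¹) * n⁻¹ by group, c4.eq, mul_inv_cancel_right]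
  rw [eU, eV, show ⁅m * n * R.u * (m * n)⁻¹, m * n * R.u1 * (m * n)⁻¹⁆ = m * n * ⁅R.u, R.u1⁆ * (m * n)⁻¹ by
    simp only [commutatorElement_def]; group]
  refine (R.A.cnj_XP (mul_mem (R.hh02_mem d) hn2) ?_ ?_).le (conj_mem_cnj R.r13) <;> rw [map_mul]
  · exact (R.mv_hh02 d _).mul (R.A.mv_ρ hm (.inl 0))
  · exact (R.mv_hh02 d _).mul (R.A.mv_ρ hm (.inl 1))

/-- The data of the rank one root group. -/
def toQData : QData Φ G where
  toBase := R.A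
  Y := R.Ys
  Y_inj := R.Ys_inj
  Y_img := R.Ys_img
  Y_surj := R.Ys_surj
  Y_norm := fun _ hn h0 => R.N_norm hn h0
  cPP := R.Z_le_Ys
  cPQa := by
    refine le_bot_iff.1 (Subgroup.commutator_le.2 fun x hx y hy => ?_)
    obtain ⟨a, z, hz, rfl⟩ := hy
    rw [Subgroup.mem_bot, commutatorElement_eq_one_iff_commute]
    exact (R.U_el (d := .inr 1) one_ne hx a).symm.mul_right (R.Z_XP (d := .inr 1) one_ne hx hz)
  cPQb := fun _ _ hi hl hil t _ hy => R.neg_Y hi hl hil t hy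
  cPQc := R.cPQc
  cQQ := R.cQQ
  span := by
    rintro _ ⟨a, z, hz, rfl⟩
    obtain ⟨r, hr, hw⟩ := R.r9_family
    obtain ⟨w, hw1, e⟩ := hw a
    refine mul_mem ?_ (Subgroup.mem_sup_right hz)
    rw [show R.U a = ⁅R.ρ (tv 0 1 (C.σ a * r)), R.u1⁆ * w⁻¹ by rw [e, mul_inv_cancel_right]]
    exact Subgroup.mem_sup_left (mul_mem
      (Subgroup.mem_sup_left (Subgroup.commutator_mem_commutator (R.A.tv_mem_XP zero_ne_one' _) R.u1_mem))
      (Subgroup.mem_sup_right (inv_mem hw1)))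
  exch := by
    obtain ⟨z, hz, e⟩ := R.r8
    obtain ⟨δ, hv, hφ⟩ := R.Z_image.1 z hz
    exact ⟨z, R.Z_le_Ys hz, δ, hv, hφ, e⟩

/-- The map onto the special unitary group is injective. -/
theorem injective (hgen : R.ρ.range ⊔ Subgroup.zpowers R.p ⊔ Subgroup.zpowers R.u = ⊤) :
    Function.Injective R.φ := by
  refine R.toQData.injective (eq_top_iff.2 ?_)
  rw [← hgen]
  exact sup_le le_sup_left (le_trans (Subgroup.zpowers_le.2 R.u_mem) le_sup_right)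

end Rels3

end CfsgLib.SUPres
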