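import Cfsg.Agent.SUPres.RelBase

/-!
# The long root group from commutators
-/

set_option autoImplicit false
set_option linter.unusedSectionVars false
set_option linter.unusedSimpArgs false

namespace CfsgLib.SUPres

open Matrix CfsgLib.RepBounds.Unit CfsgLib.SUThreeUnipotent CfsgLib.SUTwoGen CfsgLib.SL2Pres CfsgLib.SLnPres
open CfsgLib.SpnPres (IsMon monOf isMon_monOf)
open CfsgLib.DnPres (eA eA_xU eA_hD_mon mon_eA cu cD_hD)
open scoped commutatorElement

variable {F : Type*} [Field F] [Fintype F] {C : ConjField F} {ι : Type*} [Fintype ι] [DecidableEq ι] {k : ℕ}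

theorem commutator_pEl {Φ : PFrame C (k + 2) ι} {j : Fin (k + 2)} (hj : (0 : Fin (k + 2)) ≠ j) (r s : F) :
    ⁅pEl Φ (.inl 0) (.inr j) r, pEl Φ (.inl 0) (.inl j) s⁆ = qEl Φ (.inl 0) 0 (r * C.σ s - s * C.σ r) := by
  have hp1 : (Sum.inr j : SI (k + 2)) ≠ (Sum.inl 0 : SI (k + 2)).swap := by simp [Ne.symm hj]
  have hp2 : (Sum.inl j : SI (k + 2)) ≠ (Sum.inl 0 : SI (k + 2)).swap := by simp
  have hv : QV Φ 0 (r * C.σ s - s * C.σ r) := qv_zero_iff.2 (by simp [C.invol]; ring)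
  rw [commutatorElement_def, pEl_inv hp1, pEl_inv hp2]
  refine suG_ext C fun x => ?_
  simp only [app_mul, app_pEl hp1, app_pEl hp2, app_qEl hv, herm_add_left, herm_sub_left, herm_smul_left,
    herm_vv, Sum.swap_inl, Sum.swap_inr, reduceCtorEq, if_false, Sum.inl.injEq, Sum.inr.injEq, hj, hj.symm,
    if_true, mul_zero, mul_one, add_zero, sub_zero, zero_add, zero_smul, map_zero, zero_mul, map_neg]
  module

theorem app_tv_e {Φ : PFrame C (k + 2) ι} {j l : Fin (k + 2)} (hjl : j ≠ l) (t : F) :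
    app C (pEl Φ (.inr l) (.inl j) t) (Φ.v (.inl l)) = Φ.v (.inl l) + t • Φ.v (.inl j) ∧
    app C (pEl Φ (.inr l) (.inl j) t) (Φ.v (.inr j)) = Φ.v (.inr j) - C.σ t • Φ.v (.inr l) ∧
    ∀ d : SI (k + 2), d ≠ .inl l → d ≠ .inr j → app C (pEl Φ (.inr l) (.inl j) t) (Φ.v d) = Φ.v d := by
  have hp : (Sum.inl j : SI (k + 2)) ≠ (Sum.inr l : SI (k + 2)).swap := by simp [hjl]
  refine ⟨?_, ?_, fun d h1 h2 => ?_⟩
  · rw [app_pEl hp, herm_vv, herm_vv]; simp [hjl.symm, hjl]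
  · rw [app_pEl hp, herm_vv, herm_vv]; simp [hjl.symm, hjl]
  · rw [app_pEl hp, herm_v0 Φ (fun e => h1 (by simpa using (congrArg Sum.swap e).symm)),
      herm_v0 Φ (fun e => h2 (by simpa using (congrArg Sum.swap e).symm))]
    simp

theorem conj_pEl_sum {Φ : PFrame C (k + 2) ι} {d d' : SI (k + 2)} (h : ix d ≠ 0) (h' : ix d' ≠ 0)
    (hdd : d' ≠ d.swap) {g : suG C ι} (h0 : app C g (Φ.v (.inl 0)) = Φ.v (.inl 0)) {a : F}
    (hd : app C g (Φ.v d) = Φ.v d + a • Φ.v d') (r : F) :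
    g * pEl Φ (.inl 0) d r * g⁻¹ = pEl Φ (.inl 0) d' (a * r) * pEl Φ (.inl 0) d r := by
  have hd0 : d ≠ (Sum.inl 0 : SI (k + 2)).swap := fun e => h (by rw [e]; rfl)
  have hd0' : d' ≠ (Sum.inl 0 : SI (k + 2)).swap := fun e => h' (by rw [e]; rfl)
  have hdd' : d ≠ d'.swap := fun e => hdd (by rw [e, Sum.swap_swap])
  refine suG_ext C fun x => ?_
  have e := ((isE_pEl (Φ := Φ) hd0 r).conj g) x
  rw [e, h0, app_smul, hd]
  simp only [app_mul, app_pEl hd0, app_pEl hd0', herm_add_left, herm_sub_left, herm_smul_left, herm_smul_right,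
    herm_add_right, Φ.self, herm_v0 Φ hd0', herm_v0 Φ hd0, herm_v0 Φ hdd, herm_v0 Φ hdd', map_mul]
  rw [herm_v0 Φ (show (Sum.inl 0 : SI (k + 2)) ≠ d.swap from fun e => hd0 (by rw [e, Sum.swap_swap]))]
  module

namespace Base

variable {Φ : PFrame C (k + 2) ι} {G : Type*} [Group G] (A : Base Φ G)

/-- The element of the root group at `+0` with parameter `r`. -/
noncomputable def el (d : SI (k + 2)) (r : F) : G :=
  if h : ix (Sum.inl 0 : SI (k + 2)) ≠ ix d then ((A.XP_image h).2 r).choose else 1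

variable {d : SI (k + 2)}

theorem el_mem (h : ix d ≠ 0) (r : F) : A.el d r ∈ A.XP (.inl 0) d := by
  rw [el, dif_pos (show ix (Sum.inl 0 : SI (k + 2)) ≠ ix d from Ne.symm h)]
  exact ((A.XP_image (c := .inl 0) (d := d) (Ne.symm h)).2 r).choose_spec.1

theorem el_img (h : ix d ≠ 0) (r : F) : A.φ (A.el d r) = pEl Φ (.inl 0) d r := by
  rw [el, dif_pos (show ix (Sum.inl 0 : SI (k + 2)) ≠ ix d from Ne.symm h)]
  exact ((A.XP_image (c := .inl 0) (d := d) (Ne.symm h)).2 r).choose_spec.2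

theorem el_eq (h : ix d ≠ 0) {x : G} (hx : x ∈ A.XP (.inl 0) d) {r : F} (hr : A.φ x = pEl Φ (.inl 0) d r) :
    x = A.el d r :=
  A.XP_ext hx (A.el_mem h r) (by rw [hr, A.el_img h])

theorem el_surj (h : ix d ≠ 0) {x : G} (hx : x ∈ A.XP (.inl 0) d) : ∃ r, x = A.el d r := by
  obtain ⟨r, hr⟩ := (A.XP_image (c := .inl 0) (d := d) (Ne.symm h)).1 x hx
  exact ⟨r, A.el_eq h hx hr⟩

theorem el_add (h : ix d ≠ 0) (r s : F) : A.el d (r + s) = A.el d r * A.el d s := by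
  refine (A.el_eq h (mul_mem (A.el_mem h r) (A.el_mem h s)) ?_).symm
  rw [map_mul, A.el_img h, A.el_img h, ← pEl_add (ne_of_ix (show ix (Sum.inl 0 : SI (k + 2)) ≠ ix d from Ne.symm h)).2]

theorem el_zero (h : ix d ≠ 0) : A.el d 0 = 1 :=
  (A.el_eq h (one_mem _) (by
    rw [map_one, pEl_zero (ne_of_ix (show ix (Sum.inl 0 : SI (k + 2)) ≠ ix d from Ne.symm h)).2])).symm

theorem el_neg (h : ix d ≠ 0) (r : F) : A.el d (-r) = (A.el d r)⁻¹ :=
  eq_inv_of_mul_eq_one_left (by rw [← A.el_add h, neg_add_cancel, A.el_zero h])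

/-- Conjugation by a monomial element fixing `+0`. -/
theorem conj_el {n : G} (hn : n ∈ A.N) {d' : SI (k + 2)} {a b : F} (h : ix d ≠ 0)
    (h0 : app C (A.φ n) (Φ.v (.inl 0)) = a • Φ.v (.inl 0)) (hd : app C (A.φ n) (Φ.v d) = b • Φ.v d') (r : F) :
    n * A.el d r * n⁻¹ = A.el d' (C.σ a * b * r) := by
  have h' : ix d' ≠ 0 :=
    fun e => (ix_ne_of_mv (A.N_mono hn) (Mv.intro h0) (Mv.intro hd) (Ne.symm h)) e.symm
  refine A.el_eq h' ((A.cnj_XP hn (Mv.intro h0) (Mv.intro hd)).le (conj_mem_cnj (A.el_mem h r))) ?_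
  rw [map_mul, map_mul, map_inv, A.el_img h,
    conj_pEl h0 hd (ne_of_ix (show ix (Sum.inl 0 : SI (k + 2)) ≠ ix d from Ne.symm h)).2]

/-- The commutator of two root elements at `+0`. -/
noncomputable def cc (j : Fin (k + 2)) (r s : F) : G := ⁅A.el (.inr j) r, A.el (.inl j) s⁆

/-- The long root group at `+0`, from the index `j`. -/
def Zs (j : Fin (k + 2)) : Subgroup G := ⁅A.XP (.inl 0) (.inr j), A.XP (.inl 0) (.inl j)⁆

variable {j l : Fin (k + 2)}

theorem φ_cc (hj : j ≠ 0) (r s : F) : A.φ (A.cc j r s) = qEl Φ (.inl 0) 0 (r * C.σ s - s * C.σ r) := by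
  rw [cc, map_commutatorElement, A.el_img (show ix (Sum.inr j : SI (k + 2)) ≠ 0 from hj),
    A.el_img (show ix (Sum.inl j : SI (k + 2)) ≠ 0 from hj), commutator_pEl hj.symm]

theorem cc_mem (hj : j ≠ 0) (r s : F) : A.cc j r s ∈ A.Zs j :=
  Subgroup.commutator_mem_commutator (A.el_mem (d := .inr j) hj r) (A.el_mem (d := .inl j) hj s)

theorem Zs_commutes (hj : j ≠ 0) (hjl : j ≠ l) (hl : l ≠ 0) {d : SI (k + 2)} (hd : ix d = l) :
    A.XP (.inl 0) d ≤ Subgroup.centralizer (A.Zs j : Set G) := by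
  have h : ∀ e : SI (k + 2), ix e = j → ⁅A.XP (.inl 0) e, A.XP (.inl 0) d⁆ = ⊥ := fun e he =>
    A.comm_share (by rw [he]; exact hj.symm) (by rw [hd]; exact hl.symm) (by rw [he, hd]; exact hjl)
  rw [← Subgroup.le_centralizer_iff]
  refine Subgroup.commutator_le.2 fun a ha b hb => ?_
  rw [Subgroup.mem_centralizer_iff]
  intro x hx
  have c1 : Commute a x := by
    rw [← commutatorElement_eq_one_iff_commute, ← Subgroup.mem_bot, ← h (.inr j) rfl]
    exact Subgroup.commutator_mem_commutator ha hx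
  have c2 : Commute b x := by
    rw [← commutatorElement_eq_one_iff_commute, ← Subgroup.mem_bot, ← h (.inl j) rfl]
    exact Subgroup.commutator_mem_commutator hb hx
  rw [commutatorElement_def]
  exact (((c1.mul_left c2).mul_left c1.inv_left).mul_left c2.inv_left).eq.symm

theorem commute_cc (hj : j ≠ 0) (hjl : j ≠ l) (hl : l ≠ 0) {d : SI (k + 2)} (hd : ix d = l) {x : G}
    (hx : x ∈ A.XP (.inl 0) d) (r s : F) : Commute x (A.cc j r s) :=
  (Subgroup.mem_centralizer_iff.1 (A.Zs_commutes hj hjl hl hd hx) _ (A.cc_mem hj r s)).symm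

theorem conj_tv_el (hj : j ≠ 0) (hl : l ≠ 0) (hjl : j ≠ l) (t r : F) :
    A.ρ (tv j l t) * A.el (.inr j) r * (A.ρ (tv j l t))⁻¹ = A.el (.inr l) (-C.σ t * r) * A.el (.inr j) r ∧
    A.ρ (tv j l t) * A.el (.inl l) r * (A.ρ (tv j l t))⁻¹ = A.el (.inl j) (t * r) * A.el (.inl l) r := by
  obtain ⟨e1, e2, e3⟩ := app_tv_e (Φ := Φ) hjl t
  have hg : A.φ (A.ρ (tv j l t)) = pEl Φ (.inr l) (.inl j) t := by rw [A.hφρ, lev_tv hjl]
  have he := A.tv_mem_XP hjl t
  have h0 : app C (A.φ (A.ρ (tv j l t))) (Φ.v (.inl 0)) = Φ.v (.inl 0) := by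
    rw [hg]; exact e3 _ (by simp [hl.symm]) (by simp)
  constructor
  · have hc : ⁅A.ρ (tv j l t), A.el (.inr j) r⁆ ∈ A.XP (.inl 0) (.inr l) := by
      have := A.comm_chain (c := .inr l) (d := .inl j) (e := .inl 0) (Ne.symm hjl) hl hj
      rw [A.XP_symm (.inr l) (.inl j), A.XP_symm (.inr l) (.inl 0), A.XP_symm (Sum.swap (.inl j)) (.inl 0)] at this
      exact this (Subgroup.commutator_mem_commutator he (A.el_mem (d := .inr j) hj r))
    have e : ⁅A.ρ (tv j l t), A.el (.inr j) r⁆ = A.el (.inr l) (-C.σ t * r) := by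
      refine A.el_eq (d := .inr l) hl hc ?_
      rw [commutatorElement_def, map_mul, map_mul, map_mul, map_inv, map_inv, A.el_img (d := .inr j) hj,
        conj_pEl_sum (d := .inr j) (d' := .inr l) hj hl (by simp) h0 (a := -C.σ t)
          (by rw [hg, e2, sub_eq_add_neg, neg_smul]) r, mul_inv_cancel_right]
    rw [← e, commutatorElement_def, inv_mul_cancel_right]
  · have hc : ⁅A.ρ (tv j l t), A.el (.inl l) r⁆ ∈ A.XP (.inl 0) (.inl j) := by
      have := A.comm_chain (c := .inl j) (d := .inr l) (e := .inl 0) hjl hj hl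
      rw [A.XP_symm (.inl j) (.inl 0), A.XP_symm (Sum.swap (.inr l)) (.inl 0)] at this
      exact this (Subgroup.commutator_mem_commutator he (A.el_mem (d := .inl l) hl r))
    have e : ⁅A.ρ (tv j l t), A.el (.inl l) r⁆ = A.el (.inl j) (t * r) := by
      refine A.el_eq (d := .inl j) hj hc ?_
      rw [commutatorElement_def, map_mul, map_mul, map_mul, map_inv, map_inv, A.el_img (d := .inl l) hl,
        conj_pEl_sum (d := .inl l) (d' := .inl j) hl hj (by simp) h0 (by rw [hg, e1]) r, mul_inv_cancel_right]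
    rw [← e, commutatorElement_def, inv_mul_cancel_right]

/-- The fundamental identity. -/
theorem cc_mul (hj : j ≠ 0) (hl : l ≠ 0) (hjl : j ≠ l) (t r s : F) :
    A.cc j r (t * s) * A.cc l (-C.σ t * r) s = 1 := by
  obtain ⟨eX, -⟩ := A.conj_tv_el hj hl hjl t r
  obtain ⟨-, eY⟩ := A.conj_tv_el hj hl hjl t s
  set X := A.el (.inr j) r
  set Y := A.el (.inl l) s
  set U := A.el (.inr l) (-C.σ t * r) with hU
  set V := A.el (.inl j) (t * s) with hV
  have hcomm : ∀ (c d : SI (k + 2)), ix c ≠ 0 → ix d ≠ 0 → ix c ≠ ix d → ∀ a ∈ A.XP (.inl 0) c,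
      ∀ b ∈ A.XP (.inl 0) d, Commute a b := fun c d hc hd hcd a ha b hb => by
    rw [← commutatorElement_eq_one_iff_commute, ← Subgroup.mem_bot,
      ← A.comm_share (c := .inl 0) (Ne.symm hc) (Ne.symm hd) hcd]
    exact Subgroup.commutator_mem_commutator ha hb
  have hXY : Commute X Y := hcomm (.inr j) (.inl l) hj hl hjl _ (A.el_mem (d := .inr j) hj r) _ (A.el_mem (d := .inl l) hl s)
  have hUV : Commute U V := hcomm (.inr l) (.inl j) hl hj (Ne.symm hjl) _ (A.el_mem (d := .inr l) hl _) _ (A.el_mem (d := .inl j) hj _)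
  have hUX : Commute U X := hcomm (.inr l) (.inr j) hl hj (Ne.symm hjl) _ (A.el_mem (d := .inr l) hl _) _ (A.el_mem (d := .inr j) hj r)
  have hVY : Commute V Y := hcomm (.inl j) (.inl l) hj hl hjl _ (A.el_mem (d := .inl j) hj _) _ (A.el_mem (d := .inl l) hl s)
  have h : Commute (U * X) (V * Y) := by
    rw [← eX, ← eY]; exact hXY.map (MulAut.conj (A.ρ (tv j l t))).toMonoidHom
  set P := A.cc j r (t * s)
  set Q := A.cc l (-C.σ t * r) s
  have hP : X * V = P * (V * X) := by show _ = ⁅X, V⁆ * _; rw [commutatorElement_def]; group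
  have hQ : U * Y = Q * (Y * U) := by show _ = ⁅U, Y⁆ * _; rw [commutatorElement_def]; group
  have hUP : Commute U P := A.commute_cc hj hjl hl rfl (A.el_mem (d := .inr l) hl _) r _
  have hVQ : Commute V Q := A.commute_cc hl (Ne.symm hjl) hj rfl (A.el_mem (d := .inl j) hj _) _ s
  have e : U * X * (V * Y) = P * Q * (V * Y * (U * X)) := by
    calc U * X * (V * Y) = U * (X * V) * Y := by group
      _ = (U * P) * V * (X * Y) := by rw [hP]; group
      _ = P * (U * V) * (Y * X) := by rw [hUP.eq, hXY.eq]; group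
      _ = P * V * (U * Y) * X := by rw [hUV.eq]; group
      _ = P * (V * Q) * Y * (U * X) := by rw [hQ]; group
      _ = _ := by rw [hVQ.eq]; group
  rw [h.eq] at e
  exact mul_eq_right.1 e.symm

theorem cc_eq (hj : j ≠ 0) (hl : l ≠ 0) (hjl : j ≠ l) {t : F} (ht : t ≠ 0) (r v : F) :
    A.cc j r v = (A.cc l (-C.σ t * r) (v / t))⁻¹ := by
  have := A.cc_mul hj hl hjl t r (v / t)
  rw [mul_div_cancel₀ v ht] at this
  exact eq_inv_of_mul_eq_one_left this

theorem Zs_eq (hj : j ≠ 0) (hl : l ≠ 0) (hjl : j ≠ l) : A.Zs j = A.Zs l := by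
  have main : ∀ {j l : Fin (k + 2)}, j ≠ 0 → l ≠ 0 → j ≠ l → A.Zs j ≤ A.Zs l := fun {j l} hj hl hjl => by
    refine Subgroup.commutator_le.2 fun a ha b hb => ?_
    obtain ⟨r, rfl⟩ := A.el_surj (d := .inr j) hj ha
    obtain ⟨s, rfl⟩ := A.el_surj (d := .inl j) hj hb
    rw [← cc, A.cc_eq hj hl hjl one_ne_zero r s]
    exact inv_mem (A.cc_mem hl _ _)
  exact le_antisymm (main hj hl hjl) (main hl hj (Ne.symm hjl))

/-- The long root elements from the indices `j`, `l`. -/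
noncomputable def fv (j : Fin (k + 2)) (v : F) : G := A.cc j 1 v

theorem cc_fv (hj : j ≠ 0) (hl : l ≠ 0) (hjl : j ≠ l) (r s : F) : A.cc j r s = A.fv j (C.σ r * s) := by
  by_cases hr : r = 0
  · subst hr
    rw [map_zero, zero_mul, fv, cc, cc, A.el_zero (d := .inr j) hj, A.el_zero (d := .inl j) hj]
    simp
  have hσ : C.σ r ≠ 0 := (map_ne_zero C.σ).2 hr
  have e1 := A.cc_eq hj hl hjl (t := (C.σ r)⁻¹) (inv_ne_zero hσ) r s
  have e2 := A.cc_eq hj hl hjl one_ne_zero 1 (C.σ r * s)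
  rw [map_inv₀, C.invol, neg_mul, inv_mul_cancel₀ hr, div_inv_eq_mul] at e1
  rw [map_one, mul_one, div_one] at e2
  rw [fv, e1, e2, mul_comm]

theorem fv_add (hj : j ≠ 0) (hl : l ≠ 0) (hjl : j ≠ l) (v w : F) : A.fv j (v + w) = A.fv j v * A.fv j w := by
  have hz : Commute (A.el (.inl j) v) (A.cc j 1 w) := by
    have h1 : A.cc j 1 w ∈ A.Zs l := by rw [← A.Zs_eq hj hl hjl]; exact A.cc_mem hj 1 w
    exact (Subgroup.mem_centralizer_iff.1 (A.Zs_commutes hl (Ne.symm hjl) hj (d := .inl j) rfl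
      (A.el_mem (d := .inl j) hj v)) _ h1).symm
  rw [fv, fv, fv, cc, cc, cc, A.el_add (d := .inl j) hj]
  have e : ∀ x a b : G, ⁅x, a * b⁆ = ⁅x, a⁆ * (a * ⁅x, b⁆ * a⁻¹) := fun x a b => by
    simp only [commutatorElement_def]; group
  rw [e]
  congr 1
  exact mul_inv_eq_iff_eq_mul.2 hz.eq

theorem Zs_form (hj : j ≠ 0) (hl : l ≠ 0) (hjl : j ≠ l) {x : G} (hx : x ∈ A.Zs j) : ∃ v, x = A.fv j v := by
  let K : Subgroup G :=
    { carrier := {x | ∃ v, x = A.fv j v}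
      one_mem' := ⟨0, by rw [fv, cc, A.el_zero (d := .inl j) hj]; simp⟩
      mul_mem' := by
        rintro _ _ ⟨v, rfl⟩ ⟨w, rfl⟩
        exact ⟨v + w, (A.fv_add hj hl hjl v w).symm⟩
      inv_mem' := by
        rintro _ ⟨v, rfl⟩
        refine ⟨-v, inv_eq_of_mul_eq_one_right ?_⟩
        rw [← A.fv_add hj hl hjl, add_neg_cancel, fv, cc, A.el_zero (d := .inl j) hj]; simp }
  refine (Subgroup.commutator_le.2 fun a ha b hb => ?_ : A.Zs j ≤ K) hx
  obtain ⟨r, rfl⟩ := A.el_surj (d := .inr j) hj ha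
  obtain ⟨s, rfl⟩ := A.el_surj (d := .inl j) hj hb
  exact ⟨_, A.cc_fv hj hl hjl r s⟩

theorem Zs_inj (hj : j ≠ 0) (hl : l ≠ 0) (hjl : j ≠ l) (h7 : A.cc j 1 1 = 1) {x : G} (hx : x ∈ A.Zs j)
    (h : A.φ x = 1) : x = 1 := by
  obtain ⟨v, rfl⟩ := A.Zs_form hj hl hjl hx
  by_cases hv : v = 0
  · rw [hv, fv, cc, A.el_zero (d := .inl j) hj]; simp
  have hv' : C.σ v = v := by
    rw [fv, A.φ_cc hj, ← qEl_zero (Φ := Φ) (.inl 0), qEl_eq_iff (qv_zero_iff.2 (by simp [C.invol])) QV.zero] at h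
    linear_combination (by simpa using h.2 : C.σ v - v = 0)
  obtain ⟨b, hb⟩ := CfsgLib.Forms.exists_mul_involution_eq C.ne_id C.invol hv'
  have hb0 : b ≠ 0 := by rintro rfl; rw [zero_mul] at hb; exact hv hb.symm
  have hne : (0 : Fin (k + 2)) ≠ l := hl.symm
  set n := A.ρ (eA (0 : Fin (k + 2)) l (hD (Units.mk0 b hb0))) with hn
  have hm := eA_hD_mon (F := F) (0 : Fin (k + 2)) l hne (Units.mk0 b hb0)
  have hnN : n ∈ A.N := A.ρ_mem_N ⟨_, _, hm⟩
  have h0 : app C (A.φ n) (Φ.v (.inl 0)) = b • Φ.v (.inl 0) := by rw [hn, A.hφρ, lev_mon_inl hm]; simp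
  have hp : app C (A.φ n) (Φ.v (.inl j)) = (1 : F) • Φ.v (.inl j) := by
    rw [hn, A.hφρ, lev_mon_inl hm]; simp [hj, hjl]
  have hm' : app C (A.φ n) (Φ.v (.inr j)) = (1 : F) • Φ.v (.inr j) := by
    rw [hn, A.hφρ, lev_mon_inr hm]; simp [hj, hjl]
  have e := congrArg (fun g => n * g * n⁻¹) h7
  simp only [cc, mul_one, mul_inv_cancel] at e
  rw [show n * ⁅A.el (.inr j) 1, A.el (.inl j) 1⁆ * n⁻¹ =
    ⁅n * A.el (.inr j) 1 * n⁻¹, n * A.el (.inl j) 1 * n⁻¹⁆ by simp only [commutatorElement_def]; group,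
    A.conj_el hnN (d := .inr j) hj h0 hm', A.conj_el hnN (d := .inl j) hj h0 hp, mul_one, mul_one, ← cc,
    A.cc_fv hj hl hjl, C.invol, hb] at e
  exact e

end Base

end CfsgLib.SUPres
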