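import Cfsg.Agent.SUPres.NLayer

/-!
# Root groups of two indices
-/

set_option autoImplicit false
set_option linter.unusedSectionVars false
set_option linter.unusedSimpArgs false

namespace CfsgLib.SUPres

open Matrix CfsgLib.RepBounds.Unit CfsgLib.SUThreeUnipotent CfsgLib.SUTwoGen CfsgLib.SL2Pres CfsgLib.SLnPres
open CfsgLib.SpnPres (IsMon monOf isMon_monOf dOne dOne_apply)
open CfsgLib.DnPres (eA coe_eA eAm eA_xU)

section Cnj

variable {G : Type*} [Group G]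

/-- The conjugate subgroup. -/
def cnj (n : G) (H : Subgroup G) : Subgroup G := H.map (MulAut.conj n).toMonoidHom

theorem mem_cnj {n x : G} {H : Subgroup G} : x ∈ cnj n H ↔ ∃ h ∈ H, n * h * n⁻¹ = x := Iff.rfl

theorem conj_mem_cnj {n x : G} {H : Subgroup G} (h : x ∈ H) : n * x * n⁻¹ ∈ cnj n H := ⟨x, h, rfl⟩

theorem cnj_mul (a b : G) (H : Subgroup G) : cnj (a * b) H = cnj a (cnj b H) := by
  rw [cnj, cnj, cnj, Subgroup.map_map]
  congr 1
  ext x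
  simp [mul_assoc]

theorem cnj_one (H : Subgroup G) : cnj (1 : G) H = H := by
  rw [cnj]
  convert Subgroup.map_id H using 2
  ext x
  simp

theorem cnj_mono {n : G} {H K : Subgroup G} (h : H ≤ K) : cnj n H ≤ cnj n K := Subgroup.map_mono h

theorem cnj_sup (n : G) (H K : Subgroup G) : cnj n (H ⊔ K) = cnj n H ⊔ cnj n K := Subgroup.map_sup _ _ _

theorem cnj_bot (n : G) : cnj n (⊥ : Subgroup G) = ⊥ := Subgroup.map_bot _

theorem cnj_commutator (n : G) (H K : Subgroup G) : cnj n ⁅H, K⁆ = ⁅cnj n H, cnj n K⁆ :=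
  Subgroup.map_commutator _ _ _

theorem cnj_eq_of_finite {n : G} {H : Subgroup G} [Finite H] (h : ∀ x ∈ H, n * x * n⁻¹ ∈ H) : cnj n H = H := by
  ext x
  constructor
  · rintro ⟨y, hy, rfl⟩; exact h y hy
  · intro hx
    refine ⟨n⁻¹ * x * n, (mem_normalizer_fin (y := n) h).1 ?_, ?_⟩
    · rw [show n * (n⁻¹ * x * n) * n⁻¹ = x by group]; exact hx
    · simp [mul_assoc]

theorem cnj_normalizer {n : G} {H : Subgroup G} (h : n ∈ Subgroup.normalizer (H : Set G)) : cnj n H = H := by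
  ext x
  rw [Subgroup.mem_normalizer_iff] at h
  constructor
  · rintro ⟨y, hy, rfl⟩; exact (h y).1 hy
  · intro hx
    refine ⟨n⁻¹ * x * n, (h _).2 ?_, by simp [mul_assoc]⟩
    rwa [show n * (n⁻¹ * x * n) * n⁻¹ = x by group]

end Cnj

variable {F : Type*} [Field F] [Fintype F] {C : ConjField F} {ι : Type*} [Fintype ι] [DecidableEq ι] {k : ℕ}

local notation "SLm" => Matrix.SpecialLinearGroup (Fin (k + 2)) F

theorem lev_injective {Φ : PFrame C (k + 2) ι} : Function.Injective (lev Φ) := fun M M' e => by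
  apply Subtype.ext
  ext i j
  rw [← lev_inl (Φ := Φ) M i j, e, lev_inl]

theorem tv_add' {i j : Fin (k + 2)} (h : i ≠ j) (s t : F) :
    (tv i j (s + t) : SLm) = tv i j s * tv i j t := by
  rw [tv, tv, tv, dif_neg h, dif_neg h, dif_neg h]
  exact (Matrix.SpecialLinearGroup.transvection_add h s t)

theorem triv_tv {i j l : Fin (k + 2)} (h : i ≠ j) (hi : i ≠ l) (hj : j ≠ l) (t : F) :
    Triv l (tv i j t : SLm) := by
  intro a b hab
  rw [coe_tv h]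
  simp only [Matrix.transvection, Matrix.add_apply, Matrix.single_apply]
  rw [if_neg, add_zero]
  rintro ⟨rfl, rfl⟩
  rcases hab with rfl | rfl
  · exact hi rfl
  · exact hj rfl

namespace Base

variable {Φ : PFrame C (k + 2) ι} {G : Type*} [Group G] (A : Base Φ G)

/-- The root group of `(0, 1)` in the Levi subgroup. -/
def Y01 : Subgroup G where
  carrier := {x | ∃ t : F, x = A.ρ (tv 0 1 t)}
  one_mem' := ⟨0, by rw [tv_zero, map_one]⟩
  mul_mem' := by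
    rintro _ _ ⟨s, rfl⟩ ⟨t, rfl⟩
    exact ⟨s + t, by rw [tv_add' zero_ne_one', map_mul]⟩
  inv_mem' := by
    rintro _ ⟨s, rfl⟩
    refine ⟨-s, inv_eq_of_mul_eq_one_right ?_⟩
    rw [← map_mul, ← tv_add' zero_ne_one', add_neg_cancel, tv_zero, map_one]

theorem xx_mem (t : F) : A.ρ (tv 0 1 t) ∈ A.Y01 := ⟨t, rfl⟩

instance Y01_finite : Finite A.Y01 :=
  Finite.of_surjective (fun t : F => (⟨_, A.xx_mem t⟩ : A.Y01)) fun ⟨_, t, e⟩ => ⟨t, Subtype.ext e.symm⟩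

theorem φ_xx (t : F) : A.φ (A.ρ (tv 0 1 t)) = pEl Φ (.inr 1) (.inl 0) t := by
  rw [A.hφρ, lev_tv zero_ne_one']

theorem Y01_inj {x : G} (hx : x ∈ A.Y01) (h : A.φ x = 1) : x = 1 := by
  obtain ⟨t, rfl⟩ := hx
  rw [A.hφρ, ← map_one (lev Φ)] at h
  rw [lev_injective h, map_one]

theorem norm_Y01_mon {M : SLm} {π : Equiv.Perm (Fin (k + 2))} {c : Fin (k + 2) → F} (h : IsMon M π c)
    (h0 : π 0 = 0) (h1 : π 1 = 1) : A.ρ M ∈ Subgroup.normalizer (A.Y01 : Set G) := by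
  rw [Subgroup.mem_normalizer_iff]
  refine fun x => (mem_normalizer_fin (y := A.ρ M) ?_).symm
  rintro _ ⟨t, rfl⟩
  exact ⟨_, by rw [← map_inv, ← map_mul, ← map_mul, h.mul_tv zero_ne_one', h0, h1]⟩

theorem norm_Y01_TP {x : G} (hx : x ∈ A.TP) : x ∈ Subgroup.normalizer (A.Y01 : Set G) := by
  obtain ⟨M, ⟨c, hc⟩, a, rfl⟩ := hx
  refine mul_mem (A.norm_Y01_mon hc rfl rfl) ?_
  rw [Subgroup.mem_normalizer_iff]
  refine fun y => (mem_normalizer_fin (y := A.kk a) ?_).symm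
  rintro _ ⟨t, rfl⟩
  exact A.knorm a t

theorem pp_comm_xx {i : Fin (k + 2)} (h0 : i ≠ 0) (h1 : i ≠ 1) (t : F) : Commute (A.pp i) (A.ρ (tv 0 1 t)) := by
  have hM := isMon_monOf (F := F) (Equiv.swap (0 : Fin (k + 2)) i) 0
  set M : SLm := monOf (Equiv.swap 0 i) 0 with hMdef
  have e := hM.inv.mul_tv (zero_ne_one' (k := k)) t
  rw [inv_inv, Equiv.swap_inv, Equiv.swap_apply_left,
    Equiv.swap_apply_of_ne_of_ne (zero_ne_one' (k := k)).symm h1.symm] at e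
  have hc := A.stab_p (M⁻¹ * tv 0 1 t * M) (by rw [e]; exact triv_tv h1 h0 zero_ne_one'.symm _)
  rw [Commute, SemiconjBy] at hc ⊢
  rw [map_mul, map_mul, map_inv] at hc
  show A.ρ M * A.p * (A.ρ M)⁻¹ * A.ρ (tv 0 1 t) = A.ρ (tv 0 1 t) * (A.ρ M * A.p * (A.ρ M)⁻¹)
  calc A.ρ M * A.p * (A.ρ M)⁻¹ * A.ρ (tv 0 1 t)
      = A.ρ M * (A.p * ((A.ρ M)⁻¹ * A.ρ (tv 0 1 t) * A.ρ M)) * (A.ρ M)⁻¹ := by group
    _ = A.ρ M * ((A.ρ M)⁻¹ * A.ρ (tv 0 1 t) * A.ρ M * A.p) * (A.ρ M)⁻¹ := by rw [hc]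
    _ = _ := by group

theorem norm_Y01_fix {n : G} (hn : n ∈ A.N) (h0 : Mv Φ (A.φ n) (.inl 0) (.inl 0))
    (h1 : Mv Φ (A.φ n) (.inr 1) (.inr 1)) : n ∈ Subgroup.normalizer (A.Y01 : Set G) := by
  obtain ⟨M, π, c, hM, hπ, x, hx, rfl⟩ := A.N_fix hn (T := {0, 1}) (by
    intro i hi
    rcases Finset.mem_insert.1 hi with rfl | hi
    · exact h0
    · rw [Finset.mem_singleton.1 hi]; exact (A.N_mono hn).swap h1)
  refine mul_mem (A.norm_Y01_mon hM (hπ 0 (by simp)) (hπ 1 (by simp))) ?_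
  refine (sup_le (fun t ht => A.norm_Y01_TP ht) ((Subgroup.closure_le _).2 ?_) : _ ≤ _) hx
  rintro _ ⟨i, hi, rfl⟩
  simp only [Finset.coe_sdiff, Set.mem_sdiff, Finset.coe_insert, Finset.coe_singleton, Set.mem_insert_iff,
    Set.mem_singleton_iff, not_or] at hi
  rw [SetLike.mem_coe, Subgroup.mem_normalizer_iff]
  refine fun y => (mem_normalizer_fin (y := A.pp i) ?_).symm
  rintro _ ⟨t, rfl⟩
  exact ⟨t, by rw [(A.pp_comm_xx hi.2.1 hi.2.2 t).eq, mul_inv_cancel_right]⟩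

/-- The element exchanging the two ends of the base root. -/
def tau' : G := A.ρ (w01 k) * (A.p * A.p1)

theorem tau'_mem : A.tau' ∈ A.N := mul_mem (A.ρ_mem_N w01_mem) (mul_mem A.p_mem_N A.p1_mem_N)

theorem mv_p1 (d : SI (k + 2)) : Mv Φ (A.φ A.p1) d (if ix d = 1 then d.swap else d) := by
  have hw := w01_mon (F := F) (k := k)
  obtain ⟨b, rfl⟩ : ∃ b, Sum.map (Equiv.swap 0 1) (Equiv.swap 0 1) b = d :=
    ⟨Sum.map (Equiv.swap 0 1) (Equiv.swap 0 1) d, by rcases d with j | j <;> simp⟩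
  have hb := A.mv_ρ hw b
  have hix : ix (Sum.map (Equiv.swap (0 : Fin (k + 2)) 1) (Equiv.swap 0 1) b) = Equiv.swap 0 1 (ix b) := by
    cases b <;> rfl
  have hiff : Equiv.swap (0 : Fin (k + 2)) 1 (ix b) = 1 ↔ ix b = 0 := by
    conv_lhs => arg 2; rw [show (1 : Fin (k + 2)) = Equiv.swap 0 1 0 by simp]
    exact (Equiv.swap _ _).injective.eq_iff
  rw [p1, map_mul, map_mul, map_inv]
  by_cases h : ix b = 0
  · rw [if_pos (by rw [hix, hiff]; exact h)]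
    refine Mv.mul (Mv.mul ?_ (A.mv_p0 b h)) hb.inv
    have := A.mv_ρ hw b.swap
    cases b <;> exact this
  · rw [if_neg (by rw [hix, hiff]; exact h)]
    exact (hb.mul (A.mv_p b h)).mul hb.inv

theorem mv_tau' : Mv Φ (A.φ A.tau') (.inl 0) (.inr 1) ∧ Mv Φ (A.φ A.tau') (.inr 1) (.inl 0) := by
  have hw := w01_mon (F := F) (k := k)
  simp only [tau', map_mul]
  constructor
  · have h1 := A.mv_p1 (.inl 0)
    rw [ix_inl, if_neg zero_ne_one'] at h1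
    have h2 := A.mv_ρ hw (.inr 0)
    rw [Sum.map_inr, Equiv.swap_apply_left] at h2
    exact h2.mul ((A.mv_p0 (.inl 0) rfl).mul h1)
  · have h1 := A.mv_p1 (.inr 1)
    rw [ix_inr, if_pos rfl] at h1
    have h2 := A.mv_ρ hw (.inl 1)
    rw [Sum.map_inl, Equiv.swap_apply_right] at h2
    exact h2.mul ((A.mv_p (.inl 1) zero_ne_one'.symm).mul h1)

theorem norm_Y01_tau : A.tau' ∈ Subgroup.normalizer (A.Y01 : Set G) := by
  rw [Subgroup.mem_normalizer_iff]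
  refine fun y => (mem_normalizer_fin (y := A.tau') ?_).symm
  rintro _ ⟨t, rfl⟩
  obtain ⟨g', hg⟩ := A.tau (xU t)
  change A.p * A.p1 * _ * (A.p * A.p1)⁻¹ = _ at hg
  rw [eA_xU zero_ne_one'] at hg
  have e : A.tau' * A.ρ (tv 0 1 t) * A.tau'⁻¹ = A.ρ (w01 k * eA 0 1 g' * (w01 k)⁻¹) := by
    rw [map_mul, map_mul, map_inv, ← hg, tau']; group
  obtain ⟨⟨a, -, ea⟩, ⟨b, -, eb⟩⟩ := A.mv_tau'
  have h := conj_pEl eb ea (show (Sum.inl (0 : Fin (k + 2)) : SI (k + 2)) ≠ (Sum.inr 1 : SI (k + 2)).swap by simp) t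
  rw [← A.φ_xx, ← map_inv, ← map_mul, ← map_mul, e, A.hφρ, pEl_symm (by simp), ← lev_tv zero_ne_one'] at h
  exact ⟨_, by rw [e, lev_injective h]⟩

/-- `n` sends the base root to `{c, d}`. -/
def Sends (n : G) (c d : SI (k + 2)) : Prop := Mv Φ (A.φ n) (.inl 0) c ∧ Mv Φ (A.φ n) (.inr 1) d

/-- The root group of two indices. -/
def XP (c d : SI (k + 2)) : Subgroup G := ⨆ n ∈ A.N, ⨆ _ : A.Sends n c d ∨ A.Sends n d c, cnj n A.Y01

theorem XP_symm (c d : SI (k + 2)) : A.XP c d = A.XP d c := by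
  simp only [XP, or_comm]

theorem cnj_Y01_eq {n n' : G} (hn : n ∈ A.N) (hn' : n' ∈ A.N) {c d : SI (k + 2)}
    (h : A.Sends n c d) (h' : A.Sends n' c d ∨ A.Sends n' d c) : cnj n A.Y01 = cnj n' A.Y01 := by
  have key : n⁻¹ * n' ∈ Subgroup.normalizer (A.Y01 : Set G) := by
    have hm : n⁻¹ * n' ∈ A.N := mul_mem (inv_mem hn) hn'
    have mv : ∀ {x y z : SI (k + 2)}, Mv Φ (A.φ n) x z → Mv Φ (A.φ n') y z → Mv Φ (A.φ (n⁻¹ * n')) y x :=
      fun h1 h2 => by rw [map_mul, map_inv]; exact h1.inv.mul h2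
    rcases h' with h' | h'
    · exact A.norm_Y01_fix hm (mv h.1 h'.1) (mv h.2 h'.2)
    · have e : n⁻¹ * n' = A.tau' * (A.tau'⁻¹ * (n⁻¹ * n')) := by group
      rw [e]
      refine mul_mem A.norm_Y01_tau (A.norm_Y01_fix (mul_mem (inv_mem A.tau'_mem) hm) ?_ ?_)
      · rw [map_mul, map_inv]; exact A.mv_tau'.1.inv.mul (mv h.2 h'.1)
      · rw [map_mul, map_inv]; exact A.mv_tau'.2.inv.mul (mv h.1 h'.2)
  rw [show n' = n * (n⁻¹ * n') by group, cnj_mul, cnj_normalizer key]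

theorem XP_eq {n : G} (hn : n ∈ A.N) {c d : SI (k + 2)} (h : A.Sends n c d) : A.XP c d = cnj n A.Y01 := by
  refine le_antisymm (iSup₂_le fun n' hn' => iSup_le fun h' => (A.cnj_Y01_eq hn hn' h h').ge) ?_
  exact le_trans (le_iSup (fun _ : A.Sends n c d ∨ A.Sends n d c => cnj n A.Y01) (Or.inl h))
    (le_iSup₂ (f := fun n (_ : n ∈ A.N) => ⨆ _ : A.Sends n c d ∨ A.Sends n d c, cnj n A.Y01) n hn)

theorem exists_sends {c d : SI (k + 2)} (h : ix c ≠ ix d) : ∃ n ∈ A.N, A.Sends n c d := by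
  obtain ⟨n, hn, hm⟩ := A.exists_move (l := 2) (by omega) ![c, d.swap] (by
    intro a b e
    fin_cases a <;> fin_cases b <;> simp_all)
  have e0 : Fin.castLE (show 2 ≤ k + 2 by omega) (0 : Fin 2) = 0 := rfl
  have e1 : Fin.castLE (show 2 ≤ k + 2 by omega) (1 : Fin 2) = 1 := by ext; simp
  refine ⟨n, hn, ?_, ?_⟩
  · simpa [e0] using hm 0
  · simpa [e1] using (A.N_mono hn).swap (hm 1)

theorem XP_bot {c d : SI (k + 2)} (h : ix c = ix d) : A.XP c d = ⊥ := by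
  refine le_bot_iff.1 (iSup₂_le fun n hn => iSup_le fun hs => ?_)
  exfalso
  rcases hs with hs | hs
  · exact ix_ne_of_mv (A.N_mono hn) hs.1 hs.2 zero_ne_one' h
  · exact ix_ne_of_mv (A.N_mono hn) hs.1 hs.2 zero_ne_one' h.symm

theorem XP_base : A.XP (.inl 0) (.inr 1) = A.Y01 := by
  rw [A.XP_eq (one_mem A.N) (c := .inl 0) (d := .inr 1) ⟨by rw [map_one]; exact Mv.refl _, by rw [map_one]; exact Mv.refl _⟩,
    cnj_one]

theorem cnj_XP {n : G} (hn : n ∈ A.N) {c d c' d' : SI (k + 2)} (hc : Mv Φ (A.φ n) c c')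
    (hd : Mv Φ (A.φ n) d d') : cnj n (A.XP c d) = A.XP c' d' := by
  by_cases h : ix c = ix d
  · rw [A.XP_bot h, cnj_bot, A.XP_bot]
    by_contra h'
    exact ix_ne_of_mv (A.N_mono (inv_mem hn)) (by rw [map_inv]; exact hc.inv) (by rw [map_inv]; exact hd.inv) h' h
  · obtain ⟨n0, hn0, h0⟩ := A.exists_sends h
    rw [A.XP_eq hn0 h0, ← cnj_mul, A.XP_eq (mul_mem hn hn0)]
    exact ⟨by rw [map_mul]; exact hc.mul h0.1, by rw [map_mul]; exact hd.mul h0.2⟩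

theorem XP_inj {c d : SI (k + 2)} {x : G} (hx : x ∈ A.XP c d) (h : A.φ x = 1) : x = 1 := by
  by_cases hc : ix c = ix d
  · rwa [A.XP_bot hc, Subgroup.mem_bot] at hx
  obtain ⟨n, hn, hs⟩ := A.exists_sends hc
  rw [A.XP_eq hn hs] at hx
  obtain ⟨y, hy, rfl⟩ := hx
  simp only [MulEquiv.coe_toMonoidHom, MulAut.conj_apply, map_mul, map_inv, conj_eq_one_iff] at h
  rw [A.Y01_inj hy h]
  simp

theorem XP_ext {c d : SI (k + 2)} {x y : G} (hx : x ∈ A.XP c d) (hy : y ∈ A.XP c d) (h : A.φ x = A.φ y) :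
    x = y := by
  rw [← mul_inv_eq_one]
  exact A.XP_inj (mul_mem hx (inv_mem hy)) (by rw [map_mul, map_inv, h, mul_inv_cancel])

theorem XP_image {c d : SI (k + 2)} (hcd : ix c ≠ ix d) :
    (∀ x ∈ A.XP c d, ∃ r, A.φ x = pEl Φ c d r) ∧ (∀ r, ∃ x ∈ A.XP c d, A.φ x = pEl Φ c d r) := by
  obtain ⟨n, hn, hs⟩ := A.exists_sends hcd
  obtain ⟨a, ha, ea⟩ := hs.1
  obtain ⟨b, hb, eb⟩ := hs.2
  have key : ∀ t, A.φ (n * A.ρ (tv 0 1 t) * n⁻¹) = pEl Φ c d (-C.σ (C.σ b * a * t)) := fun t => by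
    rw [map_mul, map_mul, map_inv, A.φ_xx, conj_pEl eb ea (by simp) t, pEl_symm]
    exact (ne_of_ix hcd.symm).2
  rw [A.XP_eq hn hs]
  refine ⟨?_, fun r => ⟨_, conj_mem_cnj (A.xx_mem (-C.σ r / (C.σ b * a))), ?_⟩⟩
  · rintro _ ⟨_, ⟨t, rfl⟩, rfl⟩
    exact ⟨_, key t⟩
  · rw [key]
    congr 1
    have := (map_ne_zero C.σ).2 hb
    rw [mul_div_cancel₀ _ (mul_ne_zero this ha), map_neg, C.invol, neg_neg]

theorem tv_mem_XP {i j : Fin (k + 2)} (h : i ≠ j) (t : F) : A.ρ (tv i j t) ∈ A.XP (.inl i) (.inr j) := by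
  set π := Equiv.swap (Equiv.swap 0 i 1) j * Equiv.swap (0 : Fin (k + 2)) i with hπ
  have hne : i ≠ Equiv.swap 0 i 1 := fun e =>
    zero_ne_one' ((Equiv.swap (0 : Fin (k + 2)) i).injective ((Equiv.swap_apply_left _ _).trans e))
  have e0 : π 0 = i := by
    rw [hπ, Equiv.Perm.mul_apply, Equiv.swap_apply_left, Equiv.swap_apply_of_ne_of_ne hne h]
  have e1 : π 1 = j := by rw [hπ, Equiv.Perm.mul_apply, Equiv.swap_apply_left]
  have hM := isMon_monOf (F := F) π 0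
  rw [A.XP_eq (A.ρ_mem_N ⟨_, _, hM⟩) (c := .inl i) (d := .inr j)
    ⟨by simpa [e0] using A.mv_ρ hM (.inl 0), by simpa [e1] using A.mv_ρ hM (.inr 1)⟩]
  refine ⟨_, A.xx_mem ((dOne (0 : Fin (k + 2)) ((Equiv.Perm.sign π : ℤ) : F) 0)⁻¹ * t *
    dOne (0 : Fin (k + 2)) ((Equiv.Perm.sign π : ℤ) : F) 1), ?_⟩
  simp only [MulEquiv.coe_toMonoidHom, MulAut.conj_apply, ← map_inv, ← map_mul]
  rw [hM.mul_tv zero_ne_one', e0, e1]
  congr 2
  have n0 := hM.ne 0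
  have n1 := hM.ne 1
  field_simp

end Base

end CfsgLib.SUPres
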