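import Cfsg.Agent.SUTwoGen.Frame
import Cfsg.Agent.SLnPres.Basic
import Cfsg.Agent.Linear.Perfect

/-!
# The special unitary group in a hyperbolic frame

The Levi embedding of `SL_m`, the two families of root elements (`pEl` for two indices, `qEl` for one)
and monomial elements.
-/

set_option autoImplicit false
set_option linter.unusedSectionVars false
set_option linter.unusedSimpArgs false

namespace CfsgLib.SUPres

open Matrix CfsgLib.RepBounds.Unit CfsgLib.SUThreeUnipotent CfsgLib.SUTwoGen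

/-- Signed indices. -/
abbrev SI (m : ℕ) := Fin m ⊕ Fin m

/-- The index of a signed index. -/
def ix {m : ℕ} : SI m → Fin m := Sum.elim id id

@[simp] theorem ix_inl {m : ℕ} (i : Fin m) : ix (Sum.inl i) = i := rfl

@[simp] theorem ix_inr {m : ℕ} (i : Fin m) : ix (Sum.inr i) = i := rfl

@[simp] theorem ix_swap {m : ℕ} (c : SI m) : ix c.swap = ix c := by cases c <;> rfl

theorem swap_ne {m : ℕ} (c : SI m) : c.swap ≠ c := by cases c <;> simp

theorem swap_ne' {m : ℕ} (c : SI m) : c ≠ c.swap := (swap_ne c).symm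

theorem ix_eq_iff {m : ℕ} {c d : SI m} : ix c = ix d ↔ d = c ∨ d = c.swap := by
  rcases c with i | i <;> rcases d with j | j <;> simp [eq_comm]

theorem ne_of_ix {m : ℕ} {c d : SI m} (h : ix c ≠ ix d) : d ≠ c ∧ d ≠ c.swap :=
  ⟨fun e => h (ix_eq_iff.2 (Or.inl e)), fun e => h (ix_eq_iff.2 (Or.inr e))⟩

variable {F : Type*} [Field F] [Fintype F] {C : ConjField F} {ι : Type*} [Fintype ι] [DecidableEq ι] {m : ℕ}
variable (Φ : PFrame C m ι)

/-- The norm of the last vector (`0` or `1`). -/
def eps : F := herm C Φ.x0 Φ.x0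

theorem eps_smul : eps Φ • Φ.x0 = Φ.x0 := by
  rcases Φ.x_cases with h | h
  · rw [h, smul_zero]
  · rw [eps, h, one_smul]

theorem eps_cases : eps Φ = 0 ∨ eps Φ = 1 := by
  rcases Φ.x_cases with h | h
  · exact Or.inl (by rw [eps, h, herm_zero_left])
  · exact Or.inr h

theorem σ_eps : C.σ (eps Φ) = eps Φ := herm_self_fixed C _

theorem eps_sq : eps Φ * eps Φ = eps Φ := by rcases eps_cases Φ with h | h <;> simp [h]

theorem herm_vv (c d : SI m) : herm C (Φ.v c) (Φ.v d) = if d = c.swap then 1 else 0 := Φ.vv c d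

theorem herm_v0 {c d : SI m} (h : d ≠ c.swap) : herm C (Φ.v c) (Φ.v d) = 0 := by rw [Φ.vv, if_neg h]

theorem herm_v1 (c : SI m) : herm C (Φ.v c) (Φ.v c.swap) = 1 := by rw [Φ.vv, if_pos rfl]

theorem herm_v1' (c : SI m) : herm C (Φ.v c.swap) (Φ.v c) = 1 := by
  simpa using herm_v1 Φ c.swap

theorem smul_v_inj {a b : F} {c : SI m} (h : a • Φ.v c = b • Φ.v c) : a = b := by
  have := congrArg (fun x => herm C x (Φ.v c.swap)) h
  simpa [herm_smul_left, herm_v1] using this

theorem v_index_unique {a b : F} {c d : SI m} (ha : a ≠ 0) (h : a • Φ.v c = b • Φ.v d) : c = d := by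
  by_contra hne
  have := congrArg (fun x => herm C x (Φ.v c.swap)) h
  simp only [herm_smul_left, herm_v1, mul_one] at this
  rw [herm_v0 Φ (fun e => hne (by simpa using congrArg Sum.swap e)), mul_zero] at this
  exact ha this

/-! ### The Levi subgroup -/

/-- The map of a pair of blocks. -/
def levMap (M M' : Matrix (Fin m) (Fin m) F) : (ι → F) →ₗ[F] (ι → F) where
  toFun y := (∑ i, (M *ᵥ fun j => herm C y (Φ.v (.inr j))) i • Φ.v (.inl i)) +
    (∑ i, (M' *ᵥ fun j => herm C y (Φ.v (.inl j))) i • Φ.v (.inr i)) + herm C y Φ.x0 • Φ.x0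
  map_add' y z := by
    simp only [herm_add_left, add_smul]
    rw [show (fun j => herm C y (Φ.v (.inr j)) + herm C z (Φ.v (.inr j))) =
        (fun j => herm C y (Φ.v (.inr j))) + fun j => herm C z (Φ.v (.inr j)) from rfl,
      show (fun j => herm C y (Φ.v (.inl j)) + herm C z (Φ.v (.inl j))) =
        (fun j => herm C y (Φ.v (.inl j))) + fun j => herm C z (Φ.v (.inl j)) from rfl,
      Matrix.mulVec_add, Matrix.mulVec_add]
    simp only [Pi.add_apply, add_smul, Finset.sum_add_distrib]
    abel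
  map_smul' r y := by
    simp only [herm_smul_left, RingHom.id_apply, smul_add, Finset.smul_sum, mul_smul]
    rw [show (fun j => r * herm C y (Φ.v (.inr j))) = r • fun j => herm C y (Φ.v (.inr j)) from rfl,
      show (fun j => r * herm C y (Φ.v (.inl j))) = r • fun j => herm C y (Φ.v (.inl j)) from rfl,
      Matrix.mulVec_smul, Matrix.mulVec_smul]
    simp only [Pi.smul_apply, smul_eq_mul, mul_smul]

theorem levMap_herm_inl (M M' : Matrix (Fin m) (Fin m) F) (y : ι → F) (k : Fin m) :
    herm C (levMap Φ M M' y) (Φ.v (.inl k)) = (M' *ᵥ fun j => herm C y (Φ.v (.inl j))) k := by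
  simp only [levMap, LinearMap.coe_mk, AddHom.coe_mk, herm_add_left, herm_sum_left, herm_smul_left, Φ.xv,
    herm_vv, Sum.swap_inl, Sum.swap_inr, reduceCtorEq, if_false, mul_zero, Finset.sum_const_zero, add_zero, zero_add,
    Sum.inl.injEq]
  simp

theorem levMap_herm_inr (M M' : Matrix (Fin m) (Fin m) F) (y : ι → F) (k : Fin m) :
    herm C (levMap Φ M M' y) (Φ.v (.inr k)) = (M *ᵥ fun j => herm C y (Φ.v (.inr j))) k := by
  simp only [levMap, LinearMap.coe_mk, AddHom.coe_mk, herm_add_left, herm_sum_left, herm_smul_left, Φ.xv,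
    herm_vv, Sum.swap_inl, Sum.swap_inr, reduceCtorEq, if_false, mul_zero, Finset.sum_const_zero, add_zero,
    Sum.inr.injEq]
  simp

theorem levMap_herm_x0 (M M' : Matrix (Fin m) (Fin m) F) (y : ι → F) :
    herm C (levMap Φ M M' y) Φ.x0 = herm C y Φ.x0 := by
  simp only [levMap, LinearMap.coe_mk, AddHom.coe_mk, herm_add_left, herm_sum_left, herm_smul_left, Φ.vx,
    mul_zero, Finset.sum_const_zero, zero_add]
  conv_rhs => rw [← eps_smul Φ, herm_smul_right, σ_eps]
  rw [eps]; ring

theorem frame_ext {x y : ι → F} (hv : ∀ c, herm C x (Φ.v c) = herm C y (Φ.v c))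
    (hx : herm C x Φ.x0 = herm C y Φ.x0) : x = y := by
  rw [← sub_eq_zero]
  exact Φ.eq_zero (fun c => by rw [herm_sub_left, hv, sub_self]) (by rw [herm_sub_left, hx, sub_self])

theorem levMap_one : levMap Φ 1 1 = LinearMap.id := by
  refine LinearMap.ext fun y => frame_ext Φ ?_ (by rw [levMap_herm_x0]; rfl)
  rintro (k | k)
  · rw [levMap_herm_inl, Matrix.one_mulVec]; rfl
  · rw [levMap_herm_inr, Matrix.one_mulVec]; rfl

theorem expand_herm (u v : ι → F) : herm C u v =
    (∑ i, herm C u (Φ.v (.inr i)) * C.σ (herm C v (Φ.v (.inl i)))) +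
    (∑ i, herm C u (Φ.v (.inl i)) * C.σ (herm C v (Φ.v (.inr i)))) +
    herm C u Φ.x0 * C.σ (herm C v Φ.x0) := by
  have e : u = levMap Φ 1 1 u := by rw [levMap_one]; rfl
  conv_lhs => rw [e]
  simp only [levMap, LinearMap.coe_mk, AddHom.coe_mk, herm_add_left, herm_sum_left, herm_smul_left,
    Matrix.one_mulVec, conj_herm]

theorem levMap_mul (M M' N N' : Matrix (Fin m) (Fin m) F) :
    levMap Φ (M * N) (M' * N') = (levMap Φ M M').comp (levMap Φ N N') := by
  refine LinearMap.ext fun y => frame_ext Φ ?_ ?_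
  · rintro (k | k)
    · rw [LinearMap.comp_apply, levMap_herm_inl, levMap_herm_inl, ← Matrix.mulVec_mulVec]
      exact congrFun (congrArg _ (funext fun j => (levMap_herm_inl Φ _ _ _ j).symm)) k
    · rw [LinearMap.comp_apply, levMap_herm_inr, levMap_herm_inr, ← Matrix.mulVec_mulVec]
      exact congrFun (congrArg _ (funext fun j => (levMap_herm_inr Φ _ _ _ j).symm)) k
  · rw [LinearMap.comp_apply, levMap_herm_x0, levMap_herm_x0, levMap_herm_x0]

/-- The second block. -/
def dual (M : Matrix.SpecialLinearGroup (Fin m) F) : Matrix (Fin m) (Fin m) F := ((M⁻¹).1.map C.σ)ᵀ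

theorem dual_one : dual (C := C) (1 : Matrix.SpecialLinearGroup (Fin m) F) = 1 := by
  simp [dual]

theorem dual_mul (M N : Matrix.SpecialLinearGroup (Fin m) F) :
    dual (C := C) (M * N) = dual (C := C) M * dual (C := C) N := by
  simp only [dual, _root_.mul_inv_rev, Matrix.SpecialLinearGroup.coe_mul, Matrix.map_mul, Matrix.transpose_mul]

/-- The matrices of the Levi maps. -/
def levHom : Matrix.SpecialLinearGroup (Fin m) F →* Matrix ι ι F where
  toFun M := LinearMap.toMatrix' (levMap Φ M.1 (dual (C := C) M))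
  map_one' := by rw [dual_one, Matrix.SpecialLinearGroup.coe_one, levMap_one, LinearMap.toMatrix'_id]
  map_mul' M N := by
    rw [dual_mul, Matrix.SpecialLinearGroup.coe_mul, levMap_mul, LinearMap.toMatrix'_comp]

/-! ### Root elements -/

/-- The root element of two indices. -/
noncomputable def pEl (c d : SI m) (r : F) : suG C ι := eichler C (Φ.v c) (r • Φ.v d) 0

/-- The root element of one index. -/
noncomputable def qEl (c : SI m) (a γ : F) : suG C ι := eichler C (Φ.v c) (a • Φ.x0) γ

/-- The parameters of the root elements of one index. -/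
def QV (a γ : F) : Prop := γ + C.σ γ + a * C.σ a * eps Φ = 0

variable {Φ}

theorem isE_pEl {c d : SI m} (h : d ≠ c.swap) (r : F) : IsE C (pEl Φ c d r) (Φ.v c) (r • Φ.v d) 0 := by
  refine isE_eichler (Φ.self c) ?_ ?_
  · rw [herm_smul_left, herm_v0 Φ (fun e => h (by rw [e, Sum.swap_swap])), mul_zero]
  · rw [herm_smul_left, herm_smul_right, Φ.self, map_zero]; ring

theorem app_pEl {c d : SI m} (h : d ≠ c.swap) (r : F) (x : ι → F) :
    app C (pEl Φ c d r) x =
      x + (herm C x (Φ.v c) * r) • Φ.v d - (C.σ r * herm C x (Φ.v d)) • Φ.v c := by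
  rw [isE_pEl h r x, herm_smul_right]; module

theorem pEl_symm {c d : SI m} (h : d ≠ c.swap) (r : F) : pEl Φ c d r = pEl Φ d c (-C.σ r) := by
  have h' : c ≠ d.swap := fun e => h (by rw [e, Sum.swap_swap])
  refine suG_ext C fun x => ?_
  rw [app_pEl h, app_pEl h', map_neg, C.invol]; module

theorem pEl_add {c d : SI m} (h : d ≠ c.swap) (r s : F) :
    pEl Φ c d (r + s) = pEl Φ c d r * pEl Φ c d s := by
  have h' : c ≠ d.swap := fun e => h (by rw [e, Sum.swap_swap])
  refine suG_ext C fun x => ?_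
  rw [app_mul, app_pEl h, app_pEl h, app_pEl h]
  simp only [herm_add_left, herm_sub_left, herm_smul_left, Φ.self, herm_v0 Φ h, herm_v0 Φ h', map_add]
  module

theorem pEl_zero {c d : SI m} (h : d ≠ c.swap) : pEl Φ c d 0 = 1 := by
  refine suG_ext C fun x => ?_
  rw [app_pEl h, app_one]; simp

theorem pEl_inv {c d : SI m} (h : d ≠ c.swap) (r : F) : (pEl Φ c d r)⁻¹ = pEl Φ c d (-r) := by
  refine inv_eq_of_mul_eq_one_right ?_
  rw [← pEl_add h, add_neg_cancel, pEl_zero h]

theorem QV.mul {a γ a' γ' : F} (h : QV Φ a γ) (h' : QV Φ a' γ') :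
    QV Φ (a + a') (γ + γ' - a' * C.σ a * eps Φ) := by
  unfold QV at *
  simp only [map_sub, map_add, map_mul, C.invol, σ_eps]
  linear_combination h + h'

theorem QV.inv {a γ : F} (h : QV Φ a γ) : QV Φ (-a) (C.σ γ) := by
  unfold QV at *
  rw [C.invol, map_neg]
  linear_combination h

theorem QV.zero : QV Φ 0 0 := by simp [QV]

theorem qv_zero_iff {γ : F} : QV Φ 0 γ ↔ C.σ γ = -γ := by
  simp only [QV, zero_mul, add_zero]
  exact ⟨fun h => by linear_combination h, fun h => by linear_combination h⟩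

theorem herm_xx (a b : F) : herm C (a • Φ.x0) (b • Φ.x0) = a * C.σ b * eps Φ := by
  rw [herm_smul_left, herm_smul_right, eps]; ring

theorem isE_qEl {c : SI m} {a γ : F} (h : QV Φ a γ) : IsE C (qEl Φ c a γ) (Φ.v c) (a • Φ.x0) γ :=
  isE_eichler (Φ.self c) (by rw [herm_smul_left, Φ.xv, mul_zero]) (by rw [herm_xx]; exact h)

theorem app_qEl {c : SI m} {a γ : F} (h : QV Φ a γ) (x : ι → F) :
    app C (qEl Φ c a γ) x = x + (herm C x (Φ.v c) * a) • Φ.x0 +
      (γ * herm C x (Φ.v c) - C.σ a * herm C x Φ.x0) • Φ.v c := by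
  rw [isE_qEl h x, herm_smul_right]; module

theorem qEl_mul {c : SI m} {a γ a' γ' : F} (h : QV Φ a γ) (h' : QV Φ a' γ') :
    qEl Φ c a γ * qEl Φ c a' γ' = qEl Φ c (a + a') (γ + γ' - a' * C.σ a * eps Φ) := by
  have e := (isE_qEl (c := c) h).mul (isE_qEl h') (Φ.self c) (by rw [herm_smul_left, Φ.xv, mul_zero])
    (by rw [herm_smul_left, Φ.xv, mul_zero])
  rw [herm_xx, ← add_smul] at e
  exact e.unique (isE_qEl (h.mul h'))

theorem qEl_zero (c : SI m) : qEl Φ c 0 0 = 1 := by
  refine suG_ext C fun x => ?_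
  rw [app_qEl QV.zero, app_one]; simp

theorem qEl_inv {c : SI m} {a γ : F} (h : QV Φ a γ) : (qEl Φ c a γ)⁻¹ = qEl Φ c (-a) (C.σ γ) := by
  refine inv_eq_of_mul_eq_one_right ?_
  rw [qEl_mul h h.inv, add_neg_cancel,
    show γ + C.σ γ - -a * C.σ a * eps Φ = 0 by unfold QV at h; linear_combination h, qEl_zero]

theorem qEl_eq_iff {c : SI m} {a γ a' γ' : F} (h : QV Φ a γ) (h' : QV Φ a' γ') :
    qEl Φ c a γ = qEl Φ c a' γ' ↔ a • Φ.x0 = a' • Φ.x0 ∧ γ = γ' := by
  constructor
  · intro e
    have e1 := congrArg (fun g => app C g (Φ.v c.swap)) e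
    simp only [app_qEl h, app_qEl h', herm_v1', Φ.vx, one_mul, mul_one, mul_zero, sub_zero] at e1
    have e2 := congrArg (fun y => herm C y (Φ.v c.swap)) e1
    simp only [herm_add_left, herm_smul_left, Φ.self, Φ.xv, herm_v1, mul_zero, add_zero, zero_add, mul_one] at e2
    subst e2
    exact ⟨by simpa using e1, rfl⟩
  · rintro ⟨ha, rfl⟩
    rw [qEl, qEl, ha]

/-! ### The Levi homomorphism -/

theorem dual_transvection {i j : Fin m} (hij : i ≠ j) (r : F) :
    dual (C := C) (Matrix.SpecialLinearGroup.transvection hij r) = Matrix.transvection j i (-C.σ r) := by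
  have e : (Matrix.SpecialLinearGroup.transvection hij r)⁻¹ =
      Matrix.SpecialLinearGroup.transvection hij (-r) := by
    rw [Matrix.SpecialLinearGroup.transvection_inv]
  rw [dual, e, Matrix.SpecialLinearGroup.transvection_coe]
  ext a b
  simp only [Matrix.transpose_apply, Matrix.map_apply, Matrix.transvection, Matrix.add_apply,
    Matrix.one_apply, Matrix.single_apply, map_add, apply_ite C.σ, map_one, map_zero, map_neg]
  by_cases h : a = b <;> by_cases h1 : j = a <;> by_cases h2 : i = b <;> simp_all [eq_comm]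

theorem levHom_tv {i j : Fin m} (hij : i ≠ j) (r : F) :
    (pEl Φ (.inr j) (.inl i) r).1.1 = levHom Φ (Matrix.SpecialLinearGroup.transvection hij r) := by
  refine Matrix.ext_iff_mulVec.2 fun y => ?_
  show app C (pEl Φ (.inr j) (.inl i) r) y = _
  rw [levHom, MonoidHom.coe_mk, OneHom.coe_mk, LinearMap.toMatrix'_mulVec,
    app_pEl (by simp [hij])]
  have hmv : ∀ (a b : Fin m) (s : F) (w : Fin m → F) (k : Fin m),
      (Matrix.transvection a b s *ᵥ w) k = w k + if k = a then s * w b else 0 := fun a b s w k => by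
    rw [Matrix.transvection, Matrix.add_mulVec, Matrix.one_mulVec, Pi.add_apply, Matrix.single_mulVec_eq,
      Pi.smul_apply, Pi.single_apply]
    split_ifs <;> simp
  refine frame_ext Φ ?_ ?_
  · rintro (k | k)
    · rw [levMap_herm_inl, dual_transvection, hmv]
      by_cases hk : j = k
      · subst hk; simp [herm_add_left, herm_sub_left, herm_smul_left, herm_vv, herm_neg_left, hij, sub_eq_add_neg]
      · simp [herm_add_left, herm_sub_left, herm_smul_left, herm_vv, hk, Ne.symm hk, hij]
    · rw [levMap_herm_inr, Matrix.SpecialLinearGroup.transvection_coe,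
        show (1 : Matrix (Fin m) (Fin m) F) + Matrix.single i j r = Matrix.transvection i j r from rfl, hmv]
      by_cases hk : i = k
      · subst hk; simp [herm_add_left, herm_sub_left, herm_smul_left, herm_vv, hij, mul_comm]
      · simp [herm_add_left, herm_sub_left, herm_smul_left, herm_vv, hk, Ne.symm hk, hij, mul_comm]
  · rw [levMap_herm_x0]
    simp [herm_add_left, herm_sub_left, herm_smul_left, Φ.vx]

theorem exists_lev (M : Matrix.SpecialLinearGroup (Fin m) F) : ∃ g : suG C ι, g.1.1 = levHom Φ M := by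
  induction M using CfsgLib.Linear.sl_induction with
  | hone => exact ⟨1, by rw [map_one]; rfl⟩
  | htransvec i j hij r =>
    exact ⟨_, levHom_tv hij r⟩
  | hmul A B hA hB =>
    obtain ⟨a, ha⟩ := hA
    obtain ⟨b, hb⟩ := hB
    exact ⟨a * b, by rw [map_mul, ← ha, ← hb]; rfl⟩

variable (Φ) in
/-- The Levi embedding of `SL_m`. -/
noncomputable def lev : Matrix.SpecialLinearGroup (Fin m) F →* suG C ι :=
  MonoidHom.mk' (fun M => (exists_lev (Φ := Φ) M).choose) fun A B => by
    apply Subtype.ext; apply Subtype.ext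
    exact ((exists_lev (A * B)).choose_spec.trans (map_mul _ A B)).trans
      (congrArg₂ (· * ·) (exists_lev A).choose_spec (exists_lev B).choose_spec).symm

theorem app_lev (M : Matrix.SpecialLinearGroup (Fin m) F) (y : ι → F) :
    app C (lev Φ M) y = levMap Φ M.1 (dual (C := C) M) y := by
  show (exists_lev (Φ := Φ) M).choose.1.1 *ᵥ y = _
  rw [(exists_lev M).choose_spec]
  exact LinearMap.toMatrix'_mulVec _ _

theorem lev_x0 (M : Matrix.SpecialLinearGroup (Fin m) F) : app C (lev Φ M) Φ.x0 = Φ.x0 := by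
  refine frame_ext Φ ?_ (by rw [app_lev, levMap_herm_x0])
  rintro (k | k)
  · rw [app_lev, levMap_herm_inl]
    simp [Φ.xv, Matrix.mulVec, dotProduct]
  · rw [app_lev, levMap_herm_inr]
    simp [Φ.xv, Matrix.mulVec, dotProduct]

theorem lev_tv {i j : Fin m} (hij : i ≠ j) (r : F) :
    lev Φ (CfsgLib.SLnPres.tv i j r) = pEl Φ (.inr j) (.inl i) r := by
  rw [CfsgLib.SLnPres.tv, dif_neg hij]
  apply Subtype.ext; apply Subtype.ext
  rw [levHom_tv hij r]
  exact (exists_lev (Φ := Φ) _).choose_spec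

end CfsgLib.SUPres
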