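import Cfsg.Agent.SUPres.RelY

/-!
# The relations hold in the special unitary group
-/

set_option autoImplicit false
set_option linter.unusedSectionVars false
set_option linter.unusedSimpArgs false

namespace CfsgLib.SUPres

open Matrix CfsgLib.RepBounds.Unit CfsgLib.SUThreeUnipotent CfsgLib.SUTwoGen CfsgLib.SL2Pres CfsgLib.SLnPres
open CfsgLib.SpnPres (IsMon)
open CfsgLib.DnPres (eA eA_xU eA_hD_mon)
open scoped commutatorElement

variable {F : Type*} [Field F] [Fintype F] {C : ConjField F} {ι : Type*} [Fintype ι] [DecidableEq ι] {k : ℕ}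
variable (Φ : PFrame C (k + 2) ι)

/-- The exchange at `1`. -/
noncomputable def qT (c : F) : suG C ι := lev Φ (w01 k) * flipEl Φ c 0 * (lev Φ (w01 k))⁻¹

/-- The short element at `1`. -/
noncomputable def uT (γ : F) : suG C ι := lev Φ (w01 k) * qEl Φ (.inl 0) (eps Φ) γ * (lev Φ (w01 k))⁻¹

variable {Φ}

theorem conj_qEl0 {g : suG C ι} {c : SI (k + 2)} {s : F} (hc : app C g (Φ.v c) = s • Φ.v c)
    (hx : app C g Φ.x0 = Φ.x0) {a γ : F} (h : QV Φ a γ) :
    g * qEl Φ c a γ * g⁻¹ = qEl Φ c (C.σ s * a) (γ * (s * C.σ s)) := by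
  have := conj_qEl hc (ξ := 1) (by rw [one_smul]; exact hx) h
  rwa [mul_one] at this

theorem flip_commute {c : F} (hc : C.σ c = -c) {h : suG C ι} {s s' : F}
    (h0 : app C h (Φ.v (.inl 0)) = s • Φ.v (.inl 0)) (h1 : app C h (Φ.v (.inr 0)) = s' • Φ.v (.inr 0))
    (hx : app C h Φ.x0 = Φ.x0) (hs : s * C.σ s = 1) (hs' : s' * C.σ s' = 1) :
    Commute h (flipEl Φ c 0) := by
  have q1 : QV Φ 0 c := qv_zero_iff.2 hc
  have q2 : QV Φ 0 (-c⁻¹) := qv_zero_iff.2 (by rw [map_neg, map_inv₀, hc, inv_neg])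
  have key : ∀ (d : SI (k + 2)) (t γ : F), app C h (Φ.v d) = t • Φ.v d → t * C.σ t = 1 → QV Φ 0 γ →
      Commute h (qEl Φ d 0 γ) := fun d t γ hd ht hq => by
    have := conj_qEl0 hd hx hq
    rw [mul_zero, ht, mul_one, mul_inv_eq_iff_eq_mul] at this
    exact this
  exact ((key _ _ _ h1 hs' q1).mul_right (key _ _ _ h0 hs q2)).mul_right (key _ _ _ h1 hs' q1)

theorem qEl_commute {h : suG C ι} (h0 : app C h (Φ.v (.inl 0)) = Φ.v (.inl 0)) (hx : app C h Φ.x0 = Φ.x0)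
    {a γ : F} (hv : QV Φ a γ) : Commute h (qEl Φ (.inl 0) a γ) := by
  have := conj_qEl0 (c := .inl 0) (s := 1) (by rw [one_smul]; exact h0) hx hv
  rw [map_one, one_mul, one_mul, mul_one, mul_inv_eq_iff_eq_mul] at this
  exact this

theorem lev_triv {M : Matrix.SpecialLinearGroup (Fin (k + 2)) F} (hM : Triv 0 M) :
    app C (lev Φ M) (Φ.v (.inl 0)) = Φ.v (.inl 0) ∧ app C (lev Φ M) (Φ.v (.inr 0)) = Φ.v (.inr 0) := by
  have hinv : ∀ b, (M⁻¹).1 0 b = (1 : Matrix (Fin (k + 2)) (Fin (k + 2)) F) 0 b := fun b => by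
    have e : (M.1 * (M⁻¹).1) 0 b = (1 : Matrix (Fin (k + 2)) (Fin (k + 2)) F) 0 b := by
      rw [← Matrix.SpecialLinearGroup.coe_mul, mul_inv_cancel, Matrix.SpecialLinearGroup.coe_one]
    rw [Matrix.mul_apply, Finset.sum_eq_single 0 (fun x _ hx => by
      rw [hM 0 x (Or.inl rfl), Matrix.one_apply_ne hx.symm, zero_mul]) (by simp), hM 0 0 (Or.inl rfl),
      Matrix.one_apply_eq, one_mul] at e
    exact e
  constructor <;> rw [app_lev] <;> refine frame_ext Φ ?_ (by rw [levMap_herm_x0])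
  · rintro (b | b)
    · rw [levMap_herm_inl]; simp [Matrix.mulVec, dotProduct, herm_vv]
    · rw [levMap_herm_inr]
      simp only [Matrix.mulVec, dotProduct, herm_vv, Sum.swap_inl, Sum.inr.injEq, mul_ite, mul_one, mul_zero,
        Finset.sum_ite_eq', Finset.mem_univ, if_true]
      rw [hM b 0 (Or.inr rfl), Matrix.one_apply]
  · rintro (b | b)
    · rw [levMap_herm_inl]
      simp only [Matrix.mulVec, dotProduct, herm_vv, Sum.swap_inr, Sum.inl.injEq, mul_ite, mul_one, mul_zero,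
        Finset.sum_ite_eq', Finset.mem_univ, if_true]
      rw [dual, Matrix.transpose_apply, Matrix.map_apply, hinv, Matrix.one_apply]
      by_cases hb : (0 : Fin (k + 2)) = b
      · simp [← hb]
      · simp [hb, Ne.symm hb]
    · rw [levMap_herm_inr]; simp [Matrix.mulVec, dotProduct, herm_vv]

section
variable {c : F} (hc : C.σ c = -c) (hc0 : c ≠ 0)

theorem app_conj_w {g : suG C ι} {d : SI (k + 2)}
    (hg : app C g (Φ.v (Sum.map (Equiv.swap 0 1) (Equiv.swap 0 1) d)) =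
      Φ.v (Sum.map (Equiv.swap 0 1) (Equiv.swap 0 1) d)) :
    app C (lev Φ (w01 k) * g * (lev Φ (w01 k))⁻¹) (Φ.v d) = Φ.v d := by
  set w := lev Φ (w01 (F := F) k) with hw
  set e := Sum.map (Equiv.swap (0 : Fin (k + 2)) 1) (Equiv.swap 0 1) d with he
  obtain ⟨a, ha, ea⟩ : Mv Φ w e d := by
    have hm := w01_mon (F := F) (k := k)
    rcases d with j | j
    · simpa [he] using mv_lev_inl (Φ := Φ) hm (Equiv.swap 0 1 j)
    · simpa [he] using mv_lev_inr (Φ := Φ) hm (Equiv.swap 0 1 j)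
  have e' : app C w⁻¹ (Φ.v d) = a⁻¹ • Φ.v e := app_inv_eq C (by
    rw [app_smul, ea, smul_smul, inv_mul_cancel₀ ha, one_smul])
  rw [app_mul, app_mul, e', app_smul, hg, app_smul, ea, smul_smul, inv_mul_cancel₀ ha, one_smul]

include hc hc0 in
theorem qT_fix {d : SI (k + 2)} (hd : ix d ≠ 1) : app C (qT Φ c) (Φ.v d) = Φ.v d := by
  refine app_conj_w ((flipEl_spec hc hc0 0).2.2.1 _ ?_)
  rcases d with j | j <;>
  · simp only [Sum.map_inl, Sum.map_inr, ix_inl, ix_inr] at hd ⊢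
    intro e
    exact hd (by rw [← Equiv.swap_apply_self (0 : Fin (k + 2)) 1 j, e, Equiv.swap_apply_left])

include hc hc0 in
theorem qT_mono : IsMono Φ (qT Φ c) :=
  ((isMono_lev w01_mon).mul (isMono_flipEl hc hc0 0)).mul (isMono_lev w01_mon).inv

include hc hc0 in
theorem qT_commute : Commute (qT Φ c) (flipEl Φ c 0) := by
  refine flip_commute hc (s := 1) (s' := 1) ?_ ?_ (qT_mono hc hc0).2 (by simp) (by simp) <;> rw [one_smul]
  · exact qT_fix hc hc0 (d := .inl 0) zero_ne_one'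
  · exact qT_fix hc hc0 (d := .inr 0) zero_ne_one'

include hc hc0 in
theorem norm1_commute {a : Fˣ} (ha : (a : F) * C.σ a = 1) : Commute (flipEl Φ c 0) (lev Φ (h01 k a)) := by
  refine (flip_commute hc (s := a) (s' := (C.σ (a : F))⁻¹) ?_ ?_ (lev_x0 _) ha ?_).symm
  · rw [lev_mon_inl (h01_mon a)]; simp
  · rw [lev_mon_inr (h01_mon a)]; simp
  · rw [map_inv₀, C.invol, ← mul_inv, mul_comm, ha, inv_one]

include hc hc0 in
theorem qT_Mv : Mv Φ (qT Φ c) (.inr 1) (.inl 1) := by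
  have hm := w01_mon (F := F) (k := k)
  have h1 : Mv Φ (lev Φ (w01 k)) (.inr 0) (.inr 1) := by
    simpa using mv_lev_inr (Φ := Φ) hm (0 : Fin (k + 2))
  have h2 : Mv Φ (lev Φ (w01 k)) (.inl 0) (.inl 1) := by
    simpa using mv_lev_inl (Φ := Φ) hm (0 : Fin (k + 2))
  exact (h2.mul (Mv.intro (flipEl_spec hc hc0 0).2.1)).mul h1.inv

include hc hc0 in
theorem exists_plus (r : F) :
    ∃ t, qT Φ c * lev Φ (tv 0 1 t) * (qT Φ c)⁻¹ = pEl Φ (.inl 0) (.inl 1) r := by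
  obtain ⟨b, hb, eb⟩ := qT_Mv (Φ := Φ) hc hc0
  have hp : (Sum.inr 1 : SI (k + 2)) ≠ (Sum.inl 0 : SI (k + 2)).swap := by simp [zero_ne_one'.symm]
  refine ⟨-C.σ (r / b), ?_⟩
  rw [lev_tv zero_ne_one', pEl_symm (by simp), map_neg, C.invol, neg_neg,
    conj_pEl (show app C (qT Φ c) (Φ.v (.inl 0)) = (1 : F) • Φ.v (.inl 0) by
      rw [one_smul]; exact qT_fix hc hc0 (d := .inl 0) zero_ne_one') eb hp, map_one, one_mul, mul_div_cancel₀ r hb]

include hc hc0 in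
theorem psq_target {α : Fˣ} (hα : (α : F) * C.σ α = -1) :
    flipEl Φ c 0 * flipEl Φ c 0 =
      lev Φ (h01 k α⁻¹) * (flipEl Φ c 0 * lev Φ (h01 k α) * (flipEl Φ c 0)⁻¹) := by
  set f := flipEl Φ c 0
  obtain ⟨f1, f2, f3, f4⟩ := flipEl_spec (Φ := Φ) hc hc0 0
  have hf := isMono_flipEl (Φ := Φ) hc hc0 0
  have hl : ∀ a : Fˣ, IsMono Φ (lev Φ (h01 k a)) := fun a => isMono_lev (h01_mon a)
  have fi : app C f⁻¹ (Φ.v (.inl 0)) = (-c) • Φ.v (.inr 0) := app_inv_eq C (by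
    rw [app_smul, f2, smul_smul, neg_mul_neg, mul_inv_cancel₀ hc0, one_smul])
  rw [← inv_mul_eq_one]
  refine mono_eq_one ((hf.mul hf).inv.mul ((hl _).mul ((hf.mul (hl _)).mul hf.inv))) fun j => ?_
  rw [app_mul]
  refine app_inv_eq C ?_
  by_cases hj : j = 0
  · subst hj
    rw [app_mul, f1, app_smul, f2, app_mul, app_mul, app_mul, fi, app_smul, lev_mon_inr (h01_mon α), app_smul,
      app_smul, app_smul, app_smul]
    simp only [Equiv.Perm.one_apply, if_true]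
    rw [f2, app_smul, lev_mon_inl (h01_mon α⁻¹), smul_smul, smul_smul, smul_smul, smul_smul]
    simp only [Equiv.Perm.one_apply, if_true]
    congr 1
    have hσ := (map_ne_zero C.σ).2 α.ne_zero
    have := α.ne_zero
    rw [Units.val_inv_eq_inv_val]
    field_simp
    linear_combination -hα
  · have hj' : ix (Sum.inl j : SI (k + 2)) ≠ 0 := hj
    rw [app_mul, f3 _ hj', f3 _ hj', app_mul, app_mul, app_mul, app_inv_eq C (f3 _ hj'), lev_mon_inl (h01_mon α),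
      app_smul]
    simp only [Equiv.Perm.one_apply]
    rw [f3 _ hj', app_smul, lev_mon_inl (h01_mon α⁻¹), smul_smul]
    simp only [Equiv.Perm.one_apply]
    conv_lhs => rw [← one_smul F (Φ.v (.inl j))]
    congr 1
    by_cases h1 : j = 1 <;> simp [hj, h1, (zero_ne_one' (k := k)).symm]

include hc hc0 in
theorem tau_target (g : Matrix.SpecialLinearGroup (Fin 2) F) :
    ∃ g', flipEl Φ c 0 * qT Φ c * lev Φ (eA 0 1 g) * (flipEl Φ c 0 * qT Φ c)⁻¹ = lev Φ (eA 0 1 g') := by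
  set n := flipEl Φ c 0 * qT Φ c
  let S : Subgroup (Matrix.SpecialLinearGroup (Fin 2) F) :=
    (((lev Φ).comp (eA 0 1)).range.comap (MulAut.conj n).toMonoidHom).comap ((lev Φ).comp (eA 0 1))
  suffices hS : S = ⊤ by
    obtain ⟨g', hg⟩ := (hS ▸ Subgroup.mem_top g : g ∈ S)
    exact ⟨g', hg.symm⟩
  obtain ⟨f1, f2, f3, -⟩ := flipEl_spec (Φ := Φ) hc hc0 0
  have m1 : Mv Φ n (.inl 0) (.inr 0) := (Mv.intro f1).mul (Mv.intro (a := 1) (by
    rw [one_smul]; exact qT_fix hc hc0 (d := .inl 0) zero_ne_one'))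
  have m2 : Mv Φ n (.inr 1) (.inl 1) := (Mv.intro (a := 1) (by
    rw [one_smul]; exact f3 _ (show ix (Sum.inl 1 : SI (k + 2)) ≠ 0 from zero_ne_one'.symm))).mul (qT_Mv hc hc0)
  have hn : IsMono Φ n := (isMono_flipEl hc hc0 0).mul (qT_mono hc hc0)
  have hup : ∀ t, xU t ∈ S := fun t => by
    obtain ⟨a, -, ea⟩ := m2
    obtain ⟨b, -, eb⟩ := m1
    show n * lev Φ (eA 0 1 (xU t)) * n⁻¹ ∈ ((lev Φ).comp (eA (0 : Fin (k + 2)) 1)).range
    rw [eA_xU zero_ne_one', lev_tv zero_ne_one', conj_pEl ea eb (by simp), pEl_symm (by simp),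
      ← lev_tv zero_ne_one'.symm]
    exact ⟨CfsgLib.SpnPres.xD _, by rw [MonoidHom.comp_apply, CfsgLib.DnPres.eA_xD zero_ne_one']⟩
  have hlo : ∀ t, CfsgLib.SpnPres.xD t ∈ S := fun t => by
    obtain ⟨a, -, ea⟩ := hn.swap m1
    obtain ⟨b, -, eb⟩ := hn.swap m2
    show n * lev Φ (eA 0 1 (CfsgLib.SpnPres.xD t)) * n⁻¹ ∈ ((lev Φ).comp (eA (0 : Fin (k + 2)) 1)).range
    rw [CfsgLib.DnPres.eA_xD zero_ne_one', lev_tv zero_ne_one'.symm]
    simp only [Sum.swap_inl, Sum.swap_inr] at ea eb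
    rw [conj_pEl ea eb (by simp), pEl_symm (by simp), ← lev_tv zero_ne_one']
    exact ⟨xU _, by rw [MonoidHom.comp_apply, eA_xU zero_ne_one']⟩
  rw [eq_top_iff, ← closure_xU_wW, Subgroup.closure_le]
  rintro _ (⟨t, rfl⟩ | rfl)
  · exact hup t
  · have hw : (wW : Matrix.SpecialLinearGroup (Fin 2) F) = xU 1 * CfsgLib.SpnPres.xD (-1) * xU 1 := by
      apply CfsgLib.DnPres.sl2_ext <;> simp [coe_wW, coe_xU, CfsgLib.SpnPres.coe_xD, Matrix.mul_apply, Fin.sum_univ_two]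
    rw [hw]
    exact mul_mem (mul_mem (hup 1) (hlo _)) (hup 1)

end

theorem lev_w01_inl : app C (lev Φ (w01 k)) (Φ.v (.inl 0)) = (-1 : F) • Φ.v (.inl 1) := by
  rw [lev_mon_inl (w01_mon (F := F) (k := k))]; simp

theorem uT_eq {γ : F} (hv : QV Φ (eps Φ) γ) :
    uT Φ γ = qEl Φ (.inl 1) (-eps Φ) γ ∧ QV Φ (-eps Φ) γ := by
  constructor
  · rw [uT, conj_qEl' (isMono_lev (w01_mon (F := F) (k := k))) lev_w01_inl hv]
    simp
  · unfold QV at *
    simpa using hv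

theorem commutator_x_u {γ : F} (hv : QV Φ (eps Φ) γ) :
    ⁅lev Φ (tv 0 1 (-1)), uT Φ γ⁆⁻¹ * qEl Φ (.inl 0) (eps Φ) γ = pEl Φ (.inl 0) (.inl 1) γ := by
  have h01 : (0 : Fin (k + 2)) ≠ 1 := zero_ne_one'
  have hxm : (Sum.inr 1 : SI (k + 2)) ≠ (Sum.inl 0 : SI (k + 2)).swap := by simp [h01.symm]
  have hpp : (Sum.inl 1 : SI (k + 2)) ≠ (Sum.inl 0 : SI (k + 2)).swap := by simp
  rw [(uT_eq hv).1]
  have hv1 := (uT_eq hv).2
  set x := lev Φ (tv 0 1 (-1)) with hx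
  have ex : x = pEl Φ (.inl 0) (.inr 1) 1 := by
    rw [hx, lev_tv h01, pEl_symm (by simp)]; simp
  set Q0 := qEl Φ (.inl 0) (eps Φ) γ
  set Q1 := qEl Φ (.inl 1) (-eps Φ) γ
  set P := pEl Φ (.inl 0) (.inl 1) (-γ)
  have key : x * Q1 * x⁻¹ = Q0 * P * Q1 := by
    have hE := ((isE_qEl (Φ := Φ) (c := .inl 1) hv1).conj x)
    refine suG_ext C fun y => ?_
    rw [hE y, ex]
    simp only [app_pEl hxm, app_mul, Q0, Q1, P, app_qEl hv, app_qEl hv1, app_pEl hpp, herm_add_left, herm_sub_left,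
      herm_add_right, herm_sub_right, herm_smul_left, herm_smul_right, herm_vv, Φ.vx, Φ.xv, Sum.swap_inl,
      Sum.swap_inr, reduceCtorEq, if_false, Sum.inl.injEq, Sum.inr.injEq, h01, h01.symm, if_true, mul_zero, mul_one,
      add_zero, sub_zero, zero_add, zero_mul, map_neg, map_one, map_zero, map_mul, map_sub, map_add, σ_eps, smul_zero, smul_sub,
      smul_add, smul_smul, zero_smul, smul_neg, show herm C Φ.x0 Φ.x0 = eps Φ from rfl]
    unfold QV at hv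
    rw [σ_eps] at hv
    match_scalars <;> grind [eps_sq Φ]
  rw [commutatorElement_def, key, mul_inv_cancel_right, _root_.mul_inv_rev, inv_mul_cancel_right, pEl_inv hpp, neg_neg]

theorem commutator_u_u {γ : F} (hv : QV Φ (eps Φ) γ) :
    ⁅qEl Φ (.inl 0) (eps Φ) γ, uT Φ γ⁆ = pEl Φ (.inl 0) (.inl 1) (-eps Φ) := by
  have h01 : (0 : Fin (k + 2)) ≠ 1 := zero_ne_one'
  have hpp : (Sum.inl 1 : SI (k + 2)) ≠ (Sum.inl 0 : SI (k + 2)).swap := by simp
  rw [(uT_eq hv).1]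
  have hv1 := (uT_eq hv).2
  set Q0 := qEl Φ (.inl 0) (eps Φ) γ with hQ0
  set Q1 := qEl Φ (.inl 1) (-eps Φ) γ with hQ1
  have key : Q0 * Q1 * Q0⁻¹ = pEl Φ (.inl 0) (.inl 1) (-eps Φ) * Q1 := by
    have hE := ((isE_qEl (Φ := Φ) (c := .inl 1) hv1).conj Q0)
    refine suG_ext C fun y => ?_
    rw [hE y]
    simp only [app_mul, hQ0, hQ1, app_qEl hv, app_qEl hv1, app_pEl hpp, herm_add_left, herm_sub_left,
      herm_add_right, herm_sub_right, herm_smul_left, herm_smul_right, herm_vv, Φ.vx, Φ.xv, Sum.swap_inl,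
      Sum.swap_inr, reduceCtorEq, if_false, Sum.inl.injEq, Sum.inr.injEq, h01, h01.symm, if_true, mul_zero, mul_one,
      add_zero, sub_zero, zero_add, zero_mul, map_neg, map_one, map_zero, map_mul, map_sub, map_add, σ_eps, smul_zero, smul_sub,
      smul_add, smul_smul, zero_smul, smul_neg, show herm C Φ.x0 Φ.x0 = eps Φ from rfl]
    match_scalars <;> grind [eps_sq Φ]
  rw [commutatorElement_def, key, mul_inv_cancel_right]

theorem flip_eq {c : F} (hc : C.σ c = -c) (hc0 : c ≠ 0) :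
    flipEl Φ c 0 = flipEl Φ c 0 * qEl Φ (.inl 0) 0 (-c⁻¹) * (flipEl Φ c 0)⁻¹ * qEl Φ (.inl 0) 0 (-c⁻¹) *
      (flipEl Φ c 0 * qEl Φ (.inl 0) 0 (-c⁻¹) * (flipEl Φ c 0)⁻¹) := by
  have h2 : QV Φ 0 (-c⁻¹) := qv_zero_iff.2 (by rw [map_neg, map_inv₀, hc, inv_neg])
  rw [conj_qEl' (isMono_flipEl hc hc0 0) (flipEl_spec hc hc0 0).1 h2, mul_zero, hc,
    show -c⁻¹ * (c * -c) = c by field_simp]
  rfl

end CfsgLib.SUPres
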