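import Cfsg.Agent.SUPres.Present3

/-!
# Tools for two indices
-/

set_option autoImplicit false
set_option linter.unusedSectionVars false
set_option linter.unusedSimpArgs false

namespace CfsgLib.SUPres

open Matrix CfsgLib.RepBounds.Unit CfsgLib.SUThreeUnipotent CfsgLib.SUTwoGen CfsgLib.SL2Pres CfsgLib.SLnPres
open CfsgLib.SpnPres (IsMon)
open scoped commutatorElement

variable {F : Type*} [Field F] [Fintype F] {C : ConjField F} {ι : Type*} [Fintype ι] [DecidableEq ι]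

theorem fin_two_cases (j : Fin (0 + 2)) : j = 0 ∨ j = 1 := by revert j; decide

theorem ix_one {d : SI (0 + 2)} (h : ix d ≠ 0) : ix d = 1 := (fin_two_cases _).resolve_left h

theorem d_cases {d : SI (0 + 2)} (h : ix d ≠ 0) : d = .inl 1 ∨ d = .inr 1 := by
  rcases d with j | j <;> rcases fin_two_cases j with rfl | rfl <;> simp_all

/-- Squares span the fixed field. -/
theorem sq_fix (C : ConjField F) (S : AddSubgroup F) {s : F} (h : ∀ y : F, C.σ y = y → y * y * s ∈ S) {f : F}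
    (hf : C.σ f = f) : f * s ∈ S := by
  by_cases h2 : (2 : F) = 0
  · have : ringChar F = 2 := CharP.ringChar_of_prime_eq_zero Nat.prime_two (by simpa using h2)
    obtain ⟨y, hy⟩ := FiniteField.isSquare_of_char_two this f
    have he : (C.σ y - y) * (C.σ y - y) = 0 := by
      have e : C.σ y * C.σ y = y * y := by rw [← map_mul, ← hy]; exact hf
      linear_combination e + (y * y - C.σ y * y) * h2
    rw [hy]
    exact h y (sub_eq_zero.1 (mul_self_eq_zero.1 he))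
  · have e : f * s = (f + 1) / 2 * ((f + 1) / 2) * s - (f - 1) / 2 * ((f - 1) / 2) * s := by
      field_simp
      ring
    rw [e]
    have hσ2 : C.σ (2 : F) = 2 := map_ofNat C.σ 2
    exact S.sub_mem (h _ (by rw [map_div₀, map_add, map_one, hf, hσ2]))
      (h _ (by rw [map_div₀, map_sub, map_one, hf, hσ2]))

/-- Squares span the field. -/
theorem sq_all (S : AddSubgroup F) {s : F} (h : ∀ y : F, y * y * s ∈ S) (t : F) : t * s ∈ S := by
  by_cases h2 : (2 : F) = 0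
  · have : ringChar F = 2 := CharP.ringChar_of_prime_eq_zero Nat.prime_two (by simpa using h2)
    obtain ⟨y, rfl⟩ := FiniteField.isSquare_of_char_two this t
    exact h y
  · have e : t * s = (t + 1) / 2 * ((t + 1) / 2) * s - (t - 1) / 2 * ((t - 1) / 2) * s := by
      field_simp
      ring
    rw [e]
    exact S.sub_mem (h _) (h _)

/-- Coordinates with respect to `1` and an element moved by the involution. -/
theorem exists_coord {b : F} (hb : C.σ b ≠ b) (a : F) :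
    ∃ f g : F, C.σ f = f ∧ C.σ g = g ∧ a = f + g * b := by
  have h : C.σ b - b ≠ 0 := sub_ne_zero.2 hb
  set g := (C.σ a - a) / (C.σ b - b) with hg
  have hgf : C.σ g = g := by
    rw [hg, map_div₀, map_sub, map_sub, C.invol, C.invol, ← neg_sub, ← neg_sub (C.σ b), neg_div_neg_eq]
  refine ⟨a - g * b, g, ?_, hgf, by ring⟩
  rw [map_sub, map_mul, hgf, hg]
  field_simp
  ring

theorem coord_unique {b f g : F} (hb : C.σ b ≠ b) (hf : C.σ f = f) (hg : C.σ g = g) (h : f + g * b = 0) :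
    f = 0 ∧ g = 0 := by
  have h' := congrArg C.σ h
  rw [map_add, map_mul, hf, hg, map_zero] at h'
  have e : g * (C.σ b - b) = 0 := by linear_combination h' - h
  have hg0 : g = 0 := (mul_eq_zero.1 e).resolve_right (sub_ne_zero.2 hb)
  rw [hg0, zero_mul, add_zero] at h
  exact ⟨h, hg0⟩

theorem exists_norm_eq (C : ConjField F) {f : F} (hf : C.σ f = f) (h0 : f ≠ 0) : ∃ a : Fˣ, (a : F) * C.σ a = f := by
  obtain ⟨a, ha⟩ := CfsgLib.Forms.exists_mul_involution_eq C.ne_id C.invol hf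
  have ha0 : a ≠ 0 := by rintro rfl; rw [zero_mul] at ha; exact h0 ha.symm
  exact ⟨Units.mk0 a ha0, ha⟩

variable {Φ : PFrame C (0 + 2) ι} {G : Type*} [Group G] (A : Base Φ G)

theorem dg_eq {M : Matrix.SpecialLinearGroup (Fin (0 + 2)) F} (hM : M ∈ Dg (Fin (0 + 2)) F) :
    ∃ c, M = h01 0 c := by
  obtain ⟨e, he⟩ := hM
  obtain ⟨M', -, hT, hMe⟩ := dg_split ⟨1, e, he⟩ he rfl
  refine ⟨Units.mk0 (e 0) (he.ne 0), hMe.trans ?_⟩
  have h11 : M'.1 1 1 = 1 := by
    have := M'.2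
    rw [Matrix.det_fin_two, hT 0 0 (Or.inl rfl), hT 0 1 (Or.inl rfl), hT 1 0 (Or.inr rfl)] at this
    simpa using this
  have : M' = 1 := by
    apply Subtype.ext
    ext a b
    rw [Matrix.SpecialLinearGroup.coe_one]
    rcases fin_two_cases a with rfl | rfl
    · exact hT _ _ (Or.inl rfl)
    rcases fin_two_cases b with rfl | rfl
    · exact hT _ _ (Or.inr rfl)
    · rw [h11]; simp
  rw [this, mul_one]

namespace Base

theorem exists_torus {t : G} (ht : t ∈ A.TP) : ∃ c a, t = A.ρ (h01 0 c) * A.kk a := by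
  obtain ⟨M, hM, a, rfl⟩ := ht
  obtain ⟨c, rfl⟩ := dg_eq hM
  exact ⟨c, a, rfl⟩

theorem app_h01 (a : Fˣ) :
    app C (A.φ (A.ρ (h01 0 a))) (Φ.v (.inl 0)) = (a : F) • Φ.v (.inl 0) ∧
    app C (A.φ (A.ρ (h01 0 a))) (Φ.v (.inl 1)) = ((a⁻¹ : Fˣ) : F) • Φ.v (.inl 1) ∧
    app C (A.φ (A.ρ (h01 0 a))) (Φ.v (.inr 1)) = C.σ (a : F) • Φ.v (.inr 1) := by
  rw [A.hφρ]
  refine ⟨?_, ?_, ?_⟩
  · rw [lev_mon_inl (h01_mon a)]; simp
  · rw [lev_mon_inl (h01_mon a)]; simp
  · rw [lev_mon_inr (h01_mon a)]; simp [map_inv₀]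

theorem app_kk (a : Fˣ) :
    app C (A.φ (A.kk a)) (Φ.v (.inl 0)) = (C.σ (a : F))⁻¹ • Φ.v (.inl 0) ∧
    app C (A.φ (A.kk a)) (Φ.v (.inl 1)) = ((a⁻¹ : Fˣ) : F) • Φ.v (.inl 1) ∧
    app C (A.φ (A.kk a)) (Φ.v (.inr 1)) = C.σ (a : F) • Φ.v (.inr 1) := by
  obtain ⟨f1, f2, f3, -⟩ := A.app_p
  obtain ⟨-, h2, h3⟩ := A.app_h01 a
  rw [A.kk_apply, map_mul, map_mul, map_inv]
  refine ⟨?_, ?_, ?_⟩
  · have e : app C (A.φ A.p)⁻¹ (Φ.v (.inl 0)) = (-A.c) • Φ.v (.inr 0) := app_inv_eq C (by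
      rw [app_smul, f2, smul_smul, neg_mul_neg, mul_inv_cancel₀ A.hc0, one_smul])
    rw [app_mul, app_mul, e, app_smul, A.hφρ, lev_mon_inr (h01_mon a), app_smul, app_smul]
    simp only [Equiv.Perm.one_apply, if_true]
    rw [f2, smul_smul, smul_smul]
    congr 1
    have := A.hc0
    field_simp
  · have z : ix (Sum.inl 1 : SI (0 + 2)) ≠ 0 := zero_ne_one'.symm
    rw [app_mul, app_mul, app_inv_eq C (f3 _ z), h2, app_smul, f3 _ z]
  · have z : ix (Sum.inr 1 : SI (0 + 2)) ≠ 0 := zero_ne_one'.symm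
    rw [app_mul, app_mul, app_inv_eq C (f3 _ z), h3, app_smul, f3 _ z]

theorem conj_el_h01 (a : Fˣ) (r : F) :
    A.ρ (h01 0 a) * A.el (.inr 1) r * (A.ρ (h01 0 a))⁻¹ = A.el (.inr 1) (C.σ a * C.σ a * r) ∧
    A.ρ (h01 0 a) * A.el (.inl 1) r * (A.ρ (h01 0 a))⁻¹ = A.el (.inl 1) (C.σ a * (a : F)⁻¹ * r) := by
  obtain ⟨e1, e2, e3⟩ := A.app_h01 a
  have hn := A.ρ_mem_N (Dg_le_Mn (h01_mem (k := 0) a))
  exact ⟨A.conj_el hn (d := .inr 1) zero_ne_one'.symm e1 e3 r,
    by rw [A.conj_el hn (d := .inl 1) zero_ne_one'.symm e1 e2 r, Units.val_inv_eq_inv_val]⟩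

theorem conj_el_kk (a : Fˣ) (r : F) :
    A.kk a * A.el (.inr 1) r * (A.kk a)⁻¹ = A.el (.inr 1) ((a : F)⁻¹ * C.σ a * r) ∧
    A.kk a * A.el (.inl 1) r * (A.kk a)⁻¹ = A.el (.inl 1) ((a : F)⁻¹ * (a : F)⁻¹ * r) := by
  obtain ⟨e1, e2, e3⟩ := A.app_kk a
  have hn := A.TP_le_N (A.kk_mem_TP a)
  exact ⟨by rw [A.conj_el hn (d := .inr 1) zero_ne_one'.symm e1 e3 r, map_inv₀, C.invol],
    by rw [A.conj_el hn (d := .inl 1) zero_ne_one'.symm e1 e2 r, map_inv₀, C.invol, Units.val_inv_eq_inv_val]⟩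

/-- The part of the torus fixing `+0`. -/
noncomputable def dd : Fˣ →* G where
  toFun a := A.ρ (h01 0 (Units.map (C.σ : F →* F) a)) * A.kk a
  map_one' := by simp
  map_mul' a b := by
    rw [map_mul, map_mul, map_mul, map_mul, mul_assoc (A.ρ _) (A.ρ _), ← mul_assoc (A.ρ _) (A.kk a),
      (A.kk_comm (h01_mem _) a).eq]
    group

theorem dd_apply (a : Fˣ) : A.dd a = A.ρ (h01 0 (Units.map (C.σ : F →* F) a)) * A.kk a := rfl

theorem dd_mem (a : Fˣ) : A.dd a ∈ A.TP := mul_mem (A.ρ_mem_TP (h01_mem _)) (A.kk_mem_TP a)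

theorem conj_el_dd (a : Fˣ) (r : F) :
    A.dd a * A.el (.inr 1) r * (A.dd a)⁻¹ = A.el (.inr 1) ((a : F) * C.σ a * r) ∧
    A.dd a * A.el (.inl 1) r * (A.dd a)⁻¹ = A.el (.inl 1) (((a : F) * C.σ a)⁻¹ * r) := by
  have key : ∀ (x : G), A.dd a * x * (A.dd a)⁻¹ = A.ρ (h01 0 (Units.map (C.σ : F →* F) a)) *
      (A.kk a * x * (A.kk a)⁻¹) * (A.ρ (h01 0 (Units.map (C.σ : F →* F) a)))⁻¹ := fun x => by
    rw [dd_apply]; group
  have hs : ((Units.map (C.σ : F →* F) a : Fˣ) : F) = C.σ (a : F) := rfl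
  have n1 := a.ne_zero
  have n2 := (map_ne_zero C.σ).2 a.ne_zero
  constructor
  · rw [key, (A.conj_el_kk a r).1, (A.conj_el_h01 _ _).1, hs, C.invol]
    congr 1; field_simp
  · rw [key, (A.conj_el_kk a r).2, (A.conj_el_h01 _ _).2, hs, C.invol]
    congr 1; field_simp

theorem app_dd (a : Fˣ) : app C (A.φ (A.dd a)) (Φ.v (.inl 0)) = Φ.v (.inl 0) := by
  rw [dd_apply, map_mul, app_mul, (A.app_kk a).1, app_smul, (A.app_h01 _).1, smul_smul,
    show ((Units.map (C.σ : F →* F) a : Fˣ) : F) = C.σ (a : F) from rfl,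
    inv_mul_cancel₀ ((map_ne_zero C.σ).2 a.ne_zero), one_smul]

/-- A torus element is a torus element at `(0, 1)` times one fixing `+0`. -/
theorem torus_split {t : G} (ht : t ∈ A.TP) {l : F} (hl : app C (A.φ t) (Φ.v (.inl 0)) = l • Φ.v (.inl 0)) :
    ∃ b : Fˣ, (b : F) = l ∧ ∃ a, t = A.ρ (h01 0 b) * A.dd a := by
  obtain ⟨c, a, rfl⟩ := A.exists_torus ht
  set s := Units.map (C.σ : F →* F) a with hs
  refine ⟨c * s⁻¹, ?_, a, ?_⟩
  · rw [map_mul, app_mul, (A.app_kk a).1, app_smul, (A.app_h01 c).1, smul_smul] at hl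
    rw [Units.val_mul, ← smul_v_inj Φ (c := .inl 0) hl, Units.val_inv_eq_inv_val, mul_comm]
    rfl
  · rw [dd_apply, ← mul_assoc, ← map_mul, ← map_mul, ← hs, inv_mul_cancel_right]

/-- Elements commuting with the root groups at `+0`. -/
theorem commute_XP_of {z : G} {b : F} (hb : C.σ b ≠ b) {ω : Fˣ} (hgen : ∀ t : F, t ≠ 0 → ∃ j : ℕ, t = (ω : F) ^ j)
    (h1 : Commute z (A.el (.inr 1) 1)) (h2 : Commute z (A.el (.inr 1) b)) (hq : Commute z A.p1)
    (hD : Commute z (A.dd ω)) {d : SI (0 + 2)} (hd : ix d ≠ 0) {x : G} (hx : x ∈ A.XP (.inl 0) d) :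
    Commute z x := by
  have hu : ix (Sum.inr 1 : SI (0 + 2)) ≠ 0 := zero_ne_one'.symm
  let S : AddSubgroup F :=
    { carrier := {r | Commute z (A.el (.inr 1) r)}
      zero_mem' := by
        show Commute z _
        rw [A.el_zero hu]; exact Commute.one_right z
      add_mem' := fun {r s} hr hs => by
        show Commute z _
        rw [A.el_add hu]; exact Commute.mul_right hr hs
      neg_mem' := fun {r} hr => by
        show Commute z _
        rw [A.el_neg hu]; exact Commute.inv_right hr }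
  have hscale : ∀ (a : Fˣ) (r : F), r ∈ S → (a : F) * C.σ a * r ∈ S := fun a r hr => by
    obtain ⟨j, hj⟩ := hgen a a.ne_zero
    have ha : a = ω ^ j := Units.ext (by rw [Units.val_pow_eq_pow_val, hj])
    show Commute z _
    rw [← (A.conj_el_dd a r).1]
    have hc : Commute z (A.dd a) := by rw [ha, map_pow]; exact hD.pow_right j
    exact (hc.mul_right hr).mul_right hc.inv_right
  have hline : ∀ f r : F, C.σ f = f → r ∈ S → f * r ∈ S := fun f r hf hr => by
    by_cases h0 : f = 0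
    · rw [h0, zero_mul]; exact S.zero_mem
    obtain ⟨a, ha⟩ := exists_norm_eq C hf h0
    rw [← ha]; exact hscale a r hr
  have hneg : ∀ y ∈ A.XP (.inl 0) (.inr 1), Commute z y := fun y hy => by
    obtain ⟨r, rfl⟩ := A.el_surj (d := .inr 1) hu hy
    obtain ⟨f, g, hf, hg, rfl⟩ := exists_coord hb r
    have := S.add_mem (hline f 1 hf h1) (hline g b hg h2)
    rwa [mul_one] at this
  rcases d_cases hd with rfl | rfl
  · have m0 : Mv Φ (A.φ A.p1) (.inl 0) (.inl 0) := by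
      have := A.mv_p1 (.inl 0)
      rwa [ix_inl, if_neg zero_ne_one'] at this
    have m1 : Mv Φ (A.φ A.p1) (.inr 1) (.inl 1) := by
      have := A.mv_p1 (.inr 1)
      rwa [ix_inr, if_pos rfl, Sum.swap_inr] at this
    rw [← A.cnj_XP A.p1_mem_N m0 m1] at hx
    obtain ⟨y, hy, rfl⟩ := hx
    exact (hq.mul_right (hneg y hy)).mul_right hq.inv_right
  · exact hneg x hx

end Base

end CfsgLib.SUPres
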