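import Cfsg.Agent.SUPres.TwoU

/-!
# The rank one root group from the relations, two indices
-/

set_option autoImplicit false
set_option linter.unusedSectionVars false
set_option linter.unusedSimpArgs false
set_option linter.unusedVariables false

namespace CfsgLib.SUPres

open Matrix CfsgLib.RepBounds.Unit CfsgLib.SUThreeUnipotent CfsgLib.SUTwoGen CfsgLib.SL2Pres CfsgLib.SLnPres
open CfsgLib.SpnPres (IsMon monOf isMon_monOf)
open scoped commutatorElement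

variable {F : Type*} [Field F] [Fintype F] {C : ConjField F} {ι : Type*} [Fintype ι] [DecidableEq ι]

namespace U2

variable {Φ : PFrame C (0 + 2) ι} {G : Type*} [Group G] (R : U2 Φ G)

/-- The root group of one index and the root group of `+0, +1`. -/
def W : Subgroup G := R.Ys ⊔ R.P

theorem Z_le_W : R.Z ≤ R.W := le_trans R.Z_le_Ys le_sup_left

theorem P_le_W : R.P ≤ R.W := le_sup_right

theorem Ys_P {y w : G} (hy : y ∈ R.Ys) (hw : w ∈ R.P) : Commute y w := by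
  obtain ⟨f, g, hf, hg, z, hz, rfl⟩ := hy
  exact ((R.P_U hw f).mul_left (R.P_U hw _)).mul_left (R.P_Z hw hz).symm

theorem Ys_el {y x : G} (hy : y ∈ R.Ys) {d : SI (0 + 2)} (hd : ix d ≠ 0) (hx : x ∈ R.A.XP (.inl 0) d) :
    Commute y x := by
  obtain ⟨f, g, hf, hg, z, hz, rfl⟩ := hy
  exact ((R.U_el hd hx f).mul_left (R.U_el hd hx _)).mul_left (R.toZ2.Z_cen hz d hd x hx)

theorem W_inj : InjOn' R.φ R.W := by
  refine injOn_sup (normalizer_of_commutator_le (Subgroup.commutator_le.2 fun a ha c hc => ?_))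
    R.Ys_inj (fun _ hx h => R.A.XP_inj hx h) fun a ha c hc e => ?_
  · rw [commutatorElement_eq_one_iff_commute.2 (R.Ys_P ha hc)]
    exact one_mem _
  · obtain ⟨a', γ, hv, ea⟩ := R.Ys_img a ha
    obtain ⟨r, er⟩ := (R.A.XP_image (c := .inl 0) (d := .inl 1) zero_ne_one').1 c hc
    rw [e]
    exact er.trans (pEl_ne_qEl (c := .inl 0) (e := .inl 1) zero_ne_one' hv (er.symm.trans (e.symm.trans ea)))

instance W_finite : Finite R.W :=
  Finite.of_injective (fun x : R.W => R.φ x) fun x y e => Subtype.ext (R.W_inj.ext x.2 y.2 e)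

theorem norm_W_of {n : G} (h : ∀ x ∈ R.W, n * x * n⁻¹ ∈ R.W) : n ∈ Subgroup.normalizer (R.W : Set G) := by
  rw [Subgroup.mem_normalizer_iff]
  exact fun y => (mem_normalizer_fin (y := n) h).symm

theorem TP_Ys {t y : G} (ht : t ∈ R.A.TP) (hy : y ∈ R.Ys) : t * y * t⁻¹ ∈ R.Ys := by
  obtain ⟨l, -, hl⟩ := (R.A.TP_diag ht).2 (.inl 0)
  obtain ⟨f, g, hf, hg, z, hz, rfl⟩ := hy
  rw [show t * (R.U f * R.U (g * R.b) * z) * t⁻¹ =
    (t * R.U f * t⁻¹) * (t * R.U (g * R.b) * t⁻¹) * (t * z * t⁻¹) by group, R.conj_U ht hl, R.conj_U ht hl]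
  exact mul_mem (mul_mem (R.U_mem _) (R.U_mem _)) (R.Z_le_Ys ((R.cnj_Z ht).le (conj_mem_cnj hz)))

theorem TP_P {t y : G} (ht : t ∈ R.A.TP) (hy : y ∈ R.P) : t * y * t⁻¹ ∈ R.P :=
  (R.A.cnj_XP (R.A.TP_le_N ht) ((R.A.TP_diag ht).2 _) ((R.A.TP_diag ht).2 _)).le (conj_mem_cnj hy)

theorem TP_W {t : G} (ht : t ∈ R.A.TP) : t ∈ Subgroup.normalizer (R.W : Set G) := by
  refine R.norm_W_of fun x hx => ?_
  refine (sup_le (fun y hy => ?_) (fun y hy => ?_) : R.W ≤ R.W.comap (MulAut.conj t).toMonoidHom) hx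
  · exact Subgroup.mem_sup_left (R.TP_Ys ht hy)
  · exact Subgroup.mem_sup_right (R.TP_P ht hy)

theorem neg_W {x : G} (hx : x ∈ R.A.XP (.inl 0) (.inr 1)) : x ∈ Subgroup.normalizer (R.W : Set G) := by
  refine R.norm_W_of fun y hy => ?_
  refine (sup_le (fun y hy => ?_) (fun y hy => ?_) : R.W ≤ R.W.comap (MulAut.conj x).toMonoidHom) hy
  · show x * y * x⁻¹ ∈ R.W
    rw [(R.Ys_el hy (d := .inr 1) zero_ne_one'.symm hx).symm.eq, mul_inv_cancel_right]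
    exact Subgroup.mem_sup_left hy
  · show x * y * x⁻¹ ∈ R.W
    rw [show x * y * x⁻¹ = ⁅x, y⁆ * y by simp only [commutatorElement_def]; group]
    exact mul_mem (R.Z_le_W (Subgroup.commutator_mem_commutator hx hy)) (R.P_le_W hy)

theorem cnj_w_P : cnj (R.A.ρ (w01 0)) R.P = R.P := by
  rw [P, R.A.cnj_XP (R.A.ρ_mem_N w01_mem) (R.mv_w _) (R.mv_w _), Sum.map_inl, Sum.map_inl, Equiv.swap_apply_left,
    Equiv.swap_apply_right, R.A.XP_symm]

theorem u1_P {w : G} (hw : w ∈ R.P) : Commute R.u1 w := by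
  rw [← R.cnj_w_P] at hw
  obtain ⟨y, hy, rfl⟩ := hw
  exact commute_conj _ (R.u_el (d := .inl 1) zero_ne_one'.symm hy)

theorem z0_eq : R.toZ2.fz 1 = R.A.cc 1 1 R.b := by rw [Z2.fz, one_mul]

/-- A statement on the long root elements which is invariant under some torus elements. -/
theorem fz_induct (S : AddSubgroup F)
    (h1 : ∀ f : F, C.σ f = f → f ≠ 0 → ∀ t ∈ R.A.TP,
      t * R.toZ2.fz 1 * t⁻¹ = R.toZ2.fz (f * f) →
      Commute t R.u1 → (∀ z ∈ R.Z, Commute t (R.A.ρ (w01 0) * z * (R.A.ρ (w01 0))⁻¹)) → f * f ∈ S)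
    {f : F} (hf : C.σ f = f) : f ∈ S := by
  have := sq_fix C S (s := 1) (fun y hy => ?_) hf
  · rwa [mul_one] at this
  rw [mul_one]
  by_cases h0 : y = 0
  · rw [h0, zero_mul]; exact S.zero_mem
  obtain ⟨t, ht, hl, htu, -, hcc, htz⟩ := R.exists_stab hy h0
  refine h1 y hy h0 t ht ?_ htu htz
  refine R.toZ2.Z_inj.ext ((R.cnj_Z ht).le (conj_mem_cnj (R.toZ2.fz_mem 1))) (R.toZ2.fz_mem _) ?_
  have hv : QV Φ 0 (1 * (C.σ R.b - R.b)) := qv_zero_iff.2 (by rw [one_mul, map_sub, C.invol]; ring)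
  rw [map_mul, map_mul, map_inv, R.toZ2.φ_fz (map_one _), conj_qEl0 (g := R.φ t) hl (R.A.TP_diag ht).1.2 hv,
    R.toZ2.φ_fz (by rw [map_mul, hy]), mul_zero, hy]
  congr 1
  ring

/-- The subgroup of the elements which commute with `x`, read on the parameters of the long root elements. -/
def comParam (x : G) : AddSubgroup F where
  carrier := {f | Commute (R.toZ2.fz f) x}
  zero_mem' := by
    show Commute _ x
    rw [R.toZ2.fz_zero]; exact Commute.one_left x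
  add_mem' := fun {f g} (hf : Commute _ x) (hg : Commute _ x) => by
    show Commute _ x
    rw [R.toZ2.fz_add]; exact hf.mul_left hg
  neg_mem' := fun {f} (hf : Commute _ x) => by
    show Commute _ x
    rw [R.toZ2.fz_neg]; exact hf.inv_left

theorem Z_u1 {z : G} (hz : z ∈ R.Z) : Commute z R.u1 := by
  obtain ⟨f, hf, rfl⟩ := R.toZ2.Z_form hz
  refine R.fz_induct (R.comParam R.u1) (fun y hy h0 t ht e htu htz => ?_) hf
  show Commute _ _
  rw [← e]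
  have h0' : Commute (R.toZ2.fz 1) R.u1 := by rw [R.z0_eq]; exact R.z0u1
  exact (htu.mul_left h0').mul_left htu.inv_left

theorem u1_U (a : F) : ⁅R.U a, R.u1⁆ ∈ R.P := by
  have key : ∀ a, ⁅R.U a, R.u1⁆ ∈ R.P → ∀ f, C.σ f = f → ⁅R.U (f * a), R.u1⁆ ∈ R.P := by
    intro a h f hf
    by_cases h0 : f = 0
    · rw [h0, zero_mul, show R.U 0 = 1 from R.A.Uel_zero _, commutatorElement_one_left]; exact one_mem _
    obtain ⟨t, ht, hl, htu, -, -, -⟩ := R.exists_stab hf h0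
    have e := R.conj_U ht hl a
    rw [hf] at e
    rw [← e, show ⁅t * R.U a * t⁻¹, R.u1⁆ = t * ⁅R.U a, t⁻¹ * R.u1 * t⁆ * t⁻¹ by
      simp only [commutatorElement_def]; group, htu.inv_left.eq, inv_mul_cancel_right]
    exact R.TP_P ht h
  let K : Subgroup G :=
    { carrier := {y | (∀ w ∈ R.P, Commute y w) ∧ ⁅y, R.u1⁆ ∈ R.P}
      one_mem' := ⟨fun w _ => Commute.one_left w, by simp [one_mem]⟩
      mul_mem' := by
        rintro x y ⟨hx, hx'⟩ ⟨hy, hy'⟩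
        refine ⟨fun w hw => (hx w hw).mul_left (hy w hw), ?_⟩
        rw [show ⁅x * y, R.u1⁆ = x * ⁅y, R.u1⁆ * x⁻¹ * ⁅x, R.u1⁆ by simp only [commutatorElement_def]; group,
          (hx _ hy').eq, mul_inv_cancel_right]
        exact mul_mem hy' hx'
      inv_mem' := by
        rintro x ⟨hx, hx'⟩
        refine ⟨fun w hw => (hx w hw).inv_left, ?_⟩
        rw [show ⁅x⁻¹, R.u1⁆ = x⁻¹ * ⁅x, R.u1⁆⁻¹ * x⁻¹⁻¹ by simp only [commutatorElement_def]; group,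
          ((hx _ (inv_mem hx')).inv_left).eq, mul_inv_cancel_right]
        exact inv_mem hx' }
  have hYs : R.Ys ≤ K := by
    rintro _ ⟨f, g, hf, hg, z, hz, rfl⟩
    have h1 : ∀ a, ⁅R.U a, R.u1⁆ ∈ R.P → R.U a ∈ K := fun a h => ⟨fun w hw => R.P_U hw a, h⟩
    have hu : ⁅R.U 1, R.u1⁆ ∈ R.P := by rw [R.U_one]; exact R.uu
    have hu' : ⁅R.U R.b, R.u1⁆ ∈ R.P := by rw [R.U_b]; exact R.uu'
    refine mul_mem (mul_mem (h1 _ ?_) (h1 _ (key _ hu' g hg))) ?_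
    · have := key _ hu f hf
      rwa [mul_one] at this
    · refine ⟨fun w hw => (R.P_Z hw hz).symm, ?_⟩
      rw [commutatorElement_eq_one_iff_commute.2 (R.Z_u1 hz)]
      exact one_mem _
  exact (hYs (R.U_mem a)).2

theorem u1_Ys {y : G} (hy : y ∈ R.Ys) : ⁅y, R.u1⁆ ∈ R.P := by
  obtain ⟨f, g, hf, hg, z, hz, rfl⟩ := hy
  rw [show ⁅R.U f * R.U (g * R.b) * z, R.u1⁆ =
    R.U f * (R.U (g * R.b) * ⁅z, R.u1⁆ * (R.U (g * R.b))⁻¹ * ⁅R.U (g * R.b), R.u1⁆) * (R.U f)⁻¹ * ⁅R.U f, R.u1⁆ by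
    simp only [commutatorElement_def]; group, commutatorElement_eq_one_iff_commute.2 (R.Z_u1 hz), mul_one,
    mul_inv_cancel, one_mul, (R.P_U (R.u1_U (g * R.b)) f).eq, mul_inv_cancel_right]
  exact mul_mem (R.u1_U _) (R.u1_U _)

theorem u1_W : R.u1 ∈ Subgroup.normalizer (R.W : Set G) := by
  refine R.norm_W_of fun x hx => ?_
  refine (sup_le (fun y hy => ?_) (fun y hy => ?_) : R.W ≤ R.W.comap (MulAut.conj R.u1).toMonoidHom) hx
  · show R.u1 * y * R.u1⁻¹ ∈ R.W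
    rw [show R.u1 * y * R.u1⁻¹ = ⁅y, R.u1⁆⁻¹ * y by simp only [commutatorElement_def]; group]
    exact mul_mem (R.P_le_W (inv_mem (R.u1_Ys hy))) (Subgroup.mem_sup_left hy)
  · show R.u1 * y * R.u1⁻¹ ∈ R.W
    rw [(R.u1_P hy).eq, mul_inv_cancel_right]
    exact R.P_le_W hy

theorem E_mem (r : F) : R.E r ∈ R.W := by
  obtain ⟨f, g, hf, hg, rfl⟩ := exists_coord R.toZ2.hb r
  obtain ⟨y, hy, e⟩ := R.E_add (R.good_fix hf) (R.good_b hg)
  rw [e]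
  exact mul_mem (mul_mem (Subgroup.mem_sup_left (R.U_mem _)) (Subgroup.mem_sup_left (R.U_mem _)))
    (sup_le R.Z_le_W R.P_le_W hy)

/-- The elements with all commutators with `X_{0,-1}` in `W`. -/
def K1 : Subgroup G where
  carrier := {y | y ∈ Subgroup.normalizer (R.W : Set G) ∧
    ∀ x ∈ R.A.XP (.inl 0) (.inr 1), ⁅x, y⁆ ∈ R.W}
  one_mem' := ⟨one_mem _, fun x _ => by simp [one_mem]⟩
  mul_mem' := by
    rintro a c ⟨ha, ha'⟩ ⟨hc, hc'⟩
    refine ⟨mul_mem ha hc, fun x hx => ?_⟩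
    rw [show ⁅x, a * c⁆ = ⁅x, a⁆ * (a * ⁅x, c⁆ * a⁻¹) by simp only [commutatorElement_def]; group]
    exact mul_mem (ha' x hx) ((Subgroup.mem_normalizer_iff.1 ha _).1 (hc' x hx))
  inv_mem' := by
    rintro a ⟨ha, ha'⟩
    refine ⟨inv_mem ha, fun x hx => ?_⟩
    rw [show ⁅x, a⁻¹⁆ = a⁻¹ * ⁅x, a⁆⁻¹ * a⁻¹⁻¹ by simp only [commutatorElement_def]; group]
    exact (Subgroup.mem_normalizer_iff.1 (inv_mem ha) _).1 (inv_mem (ha' x hx))

theorem K1_TP {t y : G} (ht : t ∈ R.A.TP) (hy : y ∈ R.K1) : t * y * t⁻¹ ∈ R.K1 := by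
  have hn := R.TP_W ht
  refine ⟨mul_mem (mul_mem hn hy.1) (inv_mem hn), fun x hx => ?_⟩
  have hx' : t⁻¹ * x * t ∈ R.A.XP (.inl 0) (.inr 1) := by
    have := (R.A.cnj_XP (inv_mem (R.A.TP_le_N ht)) ((R.A.TP_diag (inv_mem ht)).2 (.inl 0))
      ((R.A.TP_diag (inv_mem ht)).2 (.inr 1))).le (conj_mem_cnj (n := t⁻¹) hx)
    rwa [inv_inv] at this
  rw [show ⁅x, t * y * t⁻¹⁆ = t * ⁅t⁻¹ * x * t, y⁆ * t⁻¹ by simp only [commutatorElement_def]; group]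
  exact (Subgroup.mem_normalizer_iff.1 hn _).1 (hy.2 _ hx')

theorem u1_K1 : R.u1 ∈ R.K1 := by
  refine ⟨R.u1_W, fun x hx => ?_⟩
  obtain ⟨r, rfl⟩ := R.A.el_surj (d := .inr 1) zero_ne_one'.symm hx
  exact R.E_mem r

end U2

/-- The relations, two indices. -/
structure Full2 (Φ : PFrame C (0 + 2) ι) (G : Type*) [Group G] extends U2 Φ G where
  z0z1 : Commute (toBase.cc 1 1 (C.σ ω)) (ρ (w01 0) * toBase.cc 1 1 (C.σ ω) * (ρ (w01 0))⁻¹)
  z1x1 : ⁅toBase.el (.inr 1) 1, ρ (w01 0) * toBase.cc 1 1 (C.σ ω) * (ρ (w01 0))⁻¹⁆ ∈ toU2.W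
  z1xb : ⁅toBase.el (.inr 1) (C.σ ω), ρ (w01 0) * toBase.cc 1 1 (C.σ ω) * (ρ (w01 0))⁻¹⁆ ∈ toU2.W

namespace Full2

variable {Φ : PFrame C (0 + 2) ι} {G : Type*} [Group G] (R : Full2 Φ G)

/-- The monomial data. -/
abbrev A : Base Φ G := R.toBase

/-- The exchange of the indices. -/
abbrev w : G := R.A.ρ (w01 0)

theorem w_TP {t : G} (ht : t ∈ R.A.TP) : R.w * t * R.w⁻¹ ∈ R.A.TP :=
  (Subgroup.mem_normalizer_iff.1 (R.A.ρ_normalizer w01_mem) _).1 ht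

theorem ww_z0 : R.w * R.w * R.toU2.toZ2.fz 1 * (R.w * R.w)⁻¹ = R.toU2.toZ2.fz 1 := by
  rw [R.A.w_sq, R.toU2.z0_eq]
  show R.ρ _ * _ * _ = _
  rw [R.toU2.toZ2.h01_cc, Units.val_neg, Units.val_one, map_neg, map_one, neg_mul_neg, one_mul, inv_neg, inv_one,
    neg_mul_neg, one_mul, one_mul]

theorem Z_Z1 {z z' : G} (hz : z ∈ R.toU2.Z) (hz' : z' ∈ R.toU2.Z) : Commute z (R.w * z' * R.w⁻¹) := by
  have h1 : ∀ z ∈ R.toU2.Z, Commute z (R.w * R.toU2.toZ2.fz 1 * R.w⁻¹) := by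
    intro z hz
    obtain ⟨f, hf, rfl⟩ := R.toU2.toZ2.Z_form hz
    refine R.toU2.fz_induct (R.toU2.comParam _) (fun y hy h0 t ht e htu htz => ?_) hf
    show Commute _ _
    rw [← e]
    have hz0 : Commute (R.toU2.toZ2.fz 1) (R.w * R.toU2.toZ2.fz 1 * R.w⁻¹) := by
      rw [R.toU2.z0_eq]; exact R.z0z1
    have hc := htz _ (R.toU2.toZ2.fz_mem 1)
    exact (hc.mul_left hz0).mul_left hc.inv_left
  have h2 : Commute (R.toU2.toZ2.fz 1) (R.w * z' * R.w⁻¹) := by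
    have h := commute_conj R.w (h1 z' hz')
    rw [show R.w * (R.w * R.toU2.toZ2.fz 1 * R.w⁻¹) * R.w⁻¹ = R.w * R.w * R.toU2.toZ2.fz 1 * (R.w * R.w)⁻¹ by group,
      R.ww_z0] at h
    exact h.symm
  obtain ⟨f, hf, rfl⟩ := R.toU2.toZ2.Z_form hz
  refine R.toU2.fz_induct (R.toU2.comParam _) (fun y hy h0 t ht e htu htz => ?_) hf
  show Commute _ _
  rw [← e]
  have hc := htz _ hz'
  exact (hc.mul_left h2).mul_left hc.inv_left

theorem Z1_W {z y : G} (hz : z ∈ R.toU2.Z) (hy : y ∈ R.toU2.W) : Commute (R.w * z * R.w⁻¹) y := by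
  have hU : ∀ a, Commute (R.w * z * R.w⁻¹) (R.toU2.U a) := by
    intro a
    by_cases ha : a = 0
    · subst ha
      rw [show R.toU2.U 0 = 1 from R.A.Uel_zero _]; exact Commute.one_right _
    set l := Units.mk0 (C.σ (-a)) ((map_ne_zero C.σ).2 (neg_ne_zero.2 ha)) with hl
    set t := R.A.ρ (h01 0 l) with ht
    have htT : t ∈ R.A.TP := R.toU2.h01_TP l
    set t' := R.A.ρ (h01 0 l⁻¹) with ht'
    have hz' : t'⁻¹ * z * t' ∈ R.toU2.Z := by
      have := (R.toU2.cnj_Z (inv_mem (R.toU2.h01_TP l⁻¹))).le (conj_mem_cnj (n := t'⁻¹) hz)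
      rwa [inv_inv] at this
    have e1 : R.w * z * R.w⁻¹ = t * (R.w * (t'⁻¹ * z * t') * R.w⁻¹) * t⁻¹ := by
      have := R.A.w_h01 l⁻¹
      rw [inv_inv] at this
      rw [ht, ← this, ht']
      group
    have e2 : R.toU2.U a = t * R.toU2.U (-1) * t⁻¹ := by
      rw [R.toU2.h01_U, hl, Units.val_mk0, C.invol, neg_mul_neg, mul_one]
    rw [e1, e2]
    refine commute_conj t ?_
    have h := commute_conj R.w (R.toU2.Z_u1 hz')
    have e3 : R.w * R.toU2.u1 * R.w⁻¹ = R.toU2.U (-1) := by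
      rw [show R.w * R.toU2.u1 * R.w⁻¹ = R.w * R.w * R.toU2.u * (R.w * R.w)⁻¹ by
        show R.w * (R.A.ρ (w01 0) * R.toU2.u * (R.A.ρ (w01 0))⁻¹) * R.w⁻¹ = _
        group, R.A.w_sq, ← R.toU2.U_one, R.toU2.h01_U, Units.val_neg, Units.val_one, map_neg, map_one, mul_one]
    rwa [e3] at h
  have hYs : R.toU2.Ys ≤ Subgroup.centralizer {R.w * z * R.w⁻¹} := by
    rintro _ ⟨f, g, hf, hg, z', hz', rfl⟩
    rw [Subgroup.mem_centralizer_singleton_iff]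
    exact (((hU f).mul_right (hU _)).mul_right (R.Z_Z1 hz' hz).symm).eq.symm
  refine (Subgroup.mem_centralizer_singleton_iff.1 ((sup_le hYs fun y hy => ?_ :
    R.toU2.W ≤ Subgroup.centralizer {R.w * z * R.w⁻¹}) hy)).symm
  rw [Subgroup.mem_centralizer_singleton_iff]
  rw [← R.toU2.cnj_w_P] at hy
  obtain ⟨y', hy', rfl⟩ := hy
  exact (commute_conj R.w (R.toU2.P_Z hy' hz)).eq

theorem z1_K1 : R.w * R.toU2.toZ2.fz 1 * R.w⁻¹ ∈ R.toU2.K1 := by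
  have hzW : ∀ y ∈ R.toU2.W, Commute (R.w * R.toU2.toZ2.fz 1 * R.w⁻¹) y := fun y hy =>
    R.Z1_W (R.toU2.toZ2.fz_mem 1) hy
  set z1 := R.w * R.toU2.toZ2.fz 1 * R.w⁻¹ with hz1
  refine ⟨R.toU2.norm_W_of fun y hy => by rwa [(hzW y hy).eq, mul_inv_cancel_right], fun x hx => ?_⟩
  let S : Subgroup G :=
    { carrier := {x | x ∈ Subgroup.normalizer (R.toU2.W : Set G) ∧ ⁅x, z1⁆ ∈ R.toU2.W}
      one_mem' := ⟨one_mem _, by simp [one_mem]⟩
      mul_mem' := by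
        rintro a c ⟨ha, ha'⟩ ⟨hc, hc'⟩
        refine ⟨mul_mem ha hc, ?_⟩
        rw [show ⁅a * c, z1⁆ = a * ⁅c, z1⁆ * a⁻¹ * ⁅a, z1⁆ by simp only [commutatorElement_def]; group]
        exact mul_mem ((Subgroup.mem_normalizer_iff.1 ha _).1 hc') ha'
      inv_mem' := by
        rintro a ⟨ha, ha'⟩
        refine ⟨inv_mem ha, ?_⟩
        rw [show ⁅a⁻¹, z1⁆ = a⁻¹ * ⁅a, z1⁆⁻¹ * a⁻¹⁻¹ by simp only [commutatorElement_def]; group]
        exact (Subgroup.mem_normalizer_iff.1 (inv_mem ha) _).1 (inv_mem ha') }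
  have line : ∀ r, R.A.el (.inr 1) r ∈ S → ∀ f, C.σ f = f → R.A.el (.inr 1) (f * r) ∈ S := by
    intro r hr f hf
    by_cases h0 : f = 0
    · rw [h0, zero_mul, R.A.el_zero (d := .inr 1) zero_ne_one'.symm]; exact one_mem S
    obtain ⟨t, ht, -, -, hel, -, htz⟩ := R.toU2.exists_stab hf h0
    rw [← hel r]
    have hn := R.toU2.TP_W ht
    refine ⟨mul_mem (mul_mem hn hr.1) (inv_mem hn), ?_⟩
    have hc : Commute t z1 := htz _ (R.toU2.toZ2.fz_mem 1)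
    rw [show ⁅t * R.A.el (.inr 1) r * t⁻¹, z1⁆ = t * ⁅R.A.el (.inr 1) r, t⁻¹ * z1 * t⁆ * t⁻¹ by
      simp only [commutatorElement_def]; group, hc.inv_left.eq, inv_mul_cancel_right]
    exact (Subgroup.mem_normalizer_iff.1 hn _).1 hr.2
  have hb1 : R.A.el (.inr 1) 1 ∈ S := ⟨R.toU2.neg_W (R.A.el_mem (d := .inr 1) zero_ne_one'.symm _), by
    rw [hz1, R.toU2.z0_eq]; exact R.z1x1⟩
  have hb2 : R.A.el (.inr 1) R.toU2.b ∈ S := ⟨R.toU2.neg_W (R.A.el_mem (d := .inr 1) zero_ne_one'.symm _), by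
    rw [hz1, R.toU2.z0_eq]; exact R.z1xb⟩
  obtain ⟨r, rfl⟩ := R.A.el_surj (d := .inr 1) zero_ne_one'.symm hx
  obtain ⟨f, g, hf, hg, rfl⟩ := exists_coord R.toU2.toZ2.hb r
  rw [R.A.el_add (d := .inr 1) zero_ne_one'.symm]
  refine (mul_mem ?_ (line _ hb2 g hg) : _ ∈ S).2
  have := line _ hb1 f hf
  rwa [mul_one] at this

theorem Z1_K1 {z : G} (hz : z ∈ R.toU2.Z) : R.w * z * R.w⁻¹ ∈ R.toU2.K1 := by
  let S : AddSubgroup F :=
    { carrier := {f | R.w * R.toU2.toZ2.fz f * R.w⁻¹ ∈ R.toU2.K1}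
      zero_mem' := by
        show _ ∈ R.toU2.K1
        rw [R.toU2.toZ2.fz_zero]; simp [one_mem]
      add_mem' := fun {f g} (hf : _ ∈ R.toU2.K1) (hg : _ ∈ R.toU2.K1) => by
        show _ ∈ R.toU2.K1
        rw [R.toU2.toZ2.fz_add, show R.w * (R.toU2.toZ2.fz f * R.toU2.toZ2.fz g) * R.w⁻¹ =
          (R.w * R.toU2.toZ2.fz f * R.w⁻¹) * (R.w * R.toU2.toZ2.fz g * R.w⁻¹) by group]
        exact mul_mem hf hg
      neg_mem' := fun {f} (hf : _ ∈ R.toU2.K1) => by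
        show _ ∈ R.toU2.K1
        rw [R.toU2.toZ2.fz_neg, show R.w * (R.toU2.toZ2.fz f)⁻¹ * R.w⁻¹ = (R.w * R.toU2.toZ2.fz f * R.w⁻¹)⁻¹ by group]
        exact inv_mem hf }
  obtain ⟨f, hf, rfl⟩ := R.toU2.toZ2.Z_form hz
  refine R.toU2.fz_induct S (fun y hy h0 t ht e htu htz => ?_) hf
  show _ ∈ R.toU2.K1
  rw [← e, show R.w * (t * R.toU2.toZ2.fz 1 * t⁻¹) * R.w⁻¹ =
    (R.w * t * R.w⁻¹) * (R.w * R.toU2.toZ2.fz 1 * R.w⁻¹) * (R.w * t * R.w⁻¹)⁻¹ by group]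
  exact R.toU2.K1_TP (R.w_TP ht) R.z1_K1

/-- The elements with all commutators with `Ys` in `P`. -/
def K2 : Subgroup G where
  carrier := {y | (∀ p ∈ R.toU2.P, Commute y p) ∧ ∀ a ∈ R.toU2.Ys, ⁅a, y⁆ ∈ R.toU2.P}
  one_mem' := ⟨fun p _ => Commute.one_left p, fun a _ => by simp [one_mem]⟩
  mul_mem' := by
    rintro x y ⟨hx, hx'⟩ ⟨hy, hy'⟩
    refine ⟨fun p hp => (hx p hp).mul_left (hy p hp), fun a ha => ?_⟩
    rw [show ⁅a, x * y⁆ = ⁅a, x⁆ * (x * ⁅a, y⁆ * x⁻¹) by simp only [commutatorElement_def]; group,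
      (hx _ (hy' a ha)).eq, mul_inv_cancel_right]
    exact mul_mem (hx' a ha) (hy' a ha)
  inv_mem' := by
    rintro x ⟨hx, hx'⟩
    refine ⟨fun p hp => (hx p hp).inv_left, fun a ha => ?_⟩
    rw [show ⁅a, x⁻¹⁆ = x⁻¹ * ⁅a, x⁆⁻¹ * x⁻¹⁻¹ by simp only [commutatorElement_def]; group,
      (hx _ (inv_mem (hx' a ha))).inv_left.eq, mul_inv_cancel_right]
    exact inv_mem (hx' a ha)

theorem K2_TP {t y : G} (ht : t ∈ R.A.TP) (hy : y ∈ R.K2) : t * y * t⁻¹ ∈ R.K2 := by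
  refine ⟨fun p hp => ?_, fun a ha => ?_⟩
  · have := commute_conj t (hy.1 _ (R.toU2.TP_P (inv_mem ht) hp))
    rwa [show t * (t⁻¹ * p * t⁻¹⁻¹) * t⁻¹ = p by group] at this
  · have := hy.2 _ (R.toU2.TP_Ys (inv_mem ht) ha)
    rw [show ⁅a, t * y * t⁻¹⁆ = t * ⁅t⁻¹ * a * t⁻¹⁻¹, y⁆ * t⁻¹ by simp only [commutatorElement_def]; group]
    exact R.toU2.TP_P ht this

theorem Y1_K : cnj R.w R.toU2.Ys ≤ R.toU2.K1 ⊓ R.K2 := by
  have hU : ∀ a, R.w * R.toU2.U a * R.w⁻¹ ∈ R.toU2.K1 ⊓ R.K2 := by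
    intro a
    rcases R.toU2.U_cases a with e | ⟨l, e⟩
    · rw [e]; simp [one_mem]
    · rw [e, show R.w * (R.A.ρ (h01 0 l) * R.toU2.u * (R.A.ρ (h01 0 l))⁻¹) * R.w⁻¹ =
        (R.w * R.A.ρ (h01 0 l) * R.w⁻¹) * R.toU2.u1 * (R.w * R.A.ρ (h01 0 l) * R.w⁻¹)⁻¹ by
        show _ = _ * (R.A.ρ (w01 0) * R.toU2.u * (R.A.ρ (w01 0))⁻¹) * _
        group]
      have ht := R.w_TP (R.toU2.h01_TP l)
      exact ⟨R.toU2.K1_TP ht R.toU2.u1_K1, R.K2_TP ht ⟨fun p hp => R.toU2.u1_P hp, fun a ha => R.toU2.u1_Ys ha⟩⟩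
  rintro _ ⟨_, ⟨f, g, hf, hg, z, hz, rfl⟩, rfl⟩
  simp only [MulEquiv.coe_toMonoidHom, MulAut.conj_apply]
  rw [show R.w * (R.toU2.U f * R.toU2.U (g * R.toU2.b) * z) * R.w⁻¹ = (R.w * R.toU2.U f * R.w⁻¹) *
    (R.w * R.toU2.U (g * R.toU2.b) * R.w⁻¹) * (R.w * z * R.w⁻¹) by group]
  refine mul_mem (mul_mem (hU _) (hU _)) ⟨R.Z1_K1 hz, ?_⟩
  refine ⟨fun p hp => R.Z1_W hz (R.toU2.P_le_W hp), fun a ha => ?_⟩
  rw [commutatorElement_eq_one_iff_commute.2 (R.Z1_W hz (Subgroup.mem_sup_left ha)).symm]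
  exact one_mem _

theorem p1_Ys {y : G} (hy : y ∈ R.toU2.Ys) : R.A.p1 * y * R.A.p1⁻¹ ∈ R.toU2.Ys := by
  have hc : cnj R.A.p1 R.toU2.Z = R.toU2.Z := by
    have m0 : Mv Φ (R.A.φ R.A.p1) (.inl 0) (.inl 0) := by
      have := R.A.mv_p1 (.inl 0)
      rwa [ix_inl, if_neg zero_ne_one'] at this
    have m1 : Mv Φ (R.A.φ R.A.p1) (.inr 1) (.inl 1) := by
      have := R.A.mv_p1 (.inr 1)
      rwa [ix_inr, if_pos rfl, Sum.swap_inr] at this
    have m2 : Mv Φ (R.A.φ R.A.p1) (.inl 1) (.inr 1) := by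
      have := R.A.mv_p1 (.inl 1)
      rwa [ix_inl, if_pos rfl, Sum.swap_inl] at this
    show cnj R.A.p1 (R.A.Zs 1) = R.A.Zs 1
    rw [Base.Zs, cnj_commutator, R.A.cnj_XP R.A.p1_mem_N m0 m1, R.A.cnj_XP R.A.p1_mem_N m0 m2,
      Subgroup.commutator_comm]
  obtain ⟨f, g, hf, hg, z, hz, rfl⟩ := hy
  rw [show R.A.p1 * (R.toU2.U f * R.toU2.U (g * R.toU2.b) * z) * R.A.p1⁻¹ =
    (R.A.p1 * R.toU2.U f * R.A.p1⁻¹) * (R.A.p1 * R.toU2.U (g * R.toU2.b) * R.A.p1⁻¹) *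
      (R.A.p1 * z * R.A.p1⁻¹) by group, (R.toU2.q_U f).eq, (R.toU2.q_U _).eq, mul_inv_cancel_right,
    mul_inv_cancel_right]
  exact mul_mem (mul_mem (R.toU2.U_mem _) (R.toU2.U_mem _)) (R.toU2.Z_le_Ys (hc.le (conj_mem_cnj hz)))

instance Ys_finite : Finite R.toU2.Ys :=
  Finite.of_injective (fun x : R.toU2.Ys => R.φ x) fun x y e => Subtype.ext (R.toU2.Ys_inj.ext x.2 y.2 e)

theorem N_norm {n : G} (hn : n ∈ R.A.N) (h0 : Mv Φ (R.A.φ n) (.inl 0) (.inl 0)) :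
    n ∈ Subgroup.normalizer (R.toU2.Ys : Set G) := by
  obtain ⟨M, π, c, hM, hπ, x, hx, rfl⟩ := R.A.N_fix hn (T := {0}) fun i hi => by
    rw [Finset.mem_singleton.1 hi]; exact h0
  have hπ0 : π 0 = 0 := hπ 0 (Finset.mem_singleton_self _)
  obtain rfl : π = 1 := Equiv.ext fun i => by
    rcases fin_two_cases i with rfl | rfl
    · exact hπ0
    · rcases fin_two_cases (π 1) with e | e
      · exact absurd (π.injective (e.trans hπ0.symm)) zero_ne_one'.symm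
      · exact e
  have hT : R.A.TP ≤ Subgroup.normalizer (R.toU2.Ys : Set G) := fun t ht => by
    rw [Subgroup.mem_normalizer_iff]
    exact fun y => (mem_normalizer_fin (y := t) fun x hx => R.toU2.TP_Ys ht hx).symm
  have hp1 : R.A.p1 ∈ Subgroup.normalizer (R.toU2.Ys : Set G) := by
    rw [Subgroup.mem_normalizer_iff]
    exact fun y => (mem_normalizer_fin (y := R.A.p1) fun x hx => R.p1_Ys hx).symm
  refine mul_mem (hT (R.A.ρ_mem_TP ⟨c, hM⟩)) ?_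
  refine (sup_le hT ((Subgroup.closure_le _).2 ?_) : _ ≤ _) hx
  rintro _ ⟨i, hi, rfl⟩
  simp only [Finset.coe_sdiff, Set.mem_sdiff, Finset.coe_singleton, Set.mem_singleton_iff] at hi
  rcases fin_two_cases i with rfl | rfl
  · exact absurd rfl hi.2
  rw [SetLike.mem_coe, show R.A.pp 1 = (R.A.p1 * (R.A.pp 1)⁻¹)⁻¹ * R.A.p1 by group]
  exact mul_mem (inv_mem (hT R.A.p1_cong)) hp1

/-- The data of the rank one root group. -/
def toQData : QData Φ G where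
  toBase := R.A
  Y := R.toU2.Ys
  Y_inj := R.toU2.Ys_inj
  Y_img := R.toU2.Ys_img
  Y_surj := R.toU2.Ys_surj
  Y_norm := fun _ hn h0 => R.N_norm hn h0
  cPP := R.toU2.Z_le_Ys
  cPQa := le_bot_iff.1 (Subgroup.commutator_le.2 fun x hx y hy => by
    rw [Subgroup.mem_bot, commutatorElement_eq_one_iff_commute]
    exact (R.toU2.Ys_el hy (d := .inr 1) zero_ne_one'.symm hx).symm)
  cPQb := fun i j hi hj hij => absurd
    (((fin_two_cases i).resolve_left hi).trans ((fin_two_cases j).resolve_left hj).symm) hij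
  cPQc := Subgroup.commutator_le.2 fun x hx y hy => (R.Y1_K hy).1.2 x hx
  cQQ := Subgroup.commutator_le.2 fun a ha y hy => (R.Y1_K hy).2.2 a ha
  span := by
    have hu1 : R.toU2.u1 ∈ cnj R.w R.toU2.Ys := conj_mem_cnj R.toU2.u_mem
    rintro _ ⟨f, g, hf, hg, z, hz, rfl⟩
    refine mul_mem (mul_mem ?_ ?_) (Subgroup.mem_sup_right hz)
    · obtain ⟨v, hv, e⟩ := R.toU2.good_fix hf
      rw [show R.toU2.U f = R.toU2.E f * v⁻¹ by rw [e, mul_inv_cancel_right]]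
      exact Subgroup.mem_sup_left (mul_mem (Subgroup.mem_sup_left
        (Subgroup.commutator_mem_commutator (R.A.el_mem (d := .inr 1) zero_ne_one'.symm _) hu1))
        (Subgroup.mem_sup_right (inv_mem hv)))
    · obtain ⟨v, hv, e⟩ := R.toU2.good_b hg
      rw [show R.toU2.U (g * R.toU2.b) = R.toU2.E (g * R.toU2.b) * v⁻¹ by rw [e, mul_inv_cancel_right]]
      exact Subgroup.mem_sup_left (mul_mem (Subgroup.mem_sup_left
        (Subgroup.commutator_mem_commutator (R.A.el_mem (d := .inr 1) zero_ne_one'.symm _) hu1))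
        (Subgroup.mem_sup_right (inv_mem hv)))
  exch := by
    obtain ⟨z, hz, e⟩ := R.r8
    obtain ⟨δ, hv, hφ⟩ := R.toU2.toZ2.Z_image.1 z hz
    exact ⟨z, R.toU2.Z_le_Ys hz, δ, hv, hφ, e⟩

/-- The map onto the special unitary group is injective. -/
theorem injective (hgen : R.ρ.range ⊔ Subgroup.zpowers R.p ⊔ Subgroup.zpowers R.u = ⊤) :
    Function.Injective R.φ := by
  refine R.toQData.injective (eq_top_iff.2 ?_)
  rw [← hgen]
  exact sup_le le_sup_left (le_trans (Subgroup.zpowers_le.2 R.toU2.u_mem) le_sup_right)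

end Full2

end CfsgLib.SUPres
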