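import Cfsg.Agent.SUPres.TwoTarget

/-!
# The long root elements as commutators of short elements, two indices
-/

set_option autoImplicit false
set_option linter.unusedSectionVars false
set_option linter.unusedSimpArgs false
set_option linter.unusedVariables false

namespace CfsgLib.SUPres

open Matrix CfsgLib.RepBounds.Unit CfsgLib.SUThreeUnipotent CfsgLib.SUTwoGen CfsgLib.SL2Pres CfsgLib.SLnPres
open CfsgLib.SpnPres (IsMon)
open scoped commutatorElement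

theorem commutator_mul_commute {G : Type*} [Group G] {a x c y : G} (hax : Commute a x) (hay : Commute a y)
    (hcx : Commute c x) (hcy : Commute c y) (hac : Commute a c) : ⁅a * x, c * y⁆ = ⁅x, y⁆ := by
  rw [commutatorElement_def, commutatorElement_def]
  calc a * x * (c * y) * (a * x)⁻¹ * (c * y)⁻¹
      = a * (x * c) * y * x⁻¹ * a⁻¹ * y⁻¹ * c⁻¹ := by group
    _ = a * c * (x * y * x⁻¹ * a⁻¹) * y⁻¹ * c⁻¹ := by rw [← hcx.eq]; group
    _ = a * c * (a⁻¹ * (x * y * x⁻¹)) * y⁻¹ * c⁻¹ := by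
        rw [(((hax.mul_right hay).mul_right hax.inv_right).inv_left).eq]
    _ = c * (a * a⁻¹) * ((x * y * x⁻¹ * y⁻¹) * c⁻¹) := by rw [hac.eq]; group
    _ = c * (c⁻¹ * (x * y * x⁻¹ * y⁻¹)) := by
        rw [mul_inv_cancel, mul_one,
          ((((hcx.mul_right hcy).mul_right hcx.inv_right).mul_right hcy.inv_right).inv_left).eq]
    _ = _ := by group

variable {F : Type*} [Field F] [Fintype F] {C : ConjField F} {ι : Type*} [Fintype ι] [DecidableEq ι]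
variable {Φ : PFrame C (0 + 2) ι} {G : Type*} [Group G]

/-- The consequences of writing a long root element as a commutator of short ones. -/
theorem Base.short_z0 (A : Base Φ G) {u : G} {ω : Fˣ} (hb : C.σ (C.σ (ω : F)) ≠ C.σ (ω : F))
    (hgen : ∀ t : F, t ≠ 0 → ∃ j : ℕ, t = (ω : F) ^ j)
    (u_x1 : Commute u (A.el (.inr 1) 1)) (u_xb : Commute u (A.el (.inr 1) (C.σ ω)))
    (u_q : Commute u A.p1) (u_D : Commute u (A.dd ω))
    (uu : ⁅u, A.uone u⁆ ∈ A.XP (.inl 0) (.inl 1))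
    (uu' : ⁅A.ρ (h01 0 ω) * u * (A.ρ (h01 0 ω))⁻¹, A.uone u⁆ ∈ A.XP (.inl 0) (.inl 1))
    (hdef : A.cc 1 1 (C.σ ω) = ⁅u, A.ρ (h01 0 ω) * u * (A.ρ (h01 0 ω))⁻¹⁆) :
    Commute (A.cc 1 1 (C.σ ω)) (A.el (.inr 1) 1) ∧ Commute (A.cc 1 1 (C.σ ω)) (A.el (.inr 1) (C.σ ω)) ∧
    Commute (A.cc 1 1 (C.σ ω)) A.p1 ∧ Commute (A.cc 1 1 (C.σ ω)) (A.dd ω) ∧
    Commute (A.cc 1 1 (C.σ ω)) (A.uone u) := by
  rw [hdef]
  set h := A.ρ (h01 0 ω) with hh
  set v := h * u * h⁻¹ with hv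
  have hT : h ∈ A.TP := A.ρ_mem_TP (h01_mem ω)
  have hz : ix (Sum.inr 1 : SI (0 + 2)) ≠ 0 := zero_ne_one'.symm
  have hz' : ix (Sum.inl 1 : SI (0 + 2)) ≠ 0 := zero_ne_one'.symm
  have cu : ∀ {d : SI (0 + 2)}, ix d ≠ 0 → ∀ x ∈ A.XP (.inl 0) d, Commute u x := fun hd x hx =>
    A.commute_XP_of hb hgen u_x1 u_xb u_q u_D hd hx
  have cv : ∀ {d : SI (0 + 2)}, ix d ≠ 0 → ∀ x ∈ A.XP (.inl 0) d, Commute v x := fun {d} hd x hx => by
    rw [← A.cnj_XP (A.TP_le_N hT) ((A.TP_diag hT).2 (.inl 0)) ((A.TP_diag hT).2 d)] at hx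
    obtain ⟨y, hy, rfl⟩ := hx
    exact commute_conj h (cu hd y hy)
  have key : ∀ {x : G}, Commute u x → Commute v x → Commute ⁅u, v⁆ x := fun {x} h1 h2 => by
    rw [commutatorElement_def]
    exact ((h1.mul_left h2).mul_left h1.inv_left).mul_left h2.inv_left
  have dd_u : ∀ a : Fˣ, Commute (A.dd a) u := fun a => by
    obtain ⟨j, hj⟩ := hgen a a.ne_zero
    rw [show a = ω ^ j from Units.ext (by rw [Units.val_pow_eq_pow_val, hj]), map_pow]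
    exact (u_D.symm).pow_left j
  have vq : Commute v A.p1 := by
    have hn : A.p1 ∈ Subgroup.normalizer (A.TP : Set G) :=
      mul_mem (mul_mem (A.ρ_normalizer w01_mem) A.p_normalizer) (inv_mem (A.ρ_normalizer w01_mem))
    have hfix : app C (A.φ A.p1) (Φ.v (.inl 0)) = Φ.v (.inl 0) := by
      rw [show A.φ A.p1 = qT Φ A.c by rw [Base.p1, map_mul, map_mul, map_inv, A.hφρ, A.hφp, qT]]
      exact qT_fix A.hc A.hc0 (d := .inl 0) zero_ne_one'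
    set t := A.p1 * h * A.p1⁻¹ with ht
    have htT : t ∈ A.TP := (Subgroup.mem_normalizer_iff.1 hn _).1 hT
    have hl : app C (A.φ t) (Φ.v (.inl 0)) = (ω : F) • Φ.v (.inl 0) := by
      rw [ht, map_mul, map_mul, map_inv, app_mul, app_mul, app_inv_eq C hfix, hh, (A.app_h01 ω).1, app_smul, hfix]
    obtain ⟨b', hb', a, e⟩ := A.torus_split htT hl
    obtain rfl : b' = ω := Units.ext hb'
    have e2 : A.p1 * v * A.p1⁻¹ = v := by
      calc A.p1 * v * A.p1⁻¹ = t * (A.p1 * u * A.p1⁻¹) * t⁻¹ := by rw [ht, hv]; group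
        _ = h * (A.dd a * u * (A.dd a)⁻¹) * h⁻¹ := by
            rw [← u_q.eq, mul_inv_cancel_right, e, hh]; group
        _ = v := by rw [(dd_u a).eq, mul_inv_cancel_right, hv]
    exact (mul_inv_eq_iff_eq_mul.1 e2).symm
  have vD : Commute v (A.dd ω) := by
    have h1 := A.TP_comm hT (A.dd_mem ω)
    exact ((h1.mul_left u_D).mul_left h1.inv_left)
  refine ⟨key u_x1 (cv hz _ (A.el_mem (d := .inr 1) hz 1)), key u_xb (cv hz _ (A.el_mem (d := .inr 1) hz _)),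
    key u_q vq, key u_D vD, ?_⟩
  set s := A.uone u with hs
  set q := ⁅u, s⁆⁻¹ with hq
  set q' := ⁅v, s⁆⁻¹ with hq'
  have hqP : q ∈ A.XP (.inl 0) (.inl 1) := inv_mem uu
  have hqP' : q' ∈ A.XP (.inl 0) (.inl 1) := inv_mem uu'
  have hqq : Commute q q' := by
    obtain ⟨r, er⟩ := A.el_surj hz' hqP
    obtain ⟨r', er'⟩ := A.el_surj hz' hqP'
    rw [er, er', Commute, SemiconjBy, ← A.el_add hz', ← A.el_add hz']
    exact congrArg (A.el _) (add_comm r r')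
  have e : s * ⁅u, v⁆ * s⁻¹ = ⁅u, v⁆ := by
    rw [show s * ⁅u, v⁆ * s⁻¹ = ⁅q * u, q' * v⁆ by rw [hq, hq']; simp only [commutatorElement_def]; group]
    exact commutator_mul_commute (cu hz' _ hqP).symm (cv hz' _ hqP).symm (cu hz' _ hqP').symm (cv hz' _ hqP').symm hqq
  exact (mul_inv_eq_iff_eq_mul.1 e).symm

/-- The remaining relations follow when the long root element is a commutator of short ones. -/
theorem U2.z1_facts (R : U2 Φ G)
    (hdef : R.A.cc 1 1 (C.σ R.ω) = ⁅R.u, R.A.ρ (h01 0 R.ω) * R.u * (R.A.ρ (h01 0 R.ω))⁻¹⁆) :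
    Commute (R.A.cc 1 1 (C.σ R.ω)) (R.A.ρ (w01 0) * R.A.cc 1 1 (C.σ R.ω) * (R.A.ρ (w01 0))⁻¹) ∧
    ∀ x ∈ R.A.XP (.inl 0) (.inr 1),
      ⁅x, R.A.ρ (w01 0) * R.A.cc 1 1 (C.σ R.ω) * (R.A.ρ (w01 0))⁻¹⁆ ∈ R.W := by
  set w := R.A.ρ (w01 0) with hw
  set t := R.A.ρ (h01 0 R.ω⁻¹) with ht
  have htT : t ∈ R.A.TP := R.h01_TP _
  have e : w * R.A.cc 1 1 (C.σ R.ω) * w⁻¹ = ⁅R.u1, t * R.u1 * t⁻¹⁆ := by
    rw [hdef, ht, ← R.A.w_h01 R.ω]
    show w * _ * w⁻¹ = ⁅w * R.u * w⁻¹, w * R.A.ρ (h01 0 R.ω) * w⁻¹ * (w * R.u * w⁻¹) *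
      (w * R.A.ρ (h01 0 R.ω) * w⁻¹)⁻¹⁆
    simp only [commutatorElement_def]; group
  have hK : t * R.u1 * t⁻¹ ∈ R.K1 := R.K1_TP htT R.u1_K1
  refine ⟨?_, fun x hx => ?_⟩
  · have c1 : Commute (R.A.cc 1 1 (C.σ R.ω)) R.u1 := R.z0u1
    have c2 : Commute (R.A.cc 1 1 (C.σ R.ω)) (t * R.u1 * t⁻¹) := by
      have hm : R.A.cc 1 1 (C.σ R.ω) ∈ R.Z := R.A.cc_mem zero_ne_one'.symm 1 _
      have hz : t⁻¹ * R.A.cc 1 1 (C.σ R.ω) * t ∈ R.Z := by
        have := (R.cnj_Z (inv_mem htT)).le (conj_mem_cnj (n := t⁻¹) hm)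
        rwa [inv_inv] at this
      have := commute_conj t (R.Z_u1 hz)
      rwa [show t * (t⁻¹ * R.A.cc 1 1 (C.σ R.ω) * t) * t⁻¹ = R.A.cc 1 1 (C.σ R.ω) by group] at this
    rw [e, commutatorElement_def]
    exact ((c1.mul_right c2).mul_right c1.inv_right).mul_right c2.inv_right
  · rw [e]
    have hmem : ⁅R.u1, t * R.u1 * t⁻¹⁆ ∈ R.K1 := by
      rw [commutatorElement_def]
      exact mul_mem (mul_mem (mul_mem R.u1_K1 hK) (inv_mem R.u1_K1)) (inv_mem hK)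
    exact hmem.2 x hx

end CfsgLib.SUPres
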