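import Cfsg.Agent.SUPres.TwoFinal

/-!
# The relations for two indices hold in the special unitary group
-/

set_option autoImplicit false
set_option linter.unusedSectionVars false
set_option linter.unusedSimpArgs false

namespace CfsgLib.SUPres

open Matrix CfsgLib.RepBounds.Unit CfsgLib.SUThreeUnipotent CfsgLib.SUTwoGen CfsgLib.SL2Pres CfsgLib.SLnPres
open CfsgLib.SpnPres (IsMon)
open scoped commutatorElement

variable {F : Type*} [Field F] [Fintype F] {C : ConjField F} {ι : Type*} [Fintype ι] [DecidableEq ι] {k : ℕ}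

theorem commutator_pq {Φ : PFrame C (k + 2) ι} {a γ : F} (hv : QV Φ a γ) (r : F) :
    ⁅pEl Φ (.inl 0) (.inr 1) r, qEl Φ (.inl 1) a γ⁆ =
      qEl Φ (.inl 0) (-r * a) (γ * (r * C.σ r)) * pEl Φ (.inl 0) (.inl 1) (-γ * r) := by
  have h01 : (0 : Fin (k + 2)) ≠ 1 := zero_ne_one'
  have hxm : (Sum.inr 1 : SI (k + 2)) ≠ (Sum.inl 0 : SI (k + 2)).swap := by simp [h01.symm]
  have hpp : (Sum.inl 1 : SI (k + 2)) ≠ (Sum.inl 0 : SI (k + 2)).swap := by simp
  have hv0 : QV Φ (-r * a) (γ * (r * C.σ r)) := by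
    have := hv.scale1 (-C.σ r)
    simpa [C.invol, mul_comm, mul_assoc] using this
  set x := pEl Φ (.inl 0) (.inr 1) r with hx
  set Q0 := qEl Φ (.inl 0) (-r * a) (γ * (r * C.σ r)) with hQ0
  set Q1 := qEl Φ (.inl 1) a γ with hQ1
  set P := pEl Φ (.inl 0) (.inl 1) (-γ * r) with hP
  have key : x * Q1 * x⁻¹ = Q0 * P * Q1 := by
    have hE := ((isE_qEl (Φ := Φ) (c := .inl 1) hv).conj x)
    refine suG_ext C fun y => ?_
    rw [hE y]
    simp only [hx, hQ0, hQ1, hP, app_pEl hxm, app_mul, app_qEl hv0, app_qEl hv, app_pEl hpp, herm_add_left,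
      herm_sub_left, herm_add_right, herm_sub_right, herm_smul_left, herm_smul_right, herm_vv, Φ.vx, Φ.xv,
      Sum.swap_inl, Sum.swap_inr, reduceCtorEq, if_false, Sum.inl.injEq, Sum.inr.injEq, h01, h01.symm, if_true,
      mul_zero, mul_one, add_zero, sub_zero, zero_add, zero_mul, map_neg, map_one, map_zero, map_mul, map_sub, map_add,
      σ_eps, C.invol, smul_zero, smul_sub, smul_add, smul_smul, zero_smul, smul_neg,
      show herm C Φ.x0 Φ.x0 = eps Φ from rfl]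
    unfold QV at hv
    match_scalars <;> grind [eps_sq Φ]
  rw [commutatorElement_def, key, mul_inv_cancel_right]

theorem commutator_qq {Φ : PFrame C (k + 2) ι} {a γ a' γ' : F} (h : QV Φ a γ) (h' : QV Φ a' γ') :
    ⁅qEl Φ (.inl 0) a γ, qEl Φ (.inl 1) a' γ'⁆ = pEl Φ (.inl 0) (.inl 1) (a * C.σ a' * eps Φ) := by
  have h01 : (0 : Fin (k + 2)) ≠ 1 := zero_ne_one'
  have hpp : (Sum.inl 1 : SI (k + 2)) ≠ (Sum.inl 0 : SI (k + 2)).swap := by simp
  set Q0 := qEl Φ (.inl 0) a γ with hQ0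
  set Q1 := qEl Φ (.inl 1) a' γ' with hQ1
  have key : Q0 * Q1 * Q0⁻¹ = pEl Φ (.inl 0) (.inl 1) (a * C.σ a' * eps Φ) * Q1 := by
    have hE := ((isE_qEl (Φ := Φ) (c := .inl 1) h').conj Q0)
    refine suG_ext C fun y => ?_
    rw [hE y]
    simp only [app_mul, hQ0, hQ1, app_qEl h, app_qEl h', app_pEl hpp, herm_add_left, herm_sub_left,
      herm_add_right, herm_sub_right, herm_smul_left, herm_smul_right, herm_vv, Φ.vx, Φ.xv, Sum.swap_inl,
      Sum.swap_inr, reduceCtorEq, if_false, Sum.inl.injEq, Sum.inr.injEq, h01, h01.symm, if_true, mul_zero, mul_one,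
      add_zero, sub_zero, zero_add, zero_mul, map_neg, map_one, map_zero, map_mul, map_sub, map_add, σ_eps, C.invol,
      smul_zero, smul_sub, smul_add, smul_smul, zero_smul, smul_neg, show herm C Φ.x0 Φ.x0 = eps Φ from rfl]
    match_scalars <;> grind [eps_sq Φ]
  rw [commutatorElement_def, key, mul_inv_cancel_right]

theorem conj_w_qEl {Φ : PFrame C (k + 2) ι} {a γ : F} (h : QV Φ a γ) :
    lev Φ (w01 k) * qEl Φ (.inl 0) a γ * (lev Φ (w01 k))⁻¹ = qEl Φ (.inl 1) (-a) γ ∧ QV Φ (-a) γ := by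
  constructor
  · rw [conj_qEl' (isMono_lev (w01_mon (F := F) (k := k))) lev_w01_inl h]
    simp
  · unfold QV at *
    simpa using h

theorem commutator_short {Φ : PFrame C (k + 2) ι} {γ : F} (hv : QV Φ (eps Φ) γ) (b : F) :
    ⁅qEl Φ (.inl 0) (eps Φ) γ, qEl Φ (.inl 0) (b * eps Φ) (γ * (b * C.σ b))⁆ =
      qEl Φ (.inl 0) 0 ((C.σ b - b) * eps Φ) := by
  have hB : QV Φ (b * eps Φ) (γ * (b * C.σ b)) := by
    have := hv.scale1 (C.σ b)
    simpa [C.invol, mul_comm, mul_assoc] using this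
  have hz : QV Φ 0 ((C.σ b - b) * eps Φ) := qv_zero_iff.2 (by rw [map_mul, map_sub, C.invol, σ_eps]; ring)
  rw [commutatorElement_def, mul_assoc _ (qEl Φ _ _ _)⁻¹, ← _root_.mul_inv_rev, qEl_mul hv hB, qEl_mul hB hv,
    mul_inv_eq_iff_eq_mul, qEl_mul hz (hB.mul hv)]
  congr 1
  · ring
  · rw [map_mul, σ_eps]
    simp only [map_zero, mul_zero, zero_mul, sub_zero]
    linear_combination ((C.σ b - b) * (eps Φ + 1)) * eps_sq Φ

/-- Commuting monomial elements. -/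
theorem commute_diag {m : ℕ} {Φ : PFrame C m ι} {g h : suG C ι} (hg : IsMono Φ g) (hh : IsMono Φ h) (a b : Fin m → F)
    (eg : ∀ j, app C g (Φ.v (.inl j)) = a j • Φ.v (.inl j))
    (eh : ∀ j, app C h (Φ.v (.inl j)) = b j • Φ.v (.inl j)) : Commute g h := by
  refine commutatorElement_eq_one_iff_commute.1 (mono_eq_one (((hg.mul hh).mul hg.inv).mul hh.inv) fun j => ?_)
  have ei : ∀ {x : suG C ι} {s : F}, app C x (Φ.v (.inl j)) = s • Φ.v (.inl j) →
      app C x⁻¹ (Φ.v (.inl j)) = s⁻¹ • Φ.v (.inl j) := fun {x s} e => app_inv_eq C (by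
    rw [app_smul, e, smul_smul, inv_mul_cancel₀ (scalar_ne e), one_smul])
  rw [commutatorElement_def, app_mul, app_mul, app_mul, ei (eh j), app_smul, ei (eg j)]
  simp only [app_smul, eh, eg, smul_smul]
  conv_rhs => rw [← one_smul F (Φ.v (.inl j))]
  congr 1
  have := scalar_ne (eg j)
  have := scalar_ne (eh j)
  field_simp

section Two

variable {Φ : PFrame C (0 + 2) ι} {c : F} (hc : C.σ c = -c) (hc0 : c ≠ 0)

/-- The second torus in the target. -/
noncomputable def kkT (Φ : PFrame C (0 + 2) ι) (c : F) (a : Fˣ) : suG C ι :=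
  flipEl Φ c 0 * lev Φ (h01 0 a) * (flipEl Φ c 0)⁻¹

include hc hc0 in
theorem kkT_spec (a : Fˣ) : IsMono Φ (kkT Φ c a) ∧
    app C (kkT Φ c a) (Φ.v (.inl 0)) = (C.σ (a : F))⁻¹ • Φ.v (.inl 0) ∧
    app C (kkT Φ c a) (Φ.v (.inl 1)) = ((a⁻¹ : Fˣ) : F) • Φ.v (.inl 1) ∧
    app C (kkT Φ c a) (Φ.v (.inr 1)) = C.σ (a : F) • Φ.v (.inr 1) := by
  obtain ⟨f1, f2, f3, -⟩ := flipEl_spec (Φ := Φ) hc hc0 0
  have hf := isMono_flipEl (Φ := Φ) hc hc0 0
  refine ⟨(hf.mul (isMono_lev (h01_mon a))).mul hf.inv, ?_, ?_, ?_⟩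
  · have e : app C (flipEl Φ c 0)⁻¹ (Φ.v (.inl 0)) = (-c) • Φ.v (.inr 0) := app_inv_eq C (by
      rw [app_smul, f2, smul_smul, neg_mul_neg, mul_inv_cancel₀ hc0, one_smul])
    rw [kkT, app_mul, app_mul, e, app_smul, lev_mon_inr (h01_mon a), app_smul, app_smul]
    simp only [Equiv.Perm.one_apply, if_true]
    rw [f2, smul_smul, smul_smul]
    congr 1
    field_simp
  · have z : ix (Sum.inl 1 : SI (0 + 2)) ≠ 0 := zero_ne_one'.symm
    rw [kkT, app_mul, app_mul, app_inv_eq C (f3 _ z), lev_mon_inl (h01_mon a), app_smul]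
    simp only [Equiv.Perm.one_apply]
    rw [f3 _ z]
    simp
  · have z : ix (Sum.inr 1 : SI (0 + 2)) ≠ 0 := zero_ne_one'.symm
    rw [kkT, app_mul, app_mul, app_inv_eq C (f3 _ z), lev_mon_inr (h01_mon a), app_smul]
    simp only [Equiv.Perm.one_apply]
    rw [f3 _ z]
    simp [map_inv₀]

include hc hc0 in
theorem kkT_comm (a b : Fˣ) : Commute (lev Φ (h01 0 b)) (kkT Φ c a) := by
  obtain ⟨hk, k0, k1, -⟩ := kkT_spec (Φ := Φ) hc hc0 a
  refine commute_diag (isMono_lev (h01_mon b)) hk (fun j => if j = 0 then (b : F) else ((b⁻¹ : Fˣ) : F))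
    (fun j => if j = 0 then (C.σ (a : F))⁻¹ else ((a⁻¹ : Fˣ) : F)) (fun j => ?_) (fun j => ?_)
  · rw [lev_mon_inl (h01_mon b)]
    rcases fin_two_cases j with rfl | rfl <;> simp
  · rcases fin_two_cases j with rfl | rfl
    · rw [k0, if_pos rfl]
    · rw [k1, if_neg zero_ne_one'.symm]

include hc hc0 in
theorem kkT_tv (a : Fˣ) (t : F) :
    kkT Φ c a * lev Φ (tv 0 1 t) * (kkT Φ c a)⁻¹ = lev Φ (tv 0 1 ((a : F) / C.σ a * t)) := by
  obtain ⟨-, k0, -, k1⟩ := kkT_spec (Φ := Φ) hc hc0 a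
  rw [lev_tv zero_ne_one', conj_pEl k1 k0 (by simp) t, lev_tv zero_ne_one', C.invol, div_eq_mul_inv]

/-- The part of the torus fixing `+0`, in the target. -/
noncomputable def ddT (Φ : PFrame C (0 + 2) ι) (c : F) (a : Fˣ) : suG C ι :=
  lev Φ (h01 0 (Units.map (C.σ : F →* F) a)) * kkT Φ c a

include hc hc0 in
theorem ddT_spec (a : Fˣ) : app C (ddT Φ c a) (Φ.v (.inl 0)) = Φ.v (.inl 0) ∧ app C (ddT Φ c a) Φ.x0 = Φ.x0 := by
  obtain ⟨hk, k0, -, -⟩ := kkT_spec (Φ := Φ) hc hc0 a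
  refine ⟨?_, ((isMono_lev (h01_mon _)).mul hk).2⟩
  rw [ddT, app_mul, k0, app_smul, lev_mon_inl (h01_mon _), smul_smul]
  simp only [Equiv.Perm.one_apply, if_true]
  rw [show ((Units.map (C.σ : F →* F) a : Fˣ) : F) = C.σ (a : F) from rfl,
    inv_mul_cancel₀ ((map_ne_zero C.σ).2 a.ne_zero), one_smul]

/-- A short element in the target, with parameter `a`. -/
theorem short_T {γ : F} (hv : QV Φ (eps Φ) γ) (l : Fˣ) :
    QV Φ (C.σ l * eps Φ) (γ * ((l : F) * C.σ l)) ∧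
    lev Φ (h01 0 l) * qEl Φ (.inl 0) (eps Φ) γ * (lev Φ (h01 0 l))⁻¹ =
      qEl Φ (.inl 0) (C.σ l * eps Φ) (γ * ((l : F) * C.σ l)) :=
  ⟨hv.scale1 _, conj_torus_q l hv⟩

end Two

end CfsgLib.SUPres
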