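import Cfsg.Agent.SUPres.TwoZ

/-!
# The short elements, two indices
-/

set_option autoImplicit false
set_option linter.unusedSectionVars false
set_option linter.unusedSimpArgs false
set_option linter.unusedVariables false

namespace CfsgLib.SUPres

open Matrix CfsgLib.RepBounds.Unit CfsgLib.SUThreeUnipotent CfsgLib.SUTwoGen CfsgLib.SL2Pres CfsgLib.SLnPres
open CfsgLib.SpnPres (IsMon)
open scoped commutatorElement

variable {F : Type*} [Field F] [Fintype F] {C : ConjField F} {ι : Type*} [Fintype ι] [DecidableEq ι]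

section BaseU
variable {Φ : PFrame C (0 + 2) ι} {G : Type*} [Group G] (A : Base Φ G)

open Classical in
/-- The short element with parameter `a`. -/
noncomputable def Base.Uel (u : G) (a : F) : G :=
  if h : a = 0 then 1
  else A.ρ (h01 0 (Units.mk0 (C.σ a) ((map_ne_zero C.σ).2 h))) * u *
    (A.ρ (h01 0 (Units.mk0 (C.σ a) ((map_ne_zero C.σ).2 h))))⁻¹

theorem Base.Uel_zero (u : G) : A.Uel u 0 = 1 := by rw [Base.Uel, dif_pos rfl]

theorem Base.Uel_of_unit (u : G) (l : Fˣ) :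
    A.Uel u (C.σ l) = A.ρ (h01 0 l) * u * (A.ρ (h01 0 l))⁻¹ := by
  rw [Base.Uel, dif_neg ((map_ne_zero C.σ).2 l.ne_zero)]
  have e : Units.mk0 (C.σ (C.σ (l : F))) ((map_ne_zero C.σ).2 ((map_ne_zero C.σ).2 l.ne_zero)) = l :=
    Units.ext (C.invol _)
  simp only [e]

/-- The short element at `1`. -/
def Base.uone (u : G) : G := A.ρ (w01 0) * u * (A.ρ (w01 0))⁻¹

theorem Base.w_h01 (l : Fˣ) :
    A.ρ (w01 0) * A.ρ (h01 0 l) * (A.ρ (w01 0))⁻¹ = A.ρ (h01 0 l⁻¹) := by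
  rw [← map_inv, ← map_mul, ← map_mul]
  congr 1
  show CfsgLib.DnPres.eA 0 1 wW * CfsgLib.DnPres.eA 0 1 (hD l) * (CfsgLib.DnPres.eA 0 1 wW)⁻¹ =
    CfsgLib.DnPres.eA 0 1 (hD l⁻¹)
  rw [← map_inv, ← map_mul, ← map_mul]
  congr 1
  rw [← CfsgLib.DnPres.tS_apply, CfsgLib.DnPres.tS_hD]

theorem Base.w_sq : A.ρ (w01 0) * A.ρ (w01 0) = A.ρ (h01 0 (-1)) := by
  rw [← map_mul]
  congr 1
  exact CfsgLib.DnPres.eA_wW_sq 0 1

end BaseU

/-- The relations of the short elements. -/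
structure U2 (Φ : PFrame C (0 + 2) ι) (G : Type*) [Group G] extends Z2 Φ G where
  u : G
  γ1 : F
  hv1 : QV Φ (eps Φ) γ1
  hφu : φ u = qEl Φ (.inl 0) (eps Φ) γ1
  hu0 : eps Φ = 0 → u = 1
  u_x1 : Commute u (toBase.el (.inr 1) 1)
  u_xb : Commute u (toBase.el (.inr 1) (C.σ ω))
  u_q : Commute u toBase.p1
  u_D : Commute u (toBase.dd ω)
  r9 : ⁅toBase.el (.inr 1) 1, toBase.uone u⁆⁻¹ * u ∈ toBase.XP (.inl 0) (.inl 1)
  r9' : ⁅toBase.el (.inr 1) (C.σ ω), toBase.uone u⁆⁻¹ * (ρ (h01 0 ω) * u * (ρ (h01 0 ω))⁻¹) ∈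
    toBase.XP (.inl 0) (.inl 1)
  sq : ∃ f g : F, C.σ f = f ∧ C.σ g = g ∧ ∃ z ∈ toBase.Zs 1,
    toBase.Uel u (C.σ ω * C.σ ω) = toBase.Uel u f * toBase.Uel u (g * C.σ ω) * z
  uu : ⁅u, toBase.uone u⁆ ∈ toBase.XP (.inl 0) (.inl 1)
  uu' : ⁅ρ (h01 0 ω) * u * (ρ (h01 0 ω))⁻¹, toBase.uone u⁆ ∈ toBase.XP (.inl 0) (.inl 1)
  z0u1 : Commute (toBase.cc 1 1 (C.σ ω)) (toBase.uone u)
  r8 : ∃ z ∈ toBase.Zs 1, p = p * z * p⁻¹ * z * (p * z * p⁻¹)

namespace U2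

variable {Φ : PFrame C (0 + 2) ι} {G : Type*} [Group G] (R : U2 Φ G)

/-- The monomial data. -/
abbrev A : Base Φ G := R.toBase

/-- The second basis vector. -/
abbrev b : F := R.toZ2.b

/-- The long root group. -/
abbrev Z : Subgroup G := R.toZ2.Z

/-- The short element. -/
noncomputable abbrev U (a : F) : G := R.A.Uel R.u a

/-- The short element at `1`. -/
abbrev u1 : G := R.A.uone R.u

/-- The root group of `+0, +1`. -/
def P : Subgroup G := R.A.XP (.inl 0) (.inl 1)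

theorem U_one : R.U 1 = R.u := by
  have h := R.A.Uel_of_unit R.u 1
  rw [Units.val_one, map_one, map_one, map_one] at h
  simpa using h

theorem U_ne {a : F} (ha : a ≠ 0) :
    ∃ l : Fˣ, (l : F) = C.σ a ∧ R.U a = R.A.ρ (h01 0 l) * R.u * (R.A.ρ (h01 0 l))⁻¹ :=
  ⟨_, rfl, by rw [U, Base.Uel, dif_neg ha]⟩

theorem U_cases (a : F) : R.U a = 1 ∨
    ∃ l : Fˣ, R.U a = R.A.ρ (h01 0 l) * R.u * (R.A.ρ (h01 0 l))⁻¹ := by
  by_cases h : a = 0
  · left; rw [h]; exact R.A.Uel_zero _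
  · obtain ⟨l, -, e⟩ := R.U_ne h; exact Or.inr ⟨l, e⟩

theorem h01_TP (l : Fˣ) : R.A.ρ (h01 0 l) ∈ R.A.TP := R.A.ρ_mem_TP (h01_mem l)

theorem u_el {d : SI (0 + 2)} (hd : ix d ≠ 0) {x : G} (hx : x ∈ R.A.XP (.inl 0) d) : Commute R.u x :=
  R.A.commute_XP_of R.toZ2.hb R.hgen R.u_x1 R.u_xb R.u_q R.u_D hd hx

theorem u_cen : R.toZ2.Cen R.u := fun _ hd _ hx => R.u_el hd hx

theorem U_el {d : SI (0 + 2)} (hd : ix d ≠ 0) {x : G} (hx : x ∈ R.A.XP (.inl 0) d) (a : F) :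
    Commute (R.U a) x := by
  rcases R.U_cases a with e | ⟨l, e⟩ <;> rw [e]
  · exact Commute.one_left _
  · exact R.toZ2.cen_conj (R.h01_TP l) R.u_cen d hd x hx

theorem commute_Z_of {x : G} (h : R.toZ2.Cen x) {z : G} (hz : z ∈ R.Z) : Commute x z :=
  (Subgroup.mem_centralizer_singleton_iff.1 ((Subgroup.commutator_le.2 fun a ha c hc => by
    have c1 := h (.inr 1) zero_ne_one'.symm a ha
    have c2 := h (.inl 1) zero_ne_one'.symm c hc
    rw [Subgroup.mem_centralizer_singleton_iff, commutatorElement_def]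
    exact (((c1.mul_right c2).mul_right c1.inv_right).mul_right c2.inv_right).eq.symm :
    R.A.Zs 1 ≤ Subgroup.centralizer {x}) hz)).symm

theorem U_Z {z : G} (hz : z ∈ R.Z) (a : F) : Commute (R.U a) z :=
  R.commute_Z_of (fun _ hd _ hx => R.U_el hd hx a) hz

theorem dd_u (a : Fˣ) : Commute (R.A.dd a) R.u := by
  obtain ⟨j, hj⟩ := R.hgen a a.ne_zero
  rw [show a = R.ω ^ j from Units.ext (by rw [Units.val_pow_eq_pow_val, hj]), map_pow]
  exact (R.u_D.symm).pow_left j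

theorem dd_U (a : Fˣ) (r : F) : Commute (R.A.dd a) (R.U r) := by
  rcases R.U_cases r with e | ⟨l, e⟩ <;> rw [e]
  · exact Commute.one_right _
  · have h1 := R.A.TP_comm (R.A.dd_mem a) (R.h01_TP l)
    exact (h1.mul_right (R.dd_u a)).mul_right h1.inv_right

theorem h01_U (l : Fˣ) (a : F) : R.A.ρ (h01 0 l) * R.U a * (R.A.ρ (h01 0 l))⁻¹ = R.U (C.σ l * a) := by
  by_cases ha : a = 0
  · rw [ha, mul_zero]; simp [U, Base.Uel_zero]
  obtain ⟨m, hm, e⟩ := R.U_ne ha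
  have h2 : C.σ (l : F) * a = C.σ ((l * m : Fˣ) : F) := by rw [Units.val_mul, map_mul, hm, C.invol]
  rw [h2, e, U, R.A.Uel_of_unit, map_mul, map_mul]
  group

theorem conj_U {t : G} (ht : t ∈ R.A.TP) {l : F} (hl : app C (R.φ t) (Φ.v (.inl 0)) = l • Φ.v (.inl 0)) (a : F) :
    t * R.U a * t⁻¹ = R.U (C.σ l * a) := by
  obtain ⟨m, rfl, c, rfl⟩ := R.A.torus_split ht hl
  rw [show R.A.ρ (h01 0 m) * R.A.dd c * R.U a * (R.A.ρ (h01 0 m) * R.A.dd c)⁻¹ =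
    R.A.ρ (h01 0 m) * (R.A.dd c * R.U a * (R.A.dd c)⁻¹) * (R.A.ρ (h01 0 m))⁻¹ by group, (R.dd_U c a).eq,
    mul_inv_cancel_right, R.h01_U]

theorem mv_w (d : SI (0 + 2)) :
    Mv Φ (R.A.φ (R.A.ρ (w01 0))) d (Sum.map (Equiv.swap 0 1) (Equiv.swap 0 1) d) :=
  R.A.mv_ρ w01_mon d

theorem p1_fix : Mv Φ (R.φ R.A.p1) (.inl 0) (.inl 0) ∧
    app C (R.A.φ R.A.p1) (Φ.v (.inl 0)) = Φ.v (.inl 0) := by
  have hp : R.A.φ R.A.p1 = qT Φ R.c := by
    show R.A.φ (R.A.ρ (w01 0) * R.A.p * (R.A.ρ (w01 0))⁻¹) = _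
    rw [map_mul, map_mul, map_inv, R.A.hφρ, R.A.hφp, qT]
  have e : app C (R.A.φ R.A.p1) (Φ.v (.inl 0)) = Φ.v (.inl 0) := by
    rw [hp]; exact qT_fix R.hc R.hc0 (d := .inl 0) zero_ne_one'
  exact ⟨Mv.intro (a := 1) (by rw [one_smul]; exact e), e⟩

theorem q_U (a : F) : Commute R.A.p1 (R.U a) := by
  rcases R.U_cases a with e | ⟨l, e⟩
  · rw [e]; exact Commute.one_right _
  have hn : R.A.p1 ∈ Subgroup.normalizer (R.A.TP : Set G) :=
    mul_mem (mul_mem (R.A.ρ_normalizer w01_mem) R.A.p_normalizer) (inv_mem (R.A.ρ_normalizer w01_mem))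
  set t := R.A.p1 * R.A.ρ (h01 0 l) * R.A.p1⁻¹ with ht
  have htT : t ∈ R.A.TP := (Subgroup.mem_normalizer_iff.1 hn _).1 (R.h01_TP l)
  have hl : app C (R.φ t) (Φ.v (.inl 0)) = (l : F) • Φ.v (.inl 0) := by
    show app C (R.A.φ t) _ = _
    rw [ht, map_mul, map_mul, map_inv, app_mul, app_mul, app_inv_eq C R.p1_fix.2, (R.A.app_h01 l).1, app_smul,
      R.p1_fix.2]
  have e2 : R.A.p1 * R.U a * R.A.p1⁻¹ = t * R.u * t⁻¹ := by
    rw [e, ht]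
    calc _ = R.A.p1 * R.A.ρ (h01 0 l) * R.A.p1⁻¹ * (R.A.p1 * R.u * R.A.p1⁻¹) *
          (R.A.p1 * R.A.ρ (h01 0 l) * R.A.p1⁻¹)⁻¹ := by group
      _ = _ := by rw [show R.A.p1 * R.u = R.u * R.A.p1 from R.u_q.symm.eq, mul_inv_cancel_right]
  rw [← R.U_one, R.conj_U htT hl, mul_one, show R.U (C.σ (l : F)) = _ from R.A.Uel_of_unit R.u l, ← e] at e2
  exact mul_inv_eq_iff_eq_mul.1 e2

theorem U_img (a : F) : QV Φ (a * eps Φ) (R.γ1 * (a * C.σ a)) ∧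
    R.φ (R.U a) = qEl Φ (.inl 0) (a * eps Φ) (R.γ1 * (a * C.σ a)) := by
  have hv : QV Φ (a * eps Φ) (R.γ1 * (a * C.σ a)) := by
    have := R.hv1.scale1 (C.σ a)
    simpa [C.invol, mul_comm, mul_assoc] using this
  refine ⟨hv, ?_⟩
  by_cases ha : a = 0
  · subst ha
    show R.φ (R.A.Uel R.u 0) = _
    rw [R.A.Uel_zero, map_one]; simp [qEl_zero]
  · obtain ⟨l, hl, e⟩ := R.U_ne ha
    rw [e, map_mul, map_mul, map_inv, R.hφu, show R.φ (R.A.ρ (h01 0 l)) = lev Φ (h01 0 l) from R.A.hφρ _,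
      conj_torus_q l R.hv1, hl, C.invol]
    congr 1
    ring

theorem U_eps (h : eps Φ = 0) (a : F) : R.U a = 1 := by
  rcases R.U_cases a with e | ⟨l, e⟩
  · exact e
  · rw [e, R.hu0 h, mul_one, mul_inv_cancel]

theorem P_Z {w z : G} (hw : w ∈ R.P) (hz : z ∈ R.Z) : Commute w z :=
  (R.toZ2.Z_cen hz (.inl 1) zero_ne_one'.symm w hw).symm

theorem P_U {w : G} (hw : w ∈ R.P) (a : F) : Commute (R.U a) w := R.U_el (d := .inl 1) zero_ne_one'.symm hw a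

theorem P_comm {w w' : G} (hw : w ∈ R.P) (hw' : w' ∈ R.P) : Commute w w' := by
  have hz : ix (Sum.inl 1 : SI (0 + 2)) ≠ 0 := zero_ne_one'.symm
  obtain ⟨r, rfl⟩ := R.A.el_surj hz hw
  obtain ⟨s, rfl⟩ := R.A.el_surj hz hw'
  rw [Commute, SemiconjBy, ← R.A.el_add hz, ← R.A.el_add hz]
  exact congrArg (R.A.el _) (add_comm r s)

theorem ZP_inj : InjOn' R.φ (R.Z ⊔ R.P) := by
  refine injOn_sup (normalizer_of_commutator_le (Subgroup.commutator_le.2 fun a ha c hc => ?_))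
    R.toZ2.Z_inj (fun _ hx h => R.A.XP_inj hx h) fun a ha c hc e => ?_
  · rw [commutatorElement_eq_one_iff_commute.2 (R.P_Z hc ha).symm]
    exact one_mem _
  · obtain ⟨γ, hv, ea⟩ := R.toZ2.Z_image.1 a ha
    obtain ⟨r, er⟩ := (R.A.XP_image (c := .inl 0) (d := .inl 1) zero_ne_one').1 c hc
    rw [e]
    exact er.trans (pEl_ne_qEl (c := .inl 0) (e := .inl 1) zero_ne_one' hv (er.symm.trans (e.symm.trans ea)))

theorem mem_Z_of_W0 {x : G} (hx : x ∈ R.Z ⊔ R.P) {γ : F} (hv : QV Φ 0 γ)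
    (h : R.φ x = qEl Φ (.inl 0) 0 γ) : x ∈ R.Z := by
  obtain ⟨z, hz, ez⟩ := R.toZ2.Z_image.2 γ hv
  exact R.ZP_inj.mem le_sup_left hx ⟨z, hz, by rw [h]; exact ez⟩

/-- The torus element with eigenvalues `f` and `1`. -/
theorem exists_stab {f : F} (hf : C.σ f = f) (h0 : f ≠ 0) : ∃ t ∈ R.A.TP,
    app C (R.φ t) (Φ.v (.inl 0)) = f • Φ.v (.inl 0) ∧ Commute t R.u1 ∧
    (∀ r, t * R.A.el (.inr 1) r * t⁻¹ = R.A.el (.inr 1) (f * r)) ∧
    (∀ r s, t * R.A.cc 1 r s * t⁻¹ = R.A.cc 1 (f * r) (f * s)) ∧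
    ∀ z ∈ R.Z, Commute t (R.A.ρ (w01 0) * z * (R.A.ρ (w01 0))⁻¹) := by
  obtain ⟨a, ha⟩ := exists_norm_eq C (f := f⁻¹) (by rw [map_inv₀, hf]) (inv_ne_zero h0)
  set l := Units.mk0 f h0 with hl
  set t := R.A.ρ (h01 0 l) * R.A.dd a with ht
  have htT : t ∈ R.A.TP := mul_mem (R.h01_TP l) (R.A.dd_mem a)
  have hel : (∀ r, t * R.A.el (.inr 1) r * t⁻¹ = R.A.el (.inr 1) (f * r)) ∧
      ∀ r, t * R.A.el (.inl 1) r * t⁻¹ = R.A.el (.inl 1) (f * r) := by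
    have key : ∀ x : G, t * x * t⁻¹ = R.A.ρ (h01 0 l) * (R.A.dd a * x * (R.A.dd a)⁻¹) * (R.A.ρ (h01 0 l))⁻¹ :=
      fun x => by rw [ht]; group
    refine ⟨fun r => ?_, fun r => ?_⟩
    · rw [key, (R.A.conj_el_dd a r).1, (R.A.conj_el_h01 _ _).1, ha, hl, Units.val_mk0, hf]
      congr 1; field_simp
    · rw [key, (R.A.conj_el_dd a r).2, (R.A.conj_el_h01 _ _).2, ha, hl, Units.val_mk0, hf]
      congr 1; field_simp
  have hfix : app C (R.φ t) (Φ.v (.inl 1)) = Φ.v (.inl 1) := by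
    show app C (R.A.φ t) _ = _
    rw [ht, map_mul, app_mul, Base.dd_apply, map_mul, app_mul, (R.A.app_kk a).2.1, app_smul, (R.A.app_h01 _).2.1,
      smul_smul, app_smul, (R.A.app_h01 l).2.1, smul_smul]
    conv_rhs => rw [← one_smul F (Φ.v (.inl 1))]
    congr 1
    rw [Units.val_inv_eq_inv_val, Units.val_inv_eq_inv_val, Units.val_inv_eq_inv_val,
      show ((Units.map (C.σ : F →* F) a : Fˣ) : F) = C.σ (a : F) from rfl, ← mul_inv, ha, inv_inv, hl, Units.val_mk0,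
      mul_inv_cancel₀ h0]
  set s := (R.A.ρ (w01 0))⁻¹ * t * R.A.ρ (w01 0) with hs
  have hsT : s ∈ R.A.TP := (Subgroup.mem_normalizer_iff''.1 (R.A.ρ_normalizer w01_mem) _).1 htT
  have hs0 : app C (R.φ s) (Φ.v (.inl 0)) = (1 : F) • Φ.v (.inl 0) := by
    show app C (R.A.φ s) _ = _
    rw [hs, map_mul, map_mul, map_inv, app_mul, app_mul, R.A.hφρ, lev_w01_inl, app_smul]
    show app C _ ((-1 : F) • app C (R.φ t) _) = _
    rw [hfix, one_smul]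
    refine app_inv_eq C ?_
    rw [lev_w01_inl]
  have hsu : Commute s R.u := by
    have := R.conj_U hsT hs0 1
    rw [map_one, one_mul, R.U_one] at this
    exact mul_inv_eq_iff_eq_mul.1 this
  have hsZ : ∀ z ∈ R.Z, Commute s z := fun z hz => by
    refine mul_inv_eq_iff_eq_mul.1 (R.toZ2.Z_inj.ext ?_ hz ?_)
    · have hm : Mv Φ (R.φ s) (.inl 0) (.inl 0) := Mv.intro hs0
      have hd : ∀ d, Mv Φ (R.A.φ s) d d := (R.A.TP_diag hsT).2
      have e : cnj s R.Z = R.Z := by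
        show cnj _ (R.A.Zs 1) = R.A.Zs 1
        rw [Base.Zs, cnj_commutator, R.A.cnj_XP (R.A.TP_le_N hsT) (hd _) (hd _),
          R.A.cnj_XP (R.A.TP_le_N hsT) (hd _) (hd _)]
      exact e.le (conj_mem_cnj hz)
    · obtain ⟨γ, hv, e⟩ := R.toZ2.Z_image.1 z hz
      rw [map_mul, map_mul, map_inv, e, conj_qEl0 (g := R.φ s) hs0 (R.A.TP_diag hsT).1.2 hv]
      simp
  have hts : t = R.A.ρ (w01 0) * s * (R.A.ρ (w01 0))⁻¹ := by rw [hs]; group
  refine ⟨t, htT, ?_, ?_, hel.1, fun r s' => by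
    rw [R.toZ2.conj_cc, hel.1, hel.2]; rfl, fun z hz => ?_⟩
  · show app C (R.A.φ t) _ = _
    rw [ht, map_mul, app_mul, R.A.app_dd, (R.A.app_h01 l).1]; rfl
  · rw [hts]; exact commute_conj _ hsu
  · rw [hts]; exact commute_conj _ (hsZ z hz)

/-- The commutator with `u1`. -/
noncomputable def E (r : F) : G := ⁅R.A.el (.inr 1) r, R.u1⁆

theorem good_line {a : F} (h : ∃ w ∈ R.P, R.E a = R.U a * w) {f : F} (hf : C.σ f = f) :
    ∃ w ∈ R.P, R.E (f * a) = R.U (f * a) * w := by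
  by_cases h0 : f = 0
  · refine ⟨1, one_mem _, ?_⟩
    rw [h0, zero_mul, E, R.A.el_zero (d := .inr 1) zero_ne_one'.symm]
    show ⁅(1 : G), _⁆ = R.A.Uel R.u 0 * 1
    rw [R.A.Uel_zero]; simp
  obtain ⟨w, hw, e⟩ := h
  obtain ⟨t, ht, hl, htu, hte, -, -⟩ := R.exists_stab hf h0
  have hd : ∀ d, Mv Φ (R.A.φ t) d d := (R.A.TP_diag ht).2
  refine ⟨t * w * t⁻¹, (R.A.cnj_XP (R.A.TP_le_N ht) (hd _) (hd _)).le (conj_mem_cnj hw), ?_⟩
  have e1 : t * R.E a * t⁻¹ = R.E (f * a) := by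
    rw [E, E, ← hte, show ∀ x y : G, t * ⁅x, y⁆ * t⁻¹ = ⁅t * x * t⁻¹, t * y * t⁻¹⁆ from
      fun x y => by simp only [commutatorElement_def]; group, htu.eq, mul_inv_cancel_right]
  have e2 := R.conj_U ht hl a
  rw [hf] at e2
  rw [← e1, e, ← e2]
  group

theorem good_fix {f : F} (hf : C.σ f = f) : ∃ w ∈ R.P, R.E f = R.U f * w := by
  have h : ∃ w ∈ R.P, R.E 1 = R.U 1 * w :=
    ⟨_, inv_mem R.r9, by rw [R.U_one, E]; group⟩
  simpa using R.good_line h hf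

theorem U_b : R.U R.b = R.ρ (h01 0 R.ω) * R.u * (R.ρ (h01 0 R.ω))⁻¹ := R.A.Uel_of_unit R.u R.ω

theorem good_b {g : F} (hg : C.σ g = g) : ∃ w ∈ R.P, R.E (g * R.b) = R.U (g * R.b) * w := by
  refine R.good_line ⟨_, inv_mem R.r9', ?_⟩ hg
  rw [U_b, E]
  show ⁅R.A.el (.inr 1) (C.σ (R.ω : F)), R.u1⁆ = _
  group

theorem E_add {r r' : F} (h : ∃ w ∈ R.P, R.E r = R.U r * w) (h' : ∃ w ∈ R.P, R.E r' = R.U r' * w) :
    ∃ y ∈ R.Z ⊔ R.P, R.E (r + r') = R.U r' * R.U r * y := by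
  obtain ⟨w, hw, e⟩ := h
  obtain ⟨w', hw', e'⟩ := h'
  set x := R.A.el (.inr 1) r
  have hx : x ∈ R.A.XP (.inl 0) (.inr 1) := R.A.el_mem (d := .inr 1) zero_ne_one'.symm r
  have hz : ⁅x, w'⁆ ∈ R.Z := Subgroup.commutator_mem_commutator hx hw'
  set z := ⁅x, w'⁆ with hzd
  refine ⟨z * w' * w, mul_mem (mul_mem (Subgroup.mem_sup_left hz) (Subgroup.mem_sup_right hw'))
    (Subgroup.mem_sup_right hw), ?_⟩
  have e1 : R.E (r + r') = x * R.E r' * x⁻¹ * R.E r := by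
    simp only [E, R.A.el_add (d := .inr 1) zero_ne_one'.symm, commutatorElement_def, x]; group
  rw [e1, e, e']
  calc x * (R.U r' * w') * x⁻¹ * (R.U r * w) = x * R.U r' * x⁻¹ * (z * w') * (R.U r * w) := by
        rw [hzd, commutatorElement_def]; group
    _ = R.U r' * ((z * w') * R.U r) * w := by
        rw [(R.U_el (d := .inr 1) zero_ne_one'.symm hx r').symm.eq, mul_inv_cancel_right]; group
    _ = _ := by rw [((R.U_Z hz r).mul_right (R.P_U hw' r)).eq.symm]; group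

theorem long_mem {x : G} (hx : x ∈ R.Z ⊔ R.P) (h : ∃ γ, QV Φ 0 γ ∧ R.φ x = qEl Φ (.inl 0) 0 γ) : x ∈ R.Z := by
  obtain ⟨γ, hv, e⟩ := h
  exact R.mem_Z_of_W0 hx hv e

theorem img3 (a c e : F) (he : e = a + c) : ∃ γ, QV Φ 0 γ ∧
    R.φ ((R.U e)⁻¹ * (R.U a * R.U c)) = qEl Φ (.inl 0) 0 γ := by
  obtain ⟨ha, ea⟩ := R.U_img a
  obtain ⟨hc, ec⟩ := R.U_img c
  obtain ⟨he', ee⟩ := R.U_img e
  have hq := he'.inv.mul (ha.mul hc)
  have e0 : -(e * eps Φ) + (a * eps Φ + c * eps Φ) = 0 := by rw [he]; ring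
  rw [e0] at hq
  refine ⟨_, hq, ?_⟩
  rw [map_mul, map_inv, map_mul, ea, ec, ee, qEl_inv he', qEl_mul ha hc, qEl_mul he'.inv (ha.mul hc), e0]

theorem fix_add {f f' : F} (hf : C.σ f = f) (hf' : C.σ f' = f') :
    (R.U (f + f'))⁻¹ * (R.U f * R.U f') ∈ R.Z := by
  obtain ⟨y, hy, e⟩ := R.E_add (R.good_fix hf') (R.good_fix hf)
  obtain ⟨w, hw, e'⟩ := R.good_fix (f := f' + f) (by rw [map_add, hf, hf'])
  rw [e', add_comm f' f] at e
  refine R.long_mem ?_ (R.img3 f f' (f + f') rfl)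
  have : (R.U (f + f'))⁻¹ * (R.U f * R.U f') = w * y⁻¹ := by
    rw [inv_mul_eq_iff_eq_mul, ← mul_assoc (R.U (f + f')), e, mul_inv_cancel_right]
  rw [this]
  exact mul_mem (Subgroup.mem_sup_right hw) (inv_mem hy)

theorem b_add {g g' : F} (hg : C.σ g = g) (hg' : C.σ g' = g') :
    (R.U (g * R.b + g' * R.b))⁻¹ * (R.U (g * R.b) * R.U (g' * R.b)) ∈ R.Z := by
  obtain ⟨y, hy, e⟩ := R.E_add (R.good_b hg') (R.good_b hg)
  obtain ⟨w, hw, e'⟩ := R.good_b (g := g' + g) (by rw [map_add, hg, hg'])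
  rw [add_mul] at e'
  rw [e', add_comm (g' * R.b)] at e
  refine R.long_mem ?_ (R.img3 _ _ _ rfl)
  have : (R.U (g * R.b + g' * R.b))⁻¹ * (R.U (g * R.b) * R.U (g' * R.b)) = w * y⁻¹ := by
    rw [inv_mul_eq_iff_eq_mul, ← mul_assoc (R.U (g * R.b + g' * R.b)), e, mul_inv_cancel_right]
  rw [this]
  exact mul_mem (Subgroup.mem_sup_right hw) (inv_mem hy)

theorem cross {f g : F} (hf : C.σ f = f) (hg : C.σ g = g) :
    (R.U f * R.U (g * R.b))⁻¹ * (R.U (g * R.b) * R.U f) ∈ R.Z := by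
  obtain ⟨y, hy, e⟩ := R.E_add (R.good_fix hf) (R.good_b hg)
  obtain ⟨y', hy', e'⟩ := R.E_add (R.good_b hg) (R.good_fix hf)
  rw [add_comm f] at e
  rw [e] at e'
  refine R.long_mem ?_ ?_
  · have : (R.U f * R.U (g * R.b))⁻¹ * (R.U (g * R.b) * R.U f) = y' * y⁻¹ := by
      rw [inv_mul_eq_iff_eq_mul, ← mul_assoc (R.U f * R.U (g * R.b)), ← e', mul_inv_cancel_right]
    rw [this]
    exact mul_mem hy' (inv_mem hy)
  · obtain ⟨ha, ea⟩ := R.U_img f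
    obtain ⟨hc, ec⟩ := R.U_img (g * R.b)
    have hq := (ha.mul hc).inv.mul (hc.mul ha)
    have e0 : -(f * eps Φ + g * R.b * eps Φ) + (g * R.b * eps Φ + f * eps Φ) = 0 := by ring
    rw [e0] at hq
    refine ⟨_, hq, ?_⟩
    rw [map_mul, map_inv, map_mul, map_mul, ea, ec, qEl_mul ha hc, qEl_mul hc ha, qEl_inv (ha.mul hc),
      qEl_mul (ha.mul hc).inv (hc.mul ha), e0]

theorem shift {a z : G} (hz : z ∈ R.Z) (c : F) : a * z * R.U c = a * R.U c * z := by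
  rw [mul_assoc, (R.U_Z hz c).eq.symm, ← mul_assoc]

/-- The root group of one index, in coordinates. -/
def Ys : Subgroup G where
  carrier := {x | ∃ f g, C.σ f = f ∧ C.σ g = g ∧ ∃ z ∈ R.Z, x = R.U f * R.U (g * R.b) * z}
  one_mem' := ⟨0, 0, map_zero _, map_zero _, 1, one_mem _, by
    rw [zero_mul]; show 1 = R.A.Uel R.u 0 * R.A.Uel R.u 0 * 1
    rw [R.A.Uel_zero]; simp⟩
  mul_mem' := by
    rintro _ _ ⟨f, g, hf, hg, z, hz, rfl⟩ ⟨f', g', hf', hg', z', hz', rfl⟩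
    have c := R.cross hf' hg
    set d := (R.U f' * R.U (g * R.b))⁻¹ * (R.U (g * R.b) * R.U f')
    have a := R.fix_add hf hf'
    set α := (R.U (f + f'))⁻¹ * (R.U f * R.U f')
    have β := R.b_add hg hg'
    set b' := (R.U (g * R.b + g' * R.b))⁻¹ * (R.U (g * R.b) * R.U (g' * R.b))
    refine ⟨f + f', g + g', by rw [map_add, hf, hf'], by rw [map_add, hg, hg'], b' * α * d * z * z',
      mul_mem (mul_mem (mul_mem (mul_mem β a) c) hz) hz', ?_⟩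
    rw [add_mul]
    calc R.U f * R.U (g * R.b) * z * (R.U f' * R.U (g' * R.b) * z')
        = R.U f * (R.U (g * R.b) * (z * R.U f')) * R.U (g' * R.b) * z' := by group
      _ = R.U f * (R.U (g * R.b) * R.U f') * (z * R.U (g' * R.b)) * z' := by
          rw [(R.U_Z hz f').eq.symm]; group
      _ = (R.U f * R.U f') * R.U (g * R.b) * (d * R.U (g' * R.b)) * z * z' := by
          rw [(R.U_Z hz (g' * R.b)).eq.symm]; simp only [d]; group
      _ = R.U (f + f') * (α * (R.U (g * R.b) * R.U (g' * R.b))) * d * z * z' := by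
          rw [(R.U_Z c (g' * R.b)).eq.symm]; simp only [α]; group
      _ = _ := by
          rw [(((R.U_Z a (g * R.b))).symm.mul_right ((R.U_Z a (g' * R.b))).symm).eq]; simp only [b']; group
  inv_mem' := by
    rintro _ ⟨f, g, hf, hg, z, hz, rfl⟩
    have a := R.fix_add (f' := -f) hf (by rw [map_neg, hf])
    have β := R.b_add (g' := -g) hg (by rw [map_neg, hg])
    rw [add_neg_cancel, show R.U 0 = 1 from R.A.Uel_zero _, inv_one, one_mul] at a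
    rw [← add_mul, add_neg_cancel, zero_mul, show R.U 0 = 1 from R.A.Uel_zero _, inv_one, one_mul] at β
    set α := R.U f * R.U (-f)
    set b' := R.U (g * R.b) * R.U (-g * R.b)
    have cd := R.cross (f := -f) (g := -g) (by rw [map_neg, hf]) (by rw [map_neg, hg])
    set d := (R.U (-f) * R.U (-g * R.b))⁻¹ * (R.U (-g * R.b) * R.U (-f))
    refine ⟨-f, -g, by rw [map_neg, hf], by rw [map_neg, hg], d * b'⁻¹ * α⁻¹ * z⁻¹,
      mul_mem (mul_mem (mul_mem cd (inv_mem β)) (inv_mem a)) (inv_mem hz), ?_⟩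
    have e1 : (R.U f)⁻¹ = R.U (-f) * α⁻¹ := by simp only [α]; group
    have e2 : (R.U (g * R.b))⁻¹ = R.U (-g * R.b) * b'⁻¹ := by simp only [b']; group
    calc (R.U f * R.U (g * R.b) * z)⁻¹ = z⁻¹ * ((R.U (g * R.b))⁻¹ * (R.U f)⁻¹) := by group
      _ = z⁻¹ * (R.U (-g * R.b) * (b'⁻¹ * R.U (-f)) * α⁻¹) := by rw [e1, e2]; group
      _ = (R.U (-g * R.b) * R.U (-f)) * b'⁻¹ * α⁻¹ * z⁻¹ := by
          rw [((R.U_Z β (-f)).inv_right).eq.symm]
          have hc : Commute z⁻¹ (R.U (-g * R.b) * (R.U (-f) * b'⁻¹) * α⁻¹) :=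
            (((R.U_Z hz _).inv_right.symm).mul_right (((R.U_Z hz _).inv_right.symm).mul_right
              ((R.toZ2.Z_comm (inv_mem hz) (inv_mem β))))).mul_right (R.toZ2.Z_comm (inv_mem hz) (inv_mem a))
          rw [hc.eq]; group
      _ = _ := by simp only [d]; group

theorem Z_le_Ys : R.Z ≤ R.Ys := fun z hz => ⟨0, 0, map_zero _, map_zero _, z, hz, by
  rw [zero_mul]; show z = R.A.Uel R.u 0 * R.A.Uel R.u 0 * z
  rw [R.A.Uel_zero]; simp⟩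

theorem U_fix_mem {f : F} (hf : C.σ f = f) : R.U f ∈ R.Ys :=
  ⟨f, 0, hf, map_zero _, 1, one_mem _, by rw [zero_mul, show R.U 0 = 1 from R.A.Uel_zero _]; simp⟩

theorem U_b_mem {g : F} (hg : C.σ g = g) : R.U (g * R.b) ∈ R.Ys :=
  ⟨0, g, map_zero _, hg, 1, one_mem _, by rw [show R.U 0 = 1 from R.A.Uel_zero _]; simp⟩

theorem cnj_Z {t : G} (ht : t ∈ R.A.TP) : cnj t R.Z = R.Z := by
  have hd : ∀ d, Mv Φ (R.A.φ t) d d := (R.A.TP_diag ht).2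
  show cnj t (R.A.Zs 1) = R.A.Zs 1
  rw [Base.Zs, cnj_commutator, R.A.cnj_XP (R.A.TP_le_N ht) (hd _) (hd _),
    R.A.cnj_XP (R.A.TP_le_N ht) (hd _) (hd _)]

theorem U_bb {g : F} (hg : C.σ g = g) : R.U (g * (R.b * R.b)) ∈ R.Ys := by
  by_cases h0 : g = 0
  · rw [h0, zero_mul, show R.U 0 = 1 from R.A.Uel_zero _]; exact one_mem _
  obtain ⟨f1, g1, hf1, hg1, z, hz, e⟩ := R.sq
  set t := R.A.ρ (h01 0 (Units.mk0 g h0))
  have e' : ∀ a, t * R.U a * t⁻¹ = R.U (g * a) := fun a => by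
    rw [R.h01_U, Units.val_mk0, hg]
  have h := e' (R.b * R.b)
  rw [show R.U (R.b * R.b) = R.U f1 * R.U (g1 * R.b) * z from e] at h
  rw [← h, show t * (R.U f1 * R.U (g1 * R.b) * z) * t⁻¹ =
    (t * R.U f1 * t⁻¹) * (t * R.U (g1 * R.b) * t⁻¹) * (t * z * t⁻¹) by group, e', e']
  refine mul_mem (mul_mem (R.U_fix_mem (by rw [map_mul, hg, hf1])) ?_)
    (R.Z_le_Ys ((R.cnj_Z (R.h01_TP _)).le (conj_mem_cnj hz)))
  rw [← mul_assoc]
  exact R.U_b_mem (by rw [map_mul, hg, hg1])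

theorem hω_Ys {x : G} (hx : x ∈ R.Ys) :
    R.A.ρ (h01 0 R.ω) * x * (R.A.ρ (h01 0 R.ω))⁻¹ ∈ R.Ys := by
  obtain ⟨f, g, hf, hg, z, hz, rfl⟩ := hx
  set t := R.A.ρ (h01 0 R.ω)
  have e' : ∀ a, t * R.U a * t⁻¹ = R.U (R.b * a) := fun a => R.h01_U R.ω a
  rw [show t * (R.U f * R.U (g * R.b) * z) * t⁻¹ =
    (t * R.U f * t⁻¹) * (t * R.U (g * R.b) * t⁻¹) * (t * z * t⁻¹) by group, e', e']
  refine mul_mem (mul_mem ?_ ?_) (R.Z_le_Ys ((R.cnj_Z (R.h01_TP _)).le (conj_mem_cnj hz)))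
  · rw [mul_comm]; exact R.U_b_mem hf
  · rw [show R.b * (g * R.b) = g * (R.b * R.b) by ring]; exact R.U_bb hg

theorem U_mem (a : F) : R.U a ∈ R.Ys := by
  by_cases ha : a = 0
  · rw [ha, show R.U 0 = 1 from R.A.Uel_zero _]; exact one_mem _
  obtain ⟨j, hj⟩ := R.hgen (C.σ a) ((map_ne_zero C.σ).2 ha)
  have hpow : ∀ n : ℕ, R.U (R.b ^ n) ∈ R.Ys := by
    intro n
    induction n with
    | zero => rw [pow_zero]; exact R.U_fix_mem (map_one _)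
    | succ n ih =>
      have := R.hω_Ys ih
      rwa [R.h01_U, ← show R.b = C.σ (R.ω : F) from rfl, ← pow_succ'] at this
  have e : a = R.b ^ j := by
    show a = C.σ (R.ω : F) ^ j
    rw [← map_pow, ← hj, C.invol]
  rw [e]
  exact hpow j

theorem u_mem : R.u ∈ R.Ys := by rw [← R.U_one]; exact R.U_mem 1

theorem Ys_long {x : G} (hx : x ∈ R.Ys) {γ : F} (hv : QV Φ 0 γ) (h : R.φ x = qEl Φ (.inl 0) 0 γ) : x ∈ R.Z := by
  obtain ⟨f, g, hf, hg, z, hz, rfl⟩ := hx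
  obtain ⟨γ', hz', ez⟩ := R.toZ2.Z_image.1 z hz
  rcases eps_cases Φ with he | he
  · rw [R.U_eps he, R.U_eps he, one_mul, one_mul]; exact hz
  obtain ⟨h1, e1⟩ := R.U_img f
  obtain ⟨h2, e2⟩ := R.U_img (g * R.b)
  rw [map_mul, map_mul, e1, e2, show R.φ z = qEl Φ (.inl 0) 0 γ' from ez, qEl_mul h1 h2, qEl_mul (h1.mul h2) hz',
    qEl_eq_iff ((h1.mul h2).mul hz') hv] at h
  have hx0 := congrArg (fun y => herm C y Φ.x0) h.1
  simp only [herm_smul_left, show herm C Φ.x0 Φ.x0 = 1 from he, mul_one, he, add_zero] at hx0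
  obtain ⟨rfl, rfl⟩ := coord_unique R.toZ2.hb hf hg hx0
  rw [zero_mul, show R.U 0 = 1 from R.A.Uel_zero _, one_mul, one_mul]
  exact hz

theorem Ys_inj : InjOn' R.φ R.Ys := fun x hx h => by
  refine R.toZ2.Z_inj x (R.Ys_long hx QV.zero (by rw [h, qEl_zero])) h

theorem Ys_img : ∀ x ∈ R.Ys, ∃ a γ, QV Φ a γ ∧ R.φ x = qEl Φ (.inl 0) a γ := by
  rintro _ ⟨f, g, hf, hg, z, hz, rfl⟩
  obtain ⟨h1, e1⟩ := R.U_img f
  obtain ⟨h2, e2⟩ := R.U_img (g * R.b)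
  obtain ⟨γ, hv, e⟩ := R.toZ2.Z_image.1 z hz
  exact ⟨_, _, (h1.mul h2).mul hv, by
    rw [map_mul, map_mul, e1, e2, show R.φ z = qEl Φ (.inl 0) 0 γ from e, qEl_mul h1 h2, qEl_mul (h1.mul h2) hv]⟩

theorem Ys_surj (a γ : F) (h : QV Φ a γ) : ∃ x ∈ R.Ys, R.φ x = qEl Φ (.inl 0) a γ := by
  obtain ⟨h1, e1⟩ := R.U_img a
  have h' : QV Φ (a * eps Φ) γ := by
    unfold QV at *
    rw [map_mul, σ_eps]
    linear_combination h + (a * C.σ a) * (eps Φ + 1) * eps_sq Φ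
  obtain ⟨z, hz, ez⟩ := R.toZ2.Z_image.2 _ (h1.split h')
  refine ⟨_, mul_mem (R.U_mem a) (R.Z_le_Ys hz), ?_⟩
  rw [map_mul, e1, show R.φ z = _ from ez, qEl_mul h1 (h1.split h'), qEl_eq_iff (h1.mul (h1.split h')) h]
  refine ⟨?_, by ring⟩
  rw [add_zero, mul_smul, eps_smul]

end U2

end CfsgLib.SUPres
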