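import Cfsg.Agent.SUPres.TwoBase
import Cfsg.Agent.SUTwoGen.Main

/-!
# The long root group, two indices
-/

set_option autoImplicit false
set_option linter.unusedSectionVars false
set_option linter.unusedSimpArgs false

namespace CfsgLib.SUPres

open Matrix CfsgLib.RepBounds.Unit CfsgLib.SUThreeUnipotent CfsgLib.SUTwoGen CfsgLib.SL2Pres CfsgLib.SLnPres
open CfsgLib.SpnPres (IsMon)
open scoped commutatorElement

variable {F : Type*} [Field F] [Fintype F] {C : ConjField F} {ι : Type*} [Fintype ι] [DecidableEq ι]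

theorem Base.φ_cc' {Φ : PFrame C (0 + 2) ι} {G : Type*} [Group G] (A : Base Φ G) (s : F) :
    A.φ (A.cc 1 1 s) = qEl Φ (.inl 0) 0 (C.σ s - s) := by
  rw [A.φ_cc zero_ne_one'.symm, map_one, one_mul, mul_one]

/-- The relations of the long root group. -/
structure Z2 (Φ : PFrame C (0 + 2) ι) (G : Type*) [Group G] extends Base Φ G where
  ω : Fˣ
  hgen : ∀ t : F, t ≠ 0 → ∃ j : ℕ, t = (ω : F) ^ j
  c11 : toBase.cc 1 1 1 = 1
  z0x1 : Commute (toBase.cc 1 1 (C.σ ω)) (toBase.el (.inr 1) 1)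
  z0xb : Commute (toBase.cc 1 1 (C.σ ω)) (toBase.el (.inr 1) (C.σ ω))
  z0q : Commute (toBase.cc 1 1 (C.σ ω)) toBase.p1
  z0D : Commute (toBase.cc 1 1 (C.σ ω)) (toBase.dd ω)
  hz : ∃ f : F, C.σ f = f ∧
    ρ (h01 0 ω) * toBase.cc 1 1 (C.σ ω) * (ρ (h01 0 ω))⁻¹ = toBase.cc 1 1 (f * C.σ ω)

namespace Z2

variable {Φ : PFrame C (0 + 2) ι} {G : Type*} [Group G] (R : Z2 Φ G)

/-- The monomial data. -/
abbrev A : Base Φ G := R.toBase

/-- The second basis vector. -/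
def b : F := C.σ (R.ω : F)

theorem hb : C.σ R.b ≠ R.b := by
  unfold b
  rw [C.invol]
  exact fun h => CfsgLib.SUTwoGen.gen_not_fixed C R.hgen h.symm

theorem one_ne : (1 : Fin (0 + 2)) ≠ 0 := zero_ne_one'.symm

/-- The long root group at `+0`. -/
def Z : Subgroup G := R.A.Zs 1

/-- Central in the group generated by the root groups at `+0`. -/
def Cen (z : G) : Prop := ∀ d : SI (0 + 2), ix d ≠ 0 → ∀ x ∈ R.A.XP (.inl 0) d, Commute z x

theorem cen_conj {t z : G} (ht : t ∈ R.A.TP) (h : R.Cen z) : R.Cen (t * z * t⁻¹) := by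
  intro d hd x hx
  have m : ∀ d, Mv Φ (R.A.φ t) d d := (R.A.TP_diag ht).2
  rw [← R.A.cnj_XP (R.A.TP_le_N ht) (m (.inl 0)) (m d)] at hx
  obtain ⟨y, hy, rfl⟩ := hx
  exact commute_conj t (h d hd y hy)

theorem cen_z0 : R.Cen (R.A.cc 1 1 R.b) := fun d hd _ hx =>
  R.A.commute_XP_of R.hb R.hgen R.z0x1 R.z0xb R.z0q R.z0D hd hx

theorem cen_one : R.Cen (1 : G) := fun _ _ x _ => Commute.one_left x

theorem cen_mul {z z' : G} (h : R.Cen z) (h' : R.Cen z') : R.Cen (z * z') :=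
  fun d hd x hx => (h d hd x hx).mul_left (h' d hd x hx)

theorem cen_inv {z : G} (h : R.Cen z) : R.Cen z⁻¹ := fun d hd x hx => (h d hd x hx).inv_left

theorem cen_cancel {z z' : G} (h : R.Cen z) (h' : R.Cen (z * z')) : R.Cen z' := by
  have := R.cen_mul (R.cen_inv h) h'
  rwa [inv_mul_cancel_left] at this

theorem cc_zero_right (r : F) : R.A.cc 1 r 0 = 1 := by
  rw [Base.cc, R.A.el_zero (d := .inl 1) one_ne]; simp

theorem cc_zero_left (s : F) : R.A.cc 1 0 s = 1 := by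
  rw [Base.cc, R.A.el_zero (d := .inr 1) one_ne]; simp

theorem cc_add_right' (r s s' : F) (h : R.Cen (R.A.cc 1 r s')) :
    R.A.cc 1 r (s + s') = R.A.cc 1 r s * R.A.cc 1 r s' := by
  rw [Base.cc, R.A.el_add (d := .inl 1) one_ne,
    show ∀ x a c : G, ⁅x, a * c⁆ = ⁅x, a⁆ * (a * ⁅x, c⁆ * a⁻¹) from
      fun x a c => by simp only [commutatorElement_def]; group, ← Base.cc, ← Base.cc,
    (h (.inl 1) one_ne _ (R.A.el_mem (d := .inl 1) one_ne s)).symm.eq, mul_inv_cancel_right]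

theorem cc_add_left' (r r' s : F) (h : R.Cen (R.A.cc 1 r' s)) :
    R.A.cc 1 (r + r') s = R.A.cc 1 r' s * R.A.cc 1 r s := by
  rw [Base.cc, R.A.el_add (d := .inr 1) one_ne,
    show ∀ x y c : G, ⁅x * y, c⁆ = x * ⁅y, c⁆ * x⁻¹ * ⁅x, c⁆ from
      fun x y c => by simp only [commutatorElement_def]; group, ← Base.cc, ← Base.cc,
    (h (.inr 1) one_ne _ (R.A.el_mem (d := .inr 1) one_ne r)).symm.eq, mul_inv_cancel_right]

theorem conj_cc (t : G) (r s : F) :
    t * R.A.cc 1 r s * t⁻¹ = ⁅t * R.A.el (.inr 1) r * t⁻¹, t * R.A.el (.inl 1) s * t⁻¹⁆ := by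
  simp only [Base.cc, commutatorElement_def]; group

/-- The torus fixing the first parameter. -/
theorem kk_cc {y : F} (hy : C.σ y = y) (h0 : y ≠ 0) (s : F) :
    R.A.kk (Units.mk0 y h0)⁻¹ * R.A.cc 1 1 s * (R.A.kk (Units.mk0 y h0)⁻¹)⁻¹ = R.A.cc 1 1 (y * y * s) := by
  rw [R.conj_cc, (R.A.conj_el_kk _ _).1, (R.A.conj_el_kk _ _).2, Units.val_inv_eq_inv_val, Units.val_mk0, inv_inv,
    map_inv₀, hy, mul_inv_cancel₀ h0, one_mul]
  rfl

theorem h01_cc (l : Fˣ) (s : F) : R.ρ (h01 0 l) * R.A.cc 1 1 s * (R.ρ (h01 0 l))⁻¹ =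
    R.A.cc 1 (C.σ l * C.σ l) (C.σ l * (l : F)⁻¹ * s) := by
  show R.A.ρ _ * _ * _ = _
  rw [R.conj_cc, (R.A.conj_el_h01 l 1).1, (R.A.conj_el_h01 l s).2, mul_one]
  rfl

theorem cen_line {s : F} (hs : R.Cen (R.A.cc 1 1 s)) {f : F} (hf : C.σ f = f) : R.Cen (R.A.cc 1 1 (f * s)) := by
  let S : AddSubgroup F :=
    { carrier := {t | R.Cen (R.A.cc 1 1 t)}
      zero_mem' := by
        show R.Cen _
        rw [R.cc_zero_right]; exact R.cen_one
      add_mem' := fun {t t'} ht ht' => by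
        show R.Cen _
        rw [R.cc_add_right' 1 t t' ht']; exact R.cen_mul ht ht'
      neg_mem' := fun {t} ht => by
        show R.Cen _
        have e := R.cc_add_right' 1 (-t) t ht
        rw [neg_add_cancel, R.cc_zero_right] at e
        rw [eq_inv_of_mul_eq_one_left e.symm]
        exact R.cen_inv ht }
  refine sq_fix C S (fun y hy => ?_) hf
  show R.Cen _
  by_cases h0 : y = 0
  · rw [h0, zero_mul, zero_mul, R.cc_zero_right]; exact R.cen_one
  rw [← R.kk_cc hy h0 s]; exact R.cen_conj (R.A.kk_mem_TP _) hs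

theorem cen_all (r s : F) : R.Cen (R.A.cc 1 r s) := by
  have h11 : R.Cen (R.A.cc 1 1 1) := by
    have e : R.A.cc 1 1 1 = 1 := R.c11
    rw [e]; exact R.cen_one
  have h1 : ∀ s, R.Cen (R.A.cc 1 1 s) := fun s => by
    obtain ⟨f, g, hf, hg, rfl⟩ := exists_coord R.hb s
    have e1 := R.cen_line h11 hf
    have e2 := R.cen_line R.cen_z0 hg
    rw [mul_one] at e1
    rw [R.cc_add_right' 1 f (g * R.b) e2]
    exact R.cen_mul e1 e2
  let S : AddSubgroup F :=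
    { carrier := {r | ∀ s, R.Cen (R.A.cc 1 r s)}
      zero_mem' := fun s => by rw [R.cc_zero_left]; exact R.cen_one
      add_mem' := fun {r r'} hr hr' s => by
        rw [R.cc_add_left' r r' s (hr' s)]; exact R.cen_mul (hr' s) (hr s)
      neg_mem' := fun {r} hr s => by
        have e := R.cc_add_left' (-r) r s (hr s)
        rw [neg_add_cancel, R.cc_zero_left] at e
        rw [eq_inv_of_mul_eq_one_right e.symm]
        exact R.cen_inv (hr s) }
  have := sq_all S (s := 1) (fun y s => by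
    by_cases h0 : y = 0
    · rw [h0, zero_mul, zero_mul, R.cc_zero_left]; exact R.cen_one
    have hσ : C.σ y ≠ 0 := (map_ne_zero C.σ).2 h0
    rw [mul_one, show R.A.cc 1 (y * y) s =
      R.ρ (h01 0 (Units.mk0 (C.σ y) hσ)) * R.A.cc 1 1 (s * C.σ y / y) * (R.ρ (h01 0 (Units.mk0 (C.σ y) hσ)))⁻¹ by
        rw [R.h01_cc, Units.val_mk0, C.invol]; congr 1; field_simp]
    exact R.cen_conj (R.A.ρ_mem_TP (h01_mem _)) (h1 _)) r
  rw [mul_one] at this
  exact this s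

theorem cc_add_right (r s s' : F) : R.A.cc 1 r (s + s') = R.A.cc 1 r s * R.A.cc 1 r s' :=
  R.cc_add_right' r s s' (R.cen_all r s')

theorem cc_add_left (r r' s : F) : R.A.cc 1 (r + r') s = R.A.cc 1 r' s * R.A.cc 1 r s :=
  R.cc_add_left' r r' s (R.cen_all r' s)

/-- The long root elements. -/
noncomputable def fz (f : F) : G := R.A.cc 1 1 (f * R.b)

theorem fz_zero : R.fz 0 = 1 := by rw [fz, zero_mul, R.cc_zero_right]

theorem fz_add (f g : F) : R.fz (f + g) = R.fz f * R.fz g := by rw [fz, add_mul, R.cc_add_right]; rfl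

theorem cc_one_fix {f : F} (hf : C.σ f = f) : R.A.cc 1 1 f = 1 := by
  let S : AddSubgroup F :=
    { carrier := {t | R.A.cc 1 1 t = 1}
      zero_mem' := R.cc_zero_right 1
      add_mem' := fun {t t'} (ht : R.A.cc 1 1 t = 1) (ht' : R.A.cc 1 1 t' = 1) => by
        show R.A.cc 1 1 _ = 1
        rw [R.cc_add_right, ht, ht', mul_one]
      neg_mem' := fun {t} (ht : R.A.cc 1 1 t = 1) => by
        show R.A.cc 1 1 _ = 1
        have e := R.cc_add_right 1 (-t) t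
        rwa [neg_add_cancel, R.cc_zero_right, ht, mul_one, eq_comm] at e }
  have := sq_fix C S (s := 1) (fun y hy => by
    show R.A.cc 1 1 _ = 1
    by_cases h0 : y = 0
    · rw [h0, zero_mul, zero_mul]; exact R.cc_zero_right 1
    have e : R.A.cc 1 1 1 = 1 := R.c11
    rw [← R.kk_cc hy h0 1, e, mul_one, mul_inv_cancel]) hf
  rwa [mul_one] at this

theorem fz_neg (f : F) : R.fz (-f) = (R.fz f)⁻¹ :=
  eq_inv_of_mul_eq_one_left (by rw [← R.fz_add, neg_add_cancel, R.fz_zero])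

theorem h01_fz {f : F} (hf : C.σ f = f) :
    ∃ f', C.σ f' = f' ∧ R.ρ (h01 0 R.ω) * R.fz f * (R.ρ (h01 0 R.ω))⁻¹ = R.fz f' := by
  obtain ⟨f0, hf0, e0⟩ := R.hz
  let S : AddSubgroup F :=
    { carrier := {t | R.ρ (h01 0 R.ω) * R.fz t * (R.ρ (h01 0 R.ω))⁻¹ = R.fz (t * f0)}
      zero_mem' := by
        show _ = _
        rw [zero_mul, R.fz_zero, mul_one, mul_inv_cancel]
      add_mem' := fun {t t'} ht ht' => by
        show _ = _
        rw [add_mul, R.fz_add, R.fz_add (t * f0), ← ht, ← ht']; group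
      neg_mem' := fun {t} ht => by
        show _ = _
        rw [neg_mul, R.fz_neg, R.fz_neg, ← ht]; group }
  have := sq_fix C S (s := 1) (fun y hy => by
    show _ = _
    by_cases h0 : y = 0
    · rw [h0, zero_mul, zero_mul, zero_mul, R.fz_zero, mul_one, mul_inv_cancel]
    have h1 : Commute (R.ρ (h01 0 R.ω)) (R.A.kk (Units.mk0 y h0)⁻¹) :=
      R.A.TP_comm (R.A.ρ_mem_TP (h01_mem (k := 0) R.ω)) (R.A.kk_mem_TP _)
    have ha := R.kk_cc hy h0 R.b
    have ha' := R.kk_cc hy h0 (f0 * R.b)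
    generalize R.A.kk (Units.mk0 y h0)⁻¹ = t at h1 ha ha'
    calc R.ρ (h01 0 R.ω) * R.fz (y * y * 1) * (R.ρ (h01 0 R.ω))⁻¹
        = (R.ρ (h01 0 R.ω) * t) * R.A.cc 1 1 R.b * (R.ρ (h01 0 R.ω) * t)⁻¹ := by
          rw [fz, mul_one, ← ha]; group
      _ = t * (R.ρ (h01 0 R.ω) * R.A.cc 1 1 R.b * (R.ρ (h01 0 R.ω))⁻¹) * t⁻¹ := by rw [h1.eq]; group
      _ = t * R.A.cc 1 1 (f0 * R.b) * t⁻¹ := congrArg (fun x => t * x * t⁻¹) e0
      _ = R.fz (y * y * 1 * f0) := by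
          rw [ha', fz]; congr 1; ring) hf
  exact ⟨f * f0, by rw [map_mul, hf, hf0], by rw [mul_one] at this; exact this⟩

theorem cc_mem_fz (r s : F) : ∃ f, C.σ f = f ∧ R.A.cc 1 r s = R.fz f := by
  let S : AddSubgroup F :=
    { carrier := {r | ∀ s, ∃ f, C.σ f = f ∧ R.A.cc 1 r s = R.fz f}
      zero_mem' := fun s => ⟨0, map_zero _, by rw [R.cc_zero_left, R.fz_zero]⟩
      add_mem' := fun {r r'} hr hr' s => by
        obtain ⟨f, hf, e⟩ := hr s
        obtain ⟨f', hf', e'⟩ := hr' s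
        exact ⟨f' + f, by rw [map_add, hf, hf'], by rw [R.cc_add_left, e, e', R.fz_add]⟩
      neg_mem' := fun {r} hr s => by
        obtain ⟨f, hf, e⟩ := hr s
        refine ⟨-f, by rw [map_neg, hf], ?_⟩
        have e2 := R.cc_add_left (-r) r s
        rw [neg_add_cancel, R.cc_zero_left, e] at e2
        rw [R.fz_neg]; exact eq_inv_of_mul_eq_one_right e2.symm }
  have h1 : ∀ s, ∃ f, C.σ f = f ∧ R.A.cc 1 1 s = R.fz f := fun s => by
    obtain ⟨f, g, hf, hg, rfl⟩ := exists_coord R.hb s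
    exact ⟨g, hg, by rw [R.cc_add_right, R.cc_one_fix hf, one_mul]; rfl⟩
  have hpow : ∀ (n : ℕ) (f : F), C.σ f = f → ∃ f', C.σ f' = f' ∧
      R.ρ (h01 0 R.ω) ^ n * R.fz f * (R.ρ (h01 0 R.ω) ^ n)⁻¹ = R.fz f' := by
    intro n
    induction n with
    | zero => intro f hf; exact ⟨f, hf, by simp⟩
    | succ n ih =>
      intro f hf
      obtain ⟨f', hf', e⟩ := ih f hf
      obtain ⟨f'', hf'', e'⟩ := R.h01_fz hf'
      exact ⟨f'', hf'', by rw [← e', ← e, pow_succ']; group⟩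
  have := sq_all S (s := 1) (fun y s => by
    by_cases h0 : y = 0
    · exact ⟨0, map_zero _, by rw [h0, zero_mul, zero_mul, R.cc_zero_left, R.fz_zero]⟩
    have hσ : C.σ y ≠ 0 := (map_ne_zero C.σ).2 h0
    obtain ⟨n, hn⟩ := R.hgen (C.σ y) hσ
    have hl : Units.mk0 (C.σ y) hσ = R.ω ^ n := Units.ext (by rw [Units.val_pow_eq_pow_val]; exact hn)
    obtain ⟨f, hf, e⟩ := h1 (s * C.σ y / y)
    obtain ⟨f', hf', e'⟩ := hpow n f hf
    refine ⟨f', hf', ?_⟩
    rw [← e', ← e, ← map_pow, ← map_pow, ← hl, R.h01_cc, Units.val_mk0, C.invol, mul_one]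
    congr 1
    field_simp) r
  rw [mul_one] at this
  exact this s

theorem Z_form {x : G} (hx : x ∈ R.Z) : ∃ f, C.σ f = f ∧ x = R.fz f := by
  let K : Subgroup G :=
    { carrier := {x | ∃ f, C.σ f = f ∧ x = R.fz f}
      one_mem' := ⟨0, map_zero _, R.fz_zero.symm⟩
      mul_mem' := by
        rintro _ _ ⟨f, hf, rfl⟩ ⟨g, hg, rfl⟩
        exact ⟨f + g, by rw [map_add, hf, hg], (R.fz_add f g).symm⟩
      inv_mem' := by
        rintro _ ⟨f, hf, rfl⟩
        exact ⟨-f, by rw [map_neg, hf], (R.fz_neg f).symm⟩ }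
  refine (Subgroup.commutator_le.2 fun a ha c hc => ?_ : R.A.Zs 1 ≤ K) hx
  obtain ⟨r, rfl⟩ := R.A.el_surj (d := .inr 1) one_ne ha
  obtain ⟨s, rfl⟩ := R.A.el_surj (d := .inl 1) one_ne hc
  exact R.cc_mem_fz r s

theorem fz_mem (f : F) : R.fz f ∈ R.Z := R.A.cc_mem one_ne _ _

theorem φ_fz {f : F} (hf : C.σ f = f) : R.φ (R.fz f) = qEl Φ (.inl 0) 0 (f * (C.σ R.b - R.b)) := by
  show R.A.φ (R.A.cc 1 1 _) = _
  rw [Base.φ_cc', map_mul, hf, mul_sub]

theorem Z_inj : InjOn' R.φ R.Z := fun x hx h => by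
  obtain ⟨f, hf, rfl⟩ := R.Z_form hx
  have hne : C.σ R.b - R.b ≠ 0 := sub_ne_zero.2 R.hb
  rw [R.φ_fz hf, ← qEl_zero (Φ := Φ) (.inl 0),
    qEl_eq_iff (qv_zero_iff.2 (by rw [map_mul, hf, map_sub, C.invol]; ring)) QV.zero] at h
  rw [(mul_eq_zero.1 h.2).resolve_right hne, R.fz_zero]

theorem Z_image : (∀ z ∈ R.Z, ∃ γ, QV Φ 0 γ ∧ R.φ z = qEl Φ (.inl 0) 0 γ) ∧
    ∀ γ, QV Φ 0 γ → ∃ z ∈ R.Z, R.φ z = qEl Φ (.inl 0) 0 γ := by
  have hne : C.σ R.b - R.b ≠ 0 := sub_ne_zero.2 R.hb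
  refine ⟨fun z hz => ?_, fun γ hγ => ?_⟩
  · obtain ⟨f, hf, rfl⟩ := R.Z_form hz
    exact ⟨_, qv_zero_iff.2 (by rw [map_mul, hf, map_sub, C.invol]; ring), R.φ_fz hf⟩
  · refine ⟨_, R.fz_mem (γ / (C.σ R.b - R.b)), ?_⟩
    rw [R.φ_fz, div_mul_cancel₀ _ hne]
    rw [map_div₀, map_sub, C.invol, qv_zero_iff.1 hγ, ← neg_sub (C.σ R.b), neg_div_neg_eq]

theorem Z_cen {z : G} (hz : z ∈ R.Z) : R.Cen z := by
  obtain ⟨f, -, rfl⟩ := R.Z_form hz
  exact R.cen_all 1 _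

theorem Z_comm {z z' : G} (hz : z ∈ R.Z) (hz' : z' ∈ R.Z) : Commute z z' := by
  refine (Subgroup.mem_centralizer_singleton_iff.1 ((Subgroup.commutator_le.2 fun a ha c hc => ?_ :
    R.A.Zs 1 ≤ Subgroup.centralizer {z}) hz')).symm
  have c1 := R.Z_cen hz (.inr 1) one_ne a ha
  have c2 := R.Z_cen hz (.inl 1) one_ne c hc
  rw [Subgroup.mem_centralizer_singleton_iff, commutatorElement_def]
  exact (((c1.mul_right c2).mul_right c1.inv_right).mul_right c2.inv_right).eq.symm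

end Z2

end CfsgLib.SUPres
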